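import Cfsg.Agent.Lib.Classical.Quad.Eichler
import Mathlib.GroupTheory.SpecificGroups.Alternating

/-!
Signed permutations inside the isometry group of a sum of squares.
-/

set_option autoImplicit false

namespace CfsgLib.Geo.Frame

open CfsgLib.Classical CfsgLib.Classical.Quad
open QuadraticMap (polar polarBilin)

variable {F : Type*} [Field F] {ι : Type*} [Fintype ι] [DecidableEq ι]

/-- A diagonal quadratic form. -/
abbrev wQ (w : ι → F) : QuadraticForm F (ι → F) := QuadraticMap.weightedSumSquares F w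

/-- The sum of squares. -/
abbrev fQ (F : Type*) [Field F] (ι : Type*) [Fintype ι] : QuadraticForm F (ι → F) :=
  QuadraticMap.weightedSumSquares F (1 : ι → F)

/-- A coordinate vector. -/
abbrev ee (i : ι) : ι → F := Pi.single i 1

omit [DecidableEq ι] in
theorem wQ_apply (w x : ι → F) : wQ w x = ∑ i, w i * (x i * x i) := by
  simp [wQ, QuadraticMap.weightedSumSquares_apply]

omit [DecidableEq ι] in
theorem polar_wQ (w x y : ι → F) : polar (wQ w) x y = 2 * ∑ i, w i * (x i * y i) := by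
  simp only [polar, wQ_apply, Pi.add_apply, Finset.mul_sum, ← Finset.sum_sub_distrib]
  exact Finset.sum_congr rfl fun i _ => by ring

omit [DecidableEq ι] in
theorem fQ_apply (x : ι → F) : fQ F ι x = x ⬝ᵥ x := by
  rw [fQ, show QuadraticMap.weightedSumSquares F (1 : ι → F) = wQ 1 from rfl, wQ_apply]
  simp [dotProduct]

omit [DecidableEq ι] in
theorem polar_fQ (x y : ι → F) : polar (fQ F ι) x y = 2 * (x ⬝ᵥ y) := by
  rw [fQ, show QuadraticMap.weightedSumSquares F (1 : ι → F) = wQ 1 from rfl, polar_wQ]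
  simp [dotProduct]

theorem wQ_nondegenerate (h2 : (2 : F) ≠ 0) {w : ι → F} (hw : ∀ i, w i ≠ 0) :
    (polarBilin (wQ w)).Nondegenerate := by
  have key : ∀ v, (∀ z, polar (wQ w) v z = 0) → v = 0 := fun v hv => funext fun i => by
    have := hv (ee i)
    rw [polar_wQ, Finset.sum_eq_single i (fun j _ hj => by simp [hj]) (by simp)] at this
    simpa [h2, hw i] using this
  exact ⟨fun v hv => key v fun z => hv z,
    fun v hv => key v fun z => by rw [QuadraticMap.polar_comm]; exact hv z⟩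

theorem fQ_nondegenerate (h2 : (2 : F) ≠ 0) : (polarBilin (fQ F ι)).Nondegenerate :=
  wQ_nondegenerate h2 fun _ => one_ne_zero

omit [Fintype ι] in
theorem ee_self (i : ι) : (ee i : ι → F) i = 1 := Pi.single_eq_same _ _

omit [Fintype ι] in
theorem ee_ne {i j : ι} (h : j ≠ i) : (ee i : ι → F) j = 0 := Pi.single_eq_of_ne h _

theorem fQ_ee (i : ι) : fQ F ι (ee i) = 1 := by
  rw [fQ_apply, dotProduct_single, mul_one, ee_self]

theorem dot_ee (x : ι → F) (i : ι) : x ⬝ᵥ ee i = x i := by rw [dotProduct_single, mul_one]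

theorem ee_dot (x : ι → F) (i : ι) : ee i ⬝ᵥ x = x i := by rw [single_dotProduct, one_mul]

/-! ### The action -/

section Action

variable {V : Type*} [AddCommGroup V] [Module F V] {Q : QuadraticForm F V}

theorem smul_def (g : OQ Q) (x : V) : g • x = (g : V ≃ₗ[F] V) x := rfl

theorem gsmul_smul (g : OQ Q) (c : F) (x : V) : g • c • x = c • g • x :=
  map_smul (g : V ≃ₗ[F] V) c x

theorem gsmul_neg (g : OQ Q) (x : V) : g • -x = -(g • x) := map_neg (g : V ≃ₗ[F] V) x

theorem gsmul_sub (g : OQ Q) (x y : V) : g • (x - y) = g • x - g • y :=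
  map_sub (g : V ≃ₗ[F] V) x y

theorem gsmul_sum (g : OQ Q) {α : Type*} (s : Finset α) (f : α → V) :
    g • ∑ i ∈ s, f i = ∑ i ∈ s, g • f i :=
  map_sum (g : V ≃ₗ[F] V) f s

theorem eq_of_smul {g h : OQ Q} (H : ∀ x : V, g • x = h • x) : g = h :=
  Subtype.ext (LinearEquiv.ext H)

theorem apply_gsmul (g : OQ Q) (x : V) : Q (g • x) = Q x := OQ.map_apply g x

end Action

theorem expand (x : ι → F) : x = ∑ i, x i • ee i := by
  funext m
  rw [Finset.sum_apply, Finset.sum_eq_single m (fun j _ hj => by simp [hj.symm]) (by simp)]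
  simp

variable {w : ι → F}

theorem gsmul_apply_sum (g : OQ (wQ w)) (x : ι → F) (m : ι) :
    (g • x) m = ∑ i, x i * (g • ee i : ι → F) m := by
  conv_lhs => rw [expand x, gsmul_sum]
  simp [gsmul_smul]

theorem eq_of_smul_ee {g h : OQ (wQ w)} (H : ∀ i, g • (ee i : ι → F) = h • ee i) : g = h :=
  eq_of_smul fun x => funext fun m => by
    rw [gsmul_apply_sum g, gsmul_apply_sum h]
    exact Finset.sum_congr rfl fun i _ => by rw [H i]

/-- The sign change on the coordinates in `T`. -/
def flipO (w : ι → F) (T : Finset ι) : OQ (wQ w) :=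
  ⟨LinearEquiv.piCongrRight fun i => if i ∈ T then LinearEquiv.neg F else LinearEquiv.refl F F, by
    rw [mem_OQ]
    intro x
    rw [wQ_apply, wQ_apply]
    refine Finset.sum_congr rfl fun i _ => ?_
    by_cases h : i ∈ T <;> simp [h]⟩

theorem flipO_apply (T : Finset ι) (x : ι → F) (i : ι) :
    (flipO w T • x) i = if i ∈ T then -x i else x i := by
  show (if i ∈ T then LinearEquiv.neg F else LinearEquiv.refl F F) (x i) = _
  by_cases h : i ∈ T <;> simp [h]

theorem flipO_mul (T T' : Finset ι) : flipO w T * flipO w T' = flipO w (symmDiff T T') := by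
  refine eq_of_smul fun x => funext fun i => ?_
  rw [mul_smul, flipO_apply, flipO_apply, flipO_apply]
  by_cases h : i ∈ T <;> by_cases h' : i ∈ T' <;> simp [h, h', Finset.mem_symmDiff]

theorem flipO_empty : flipO w ∅ = 1 := eq_of_smul fun x => funext fun i => by
  rw [flipO_apply, one_smul, if_neg (Finset.notMem_empty _)]

theorem flipO_sq (T : Finset ι) : flipO w T * flipO w T = 1 := by
  rw [flipO_mul, symmDiff_self, Finset.bot_eq_empty, flipO_empty]

theorem flipO_inv (T : Finset ι) : (flipO w T)⁻¹ = flipO w T :=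
  inv_eq_of_mul_eq_one_right (flipO_sq T)

theorem flipO_ee_mem {T : Finset ι} {i : ι} (h : i ∈ T) : flipO w T • (ee i : ι → F) = -ee i := by
  funext j
  rw [flipO_apply]
  rcases eq_or_ne j i with rfl | hj
  · simp [h]
  · split_ifs <;> simp [hj]

theorem flipO_ee_notMem {T : Finset ι} {i : ι} (h : i ∉ T) : flipO w T • (ee i : ι → F) = ee i := by
  funext j
  rw [flipO_apply]
  rcases eq_or_ne j i with rfl | hj
  · simp [h]
  · split_ifs <;> simp [hj]

theorem flipO_injective (h2 : (2 : F) ≠ 0) : Function.Injective (flipO w) := by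
  intro T T' h
  ext i
  by_contra hne
  have := congrArg (fun g : OQ (wQ w) => (g • (ee i : ι → F)) i) h
  simp only [flipO_apply, ee_self] at this
  rcases (by tauto : (i ∈ T ∧ i ∉ T') ∨ (i ∉ T ∧ i ∈ T')) with ⟨a, b⟩ | ⟨a, b⟩
  · rw [if_pos a, if_neg b] at this
    exact h2 (by linear_combination -this)
  · rw [if_neg a, if_pos b] at this
    exact h2 (by linear_combination this)

/-- Something supported in `T` stays so under a map commuting with the sign change on `T`. -/
theorem supp_of_commute (h2 : (2 : F) ≠ 0) {g : OQ (wQ w)} {T : Finset ι}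
    (hc : Commute g (flipO w T)) {x : ι → F} (hx : ∀ m ∉ T, x m = 0) :
    ∀ m ∉ T, (g • x) m = 0 := by
  intro m hm
  have hfx : flipO w T • x = -x := funext fun i => by
    rw [flipO_apply]
    split_ifs with h
    · rfl
    · simp [hx i h]
  have h := congrArg (fun v : ι → F => v m)
    (show flipO w T • g • x = g • flipO w T • x by rw [← mul_smul, ← mul_smul, hc.eq])
  simp only [flipO_apply, if_neg hm, hfx, gsmul_neg, Pi.neg_apply] at h
  exact (mul_eq_zero.1 (show (2 : F) * (g • x) m = 0 by linear_combination h)).resolve_left h2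

theorem supp_compl_of_commute (h2 : (2 : F) ≠ 0) {g : OQ (wQ w)} {T : Finset ι}
    (hc : Commute g (flipO w T)) {x : ι → F} (hx : ∀ m ∈ T, x m = 0) :
    ∀ m ∈ T, (g • x) m = 0 := by
  intro m hm
  have hfx : flipO w T • x = x := funext fun i => by
    rw [flipO_apply]
    split_ifs with h
    · simp [hx i h]
    · rfl
  have h := congrArg (fun v : ι → F => v m)
    (show flipO w T • g • x = g • flipO w T • x by rw [← mul_smul, ← mul_smul, hc.eq])
  simp only [flipO_apply, if_pos hm, hfx] at h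
  exact (mul_eq_zero.1 (show (2 : F) * (g • x) m = 0 by linear_combination -h)).resolve_left h2

/-- A map with the block shape of `T` commutes with the sign change on `T`. -/
theorem commute_flipO {g : OQ (wQ w)} {T : Finset ι}
    (h : ∀ i m, ¬ (i ∈ T ↔ m ∈ T) → (g • ee i : ι → F) m = 0) : Commute g (flipO w T) := by
  refine eq_of_smul_ee fun i => funext fun m => ?_
  rw [mul_smul, mul_smul, flipO_apply]
  by_cases hi : i ∈ T
  · rw [flipO_ee_mem hi, gsmul_neg, Pi.neg_apply]
    split_ifs with hm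
    · rfl
    · rw [h i m (by tauto), neg_zero]
  · rw [flipO_ee_notMem hi]
    split_ifs with hm
    · rw [h i m (by tauto), neg_zero]
    · rfl

theorem card_le_of_linearMap {α β : Type*} [Fintype α] [Fintype β] (f : (α → F) →ₗ[F] (β → F))
    (hf : ∀ c, f c = 0 → c = 0) : Fintype.card α ≤ Fintype.card β := by
  have := LinearMap.finrank_le_finrank_of_injective ((injective_iff_map_eq_zero f).2 hf)
  rwa [Module.finrank_pi, Module.finrank_pi] at this

theorem card_le_of_maps (g : OQ (wQ w)) {T T' : Finset ι}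
    (h : ∀ i ∈ T, ∀ m ∉ T', (g • ee i : ι → F) m = 0) : T.card ≤ T'.card := by
  let A : (T → F) →ₗ[F] (ι → F) := ∑ i : T, (LinearMap.proj i).smulRight (ee (i : ι))
  have hA : ∀ c m, A c m = if hm : m ∈ T then c ⟨m, hm⟩ else 0 := by
    intro c m
    simp only [A, LinearMap.coe_sum, Finset.sum_apply, LinearMap.smulRight_apply,
      LinearMap.coe_proj, Function.eval, Pi.smul_apply, smul_eq_mul]
    split_ifs with hm
    · rw [Finset.sum_eq_single ⟨m, hm⟩ (fun j _ hj => by
        rw [ee_ne fun e => hj (Subtype.ext e.symm), mul_zero]) (by simp), ee_self, mul_one]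
    · exact Finset.sum_eq_zero fun j _ => by
        rw [ee_ne fun e : m = _ => hm (e ▸ j.2), mul_zero]
  have hout : ∀ c, ∀ m ∉ T', ((g : (ι → F) ≃ₗ[F] (ι → F)) (A c)) m = 0 := by
    intro c m hm
    show (g • A c) m = 0
    rw [gsmul_apply_sum]
    refine Finset.sum_eq_zero fun i _ => ?_
    by_cases hi : i ∈ T
    · rw [h i hi m hm, mul_zero]
    · rw [hA, dif_neg hi, zero_mul]
  let f : (T → F) →ₗ[F] (T' → F) :=
    (LinearMap.funLeft F F (Subtype.val : T' → ι)).comp
      (((g : (ι → F) ≃ₗ[F] (ι → F)) : (ι → F) →ₗ[F] (ι → F)).comp A)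
  have key := card_le_of_linearMap f fun c hc => by
    have h0 : (g : (ι → F) ≃ₗ[F] (ι → F)) (A c) = 0 := funext fun m => by
      by_cases hm : m ∈ T'
      · exact congrFun hc ⟨m, hm⟩
      · exact hout c m hm
    rw [LinearEquiv.map_eq_zero_iff] at h0
    funext i
    have := congrFun h0 i
    rwa [hA, dif_pos i.2] at this
  rwa [Fintype.card_coe, Fintype.card_coe] at key

theorem card_eq_of_conj (h2 : (2 : F) ≠ 0) (g : OQ (wQ w)) {T T' : Finset ι}
    (h : g * flipO w T * g⁻¹ = flipO w T') : T.card = T'.card := by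
  have one : ∀ (g : OQ (wQ w)) (T T' : Finset ι), g * flipO w T * g⁻¹ = flipO w T' →
      T.card ≤ T'.card := by
    intro g T T' h
    refine card_le_of_maps g fun i hi m hm => ?_
    have h' := congrArg (fun x : OQ (wQ w) => (x • g • (ee i : ι → F)) m) h
    simp only [mul_smul, inv_smul_smul, flipO_ee_mem hi, gsmul_neg, Pi.neg_apply, flipO_apply,
      if_neg hm] at h'
    exact (mul_eq_zero.1 (show (2 : F) * (g • ee i : ι → F) m = 0 by
      linear_combination -h')).resolve_left h2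
  exact le_antisymm (one g T T' h) (one g⁻¹ T' T (by rw [← h]; group))

/-! ### The sum of squares -/

theorem dot_gsmul (h2 : (2 : F) ≠ 0) (g : OQ (fQ F ι)) (x y : ι → F) :
    g • x ⬝ᵥ g • y = x ⬝ᵥ y := by
  have h := OQ.map_polar g x y
  rw [polar_fQ, polar_fQ] at h
  exact mul_left_cancel₀ h2 h

theorem transpose (h2 : (2 : F) ≠ 0) (g : OQ (fQ F ι)) (i m : ι) :
    (g • ee i : ι → F) m = (g⁻¹ • ee m : ι → F) i := by
  have h := dot_gsmul h2 g (ee i) (g⁻¹ • ee m)
  rwa [smul_inv_smul, dot_ee, ee_dot] at h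

theorem dot_smul_ee (h2 : (2 : F) ≠ 0) (g : OQ (fQ F ι)) (i : ι) :
    (g • ee i : ι → F) ⬝ᵥ g • ee i = 1 := by
  rw [dot_gsmul h2, dot_ee, ee_self]

/-- The conjugate of a sign change is a reflection. -/
theorem conj_flip_single (h2 : (2 : F) ≠ 0) (g : OQ (fQ F ι)) (i : ι) (y : ι → F) :
    (g * flipO (1 : ι → F) {i} * g⁻¹) • y = y - (2 * (y ⬝ᵥ g • ee i)) • g • ee i := by
  have h0 : ∀ x : ι → F, flipO (1 : ι → F) {i} • x = x - (2 * x i) • ee i := fun x =>
    funext fun j => by
      rw [flipO_apply]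
      rcases eq_or_ne j i with rfl | hj
      · simp; ring
      · simp [hj]
  rw [mul_smul, mul_smul, h0, gsmul_sub, gsmul_smul, smul_inv_smul]
  congr 2
  rw [← dot_ee (g⁻¹ • y) i, ← dot_gsmul h2 g (g⁻¹ • y) (ee i), smul_inv_smul]

/-- A permutation of coordinates. -/
def permO (F : Type*) [Field F] : Equiv.Perm ι →* OQ (fQ F ι) where
  toFun π := ⟨LinearEquiv.funCongrLeft F F π.symm, by
    rw [mem_OQ]
    intro x
    rw [fQ_apply, fQ_apply]
    exact Equiv.sum_comp π.symm fun i => x i * x i⟩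
  map_one' := Subtype.ext (LinearEquiv.ext fun _ => rfl)
  map_mul' _ _ := Subtype.ext (LinearEquiv.ext fun _ => rfl)

theorem permO_apply (π : Equiv.Perm ι) (x : ι → F) (i : ι) : (permO F π • x) i = x (π.symm i) :=
  rfl

theorem permO_ee (π : Equiv.Perm ι) (i : ι) : permO F π • (ee i : ι → F) = ee (π i) := by
  funext j
  rw [permO_apply]
  rcases eq_or_ne j (π i) with rfl | hj
  · simp
  · rw [ee_ne hj, ee_ne fun e => hj (by rw [← e, Equiv.apply_symm_apply])]

/-! ### Monomial elements -/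

/-- An isometry sending each coordinate line to a coordinate line, by the permutation `π`. -/
def MonBy (g : OQ (fQ F ι)) (π : Equiv.Perm ι) : Prop :=
  ∀ i, g • (ee i : ι → F) = ee (π i) ∨ g • (ee i : ι → F) = -ee (π i)

/-- A signed permutation. -/
def IsMon (g : OQ (fQ F ι)) : Prop := ∃ π, MonBy g π

/-- Support inside one coordinate line. -/
def Axis (v : ι → F) : Prop := ∃ a, ∀ l ≠ a, v l = 0

theorem MonBy.mul {g h : OQ (fQ F ι)} {π ρ : Equiv.Perm ι} (hg : MonBy g π) (hh : MonBy h ρ) :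
    MonBy (g * h) (π * ρ) := fun i => by
  rw [mul_smul, Equiv.Perm.mul_apply]
  rcases hh i with e | e <;> rcases hg (ρ i) with e' | e' <;> simp [e, e', gsmul_neg]

theorem MonBy.inv {g : OQ (fQ F ι)} {π : Equiv.Perm ι} (hg : MonBy g π) : MonBy g⁻¹ π⁻¹ := fun i => by
  rcases hg (π⁻¹ i) with e | e <;> rw [Equiv.Perm.inv_def] at * <;>
    rw [Equiv.apply_symm_apply] at e
  · left; rw [← e, inv_smul_smul]
  · right; rw [inv_smul_eq_iff, gsmul_neg, e, neg_neg]

theorem monBy_one : MonBy (1 : OQ (fQ F ι)) 1 := fun i => Or.inl (one_smul _ _)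

theorem monBy_flip (T : Finset ι) : MonBy (flipO (1 : ι → F) T) 1 := fun i => by
  by_cases h : i ∈ T
  · exact Or.inr (flipO_ee_mem h)
  · exact Or.inl (flipO_ee_notMem h)

theorem monBy_perm (π : Equiv.Perm ι) : MonBy (permO F π) π := fun i => Or.inl (permO_ee π i)

theorem IsMon.mul {g h : OQ (fQ F ι)} (hg : IsMon g) (hh : IsMon h) : IsMon (g * h) :=
  ⟨_, hg.choose_spec.mul hh.choose_spec⟩

theorem IsMon.inv {g : OQ (fQ F ι)} (hg : IsMon g) : IsMon g⁻¹ := ⟨_, hg.choose_spec.inv⟩

theorem isMon_flip (T : Finset ι) : IsMon (flipO (1 : ι → F) T) := ⟨1, monBy_flip T⟩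

theorem isMon_perm (π : Equiv.Perm ι) : IsMon (permO F π) := ⟨π, monBy_perm π⟩

theorem IsMon.of_mul_left {g h : OQ (fQ F ι)} (hg : IsMon g) (hgh : IsMon (g * h)) : IsMon h := by
  simpa using hg.inv.mul hgh

theorem IsMon.of_mul_right {g h : OQ (fQ F ι)} (hh : IsMon h) (hgh : IsMon (g * h)) : IsMon g := by
  simpa using hgh.mul hh.inv

theorem MonBy.unique {g : OQ (fQ F ι)} {π ρ : Equiv.Perm ι} (h : MonBy g π) (h' : MonBy g ρ) :
    π = ρ := Equiv.ext fun i => by
  by_contra hne
  have h1 : (g • ee i : ι → F) (π i) = 0 := by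
    rcases h' i with e | e <;> simp [e, ee_ne hne]
  rcases h i with e | e <;> rw [e] at h1 <;> simp at h1

theorem MonBy.axis {g : OQ (fQ F ι)} {π : Equiv.Perm ι} (h : MonBy g π) (i : ι) :
    Axis (g • ee i : ι → F) :=
  ⟨π i, fun l hl => by rcases h i with e | e <;> simp [e, ee_ne hl]⟩

theorem Axis.eq_ee {v : ι → F} (h : Axis v) (hv : v ⬝ᵥ v = 1) : ∃ a, v = ee a ∨ v = -ee a := by
  obtain ⟨a, ha⟩ := h
  refine ⟨a, ?_⟩
  have h1 : v a * v a = 1 := by
    rw [← hv, dotProduct, Finset.sum_eq_single a (fun l _ hl => by rw [ha l hl, mul_zero]) (by simp)]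
  rcases mul_self_eq_one_iff.1 h1 with h | h
  · left; funext l; rcases eq_or_ne l a with rfl | hl <;> simp [*]
  · right; funext l; rcases eq_or_ne l a with rfl | hl <;> simp [*]

theorem isMon_of_axis (h2 : (2 : F) ≠ 0) {g : OQ (fQ F ι)} (h : ∀ i, Axis (g • ee i : ι → F)) :
    IsMon g := by
  choose a ha using fun i => (h i).eq_ee (dot_smul_ee h2 g i)
  have hinj : Function.Injective a := fun i j hij => by
    by_contra hne
    have h1 := dot_gsmul h2 g (ee i) (ee j)
    rw [dot_ee, ee_ne (Ne.symm hne)] at h1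
    rcases ha i with e | e <;> rcases ha j with e' | e' <;> rw [e, e', hij] at h1 <;>
      simp [dot_ee] at h1
  exact ⟨Equiv.ofBijective a (Finite.injective_iff_bijective.1 hinj), fun i => ha i⟩

theorem MonBy.apply {g : OQ (fQ F ι)} {π : Equiv.Perm ι} (h : MonBy g π) (h2 : (2 : F) ≠ 0)
    (x : ι → F) (i : ι) : (g • x) (π i) = x i ∨ (g • x) (π i) = -x i := by
  have key := dot_gsmul h2 g x (ee i)
  rw [dot_ee] at key
  rcases h i with e | e <;> rw [e] at key
  · left; rwa [dot_ee] at key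
  · right; rw [dotProduct_neg, dot_ee] at key; linear_combination -key

theorem MonBy.conj_flip {g : OQ (fQ F ι)} {π : Equiv.Perm ι} (h : MonBy g π) (T : Finset ι) :
    g * flipO (1 : ι → F) T * g⁻¹ = flipO (1 : ι → F) (T.image π) := by
  refine eq_of_smul_ee (w := (1 : ι → F)) fun i => ?_
  obtain ⟨j, rfl⟩ := π.surjective i
  have hj : g⁻¹ • (ee (π j) : ι → F) = ee j ∨ g⁻¹ • (ee (π j) : ι → F) = -ee j := by
    simpa using h.inv (π j)
  have hmem : π j ∈ T.image π ↔ j ∈ T := by simp
  rw [mul_smul, mul_smul]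
  by_cases hT : j ∈ T
  · rw [flipO_ee_mem (hmem.2 hT)]
    rcases hj with e | e <;> rw [e] <;> simp only [gsmul_neg, flipO_ee_mem hT] <;>
      rw [inv_smul_eq_iff] at e <;> simp [e, gsmul_neg]
  · rw [flipO_ee_notMem fun hh => hT (hmem.1 hh)]
    rcases hj with e | e <;> rw [e] <;> simp only [gsmul_neg, flipO_ee_notMem hT] <;>
      rw [inv_smul_eq_iff] at e <;> simp [e, gsmul_neg]

/-- Support of size at most two, with coordinates of equal square. -/
def Shape (v : ι → F) : Prop :=
  Axis v ∨ ∃ a b, a ≠ b ∧ (∀ l, l ≠ a → l ≠ b → v l = 0) ∧ 2 * v a ^ 2 = 1 ∧ 2 * v b ^ 2 = 1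

/-- A vector whose reflection is a signed permutation. -/
theorem shape_of_axis (h2 : (2 : F) ≠ 0) {u : ι → F} (hu : u ⬝ᵥ u = 1)
    (h : ∀ i, Axis ((ee i : ι → F) - (2 * u i) • u)) : Shape u := by
  obtain ⟨a, ha⟩ : ∃ a, u a ≠ 0 := by
    by_contra! hc
    exact one_ne_zero (hu.symm.trans (Finset.sum_eq_zero fun l _ => by rw [hc l, zero_mul]))
  by_cases hx : ∀ l ≠ a, u l = 0
  · exact Or.inl ⟨a, hx⟩
  push Not at hx
  obtain ⟨b, hba, hb⟩ := hx
  have key : ∀ i j, i ≠ j → u i ≠ 0 → u j ≠ 0 →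
      2 * u i ^ 2 = 1 ∧ ∀ l, l ≠ i → l ≠ j → u l = 0 := by
    intro i j hij hi hj
    obtain ⟨c, hc⟩ := h i
    have hcj : c = j := by
      by_contra hne
      have := hc j (Ne.symm hne)
      simp [ee_ne hij.symm, hj, hi, h2] at this
    subst hcj
    refine ⟨?_, fun l hli hlc => ?_⟩
    · have := hc i hij
      simp at this
      linear_combination -this
    · have := hc l hlc
      simpa [ee_ne hli, hi, h2] using this
  obtain ⟨h1, hz⟩ := key a b hba.symm ha hb
  exact Or.inr ⟨a, b, hba.symm, hz, h1, (key b a hba hb ha).1⟩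

theorem shape_of_isMon (h2 : (2 : F) ≠ 0) {g : OQ (fQ F ι)} {i : ι}
    (h : IsMon (g * flipO (1 : ι → F) {i} * g⁻¹)) : Shape (g • ee i : ι → F) := by
  obtain ⟨π, hπ⟩ := h
  refine shape_of_axis h2 (dot_smul_ee h2 g i) fun m => ?_
  have := hπ.axis m
  rwa [conj_flip_single h2, ee_dot] at this

/-! ### Groups containing the even monomial elements -/

/-- A group containing all even permutations and all sign changes in pairs. -/
structure IsFrame (K : Subgroup (OQ (fQ F ι))) : Prop where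
  perm : ∀ π : Equiv.Perm ι, Equiv.Perm.sign π = 1 → permO F π ∈ K
  pair : ∀ i j, i ≠ j → flipO (1 : ι → F) {i} * flipO (1 : ι → F) {j} ∈ K

variable {K : Subgroup (OQ (fQ F ι))}

theorem IsFrame.flip_single_mul (hK : IsFrame K) (i j : ι) :
    flipO (1 : ι → F) {i} * flipO (1 : ι → F) {j} ∈ K := by
  rcases eq_or_ne i j with rfl | h
  · rw [flipO_sq]; exact one_mem K
  · exact hK.pair i j h

theorem IsFrame.flip_mem (hK : IsFrame K) {T : Finset ι} (hT : Even T.card) :
    flipO (1 : ι → F) T ∈ K := by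
  induction T using Finset.strongInduction with
  | H T ih =>
    rcases T.eq_empty_or_nonempty with rfl | ⟨a, ha⟩
    · rw [flipO_empty]; exact one_mem K
    obtain ⟨b, hb⟩ : (T.erase a).Nonempty := by
      rw [← Finset.card_pos, Finset.card_erase_of_mem ha]
      have := Finset.card_pos.2 ⟨a, ha⟩
      obtain ⟨k, hk⟩ := hT
      omega
    have hab : b ≠ a := (Finset.mem_erase.1 hb).1
    have hbT : b ∈ T := (Finset.mem_erase.1 hb).2
    have hcard : Even ((T.erase a).erase b).card := by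
      rw [Finset.card_erase_of_mem hb, Finset.card_erase_of_mem ha]
      obtain ⟨k, hk⟩ := hT
      exact ⟨k - 1, by omega⟩
    have := ih _ ((Finset.erase_subset _ _).trans_ssubset (Finset.erase_ssubset ha)) hcard
    have e : symmDiff (symmDiff ({a} : Finset ι) {b}) ((T.erase a).erase b) = T := by
      ext l
      simp only [Finset.mem_symmDiff, Finset.mem_singleton, Finset.mem_erase]
      by_cases la : l = a <;> by_cases lb : l = b <;> simp [la, lb, ha, hbT, hab, hab.symm]
    rw [← e, ← flipO_mul, ← flipO_mul]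
    exact mul_mem (hK.pair a b hab.symm) this

theorem sign_swap_swap {a b c d : ι} (h1 : a ≠ b) (h2 : c ≠ d) :
    Equiv.Perm.sign (Equiv.swap a b * Equiv.swap c d) = 1 := by
  rw [map_mul, Equiv.Perm.sign_swap h1, Equiv.Perm.sign_swap h2]
  decide

theorem IsFrame.cyc (hK : IsFrame K) {a b c : ι} (h1 : a ≠ b) (h2 : b ≠ c) :
    permO F (Equiv.swap a b * Equiv.swap b c) ∈ K :=
  hK.perm _ (sign_swap_swap h1 h2)

end CfsgLib.Geo.Frame

/-- Two involutions: either conjugate, or their product has a power that is a central involution of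
the group they generate. -/
theorem CfsgLib.Geo.Frame.dihedral_split {G : Type*} [Group G] [Finite G] {q b : G} (hq : q * q = 1)
    (hb : b * b = 1) :
    (∃ j : ℕ, (q * b) ^ j * q * ((q * b) ^ j)⁻¹ = b) ∨
      ∃ h : ℕ, (q * b) ^ h ≠ 1 ∧ (q * b) ^ h * (q * b) ^ h = 1 ∧ Commute ((q * b) ^ h) q ∧
        Commute ((q * b) ^ h) b ∧
        ((∃ i : ℕ, (q * b) ^ i * b * ((q * b) ^ i)⁻¹ = (q * b) ^ h * b) ∨
          ∃ i : ℕ, (q * b) ^ i * q * ((q * b) ^ i)⁻¹ = (q * b) ^ h * b) := by
  set d := q * b with hd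
  have hqi : q⁻¹ = q := inv_eq_of_mul_eq_one_right hq
  have hbi : b⁻¹ = b := inv_eq_of_mul_eq_one_right hb
  have hdi : d⁻¹ = b * q := by rw [hd, mul_inv_rev, hqi, hbi]
  have hqd : q * d * q⁻¹ = d⁻¹ := by rw [hqi, hdi, hd, ← mul_assoc, hq, one_mul]
  have hbd : b * d * b⁻¹ = d⁻¹ := by rw [hbi, hdi, hd, ← mul_assoc, mul_assoc (b * q), hb, mul_one]
  have hdb : d * b = q := by rw [hd, mul_assoc, hb, mul_one]
  have conjpow : ∀ {x : G}, x * d * x⁻¹ = d⁻¹ → ∀ j : ℕ,
      d ^ j * x * (d ^ j)⁻¹ = d ^ (2 * j) * x := by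
    intro x hx j
    have h : x * d ^ j * x⁻¹ = (d ^ j)⁻¹ := by rw [← conj_pow, hx, inv_pow]
    have h' : x * (d ^ j)⁻¹ * x⁻¹ = d ^ j := by
      have := congrArg Inv.inv h
      rw [inv_inv] at this
      rw [_root_.mul_inv_rev, _root_.mul_inv_rev, inv_inv, ← mul_assoc] at this
      exact this
    calc d ^ j * x * (d ^ j)⁻¹ = d ^ j * (x * (d ^ j)⁻¹ * x⁻¹) * x := by group
      _ = d ^ (2 * j) * x := by rw [h', two_mul, pow_add]
  rcases Nat.even_or_odd' (orderOf d) with ⟨h, hh | hh⟩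
  · right
    have hpos : 0 < h := by have := orderOf_pos d; omega
    have hz : d ^ h * d ^ h = 1 := by rw [← pow_add, ← two_mul, ← hh, pow_orderOf_eq_one]
    have hzi : (d ^ h)⁻¹ = d ^ h := inv_eq_of_mul_eq_one_right hz
    have hcomm : ∀ {x : G}, x * d * x⁻¹ = d⁻¹ → Commute (d ^ h) x := by
      intro x hx
      have e : x * d ^ h * x⁻¹ = d ^ h := by rw [← conj_pow, hx, inv_pow, hzi]
      exact (mul_inv_eq_iff_eq_mul.1 e).symm
    refine ⟨h, pow_ne_one_of_lt_orderOf (by omega) (by omega), hz, hcomm hqd, hcomm hbd, ?_⟩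
    rcases Nat.even_or_odd' h with ⟨i, hi | hi⟩
    · exact Or.inl ⟨i, by rw [conjpow hbd, hi]⟩
    · refine Or.inr ⟨i, ?_⟩
      rw [conjpow hqd, hi, ← hdb, pow_succ]
      group
  · refine Or.inl ⟨h, ?_⟩
    rw [conjpow hqd, ← hdb, ← mul_assoc, ← pow_succ, ← hh, pow_orderOf_eq_one, one_mul]
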