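import Cfsg.Agent.Lib.Geo.Frame.Refl
import Mathlib.GroupTheory.PGroup

/-!
The last induction step in even dimension.
-/

set_option autoImplicit false
set_option maxHeartbeats 800000

namespace CfsgLib.Geo.Frame

open CfsgLib.Classical CfsgLib.Classical.Quad

/-- An elementary abelian two-group of permutations of `n` points has order at most `2 ^ (n / 2)`. -/
theorem card_sq_le {ι : Type*} [Fintype ι] (E : Subgroup (Equiv.Perm ι))
    (hcomm : ∀ a ∈ E, ∀ b ∈ E, a * b = b * a) (hsq : ∀ a ∈ E, a * a = 1) :
    Nat.card E ^ 2 ≤ 2 ^ Fintype.card ι := by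
  classical
  let Ω := MulAction.orbitRel.Quotient E ι
  letI : Fintype Ω := Fintype.ofFinite Ω
  let f : E → (ω : Ω) → MulAction.orbit E ω.out := fun e ω => ⟨e • ω.out, MulAction.mem_orbit _ _⟩
  have hf : Function.Injective f := by
    intro e e' h
    refine Subtype.ext (Equiv.ext fun x => ?_)
    let ω : Ω := Quotient.mk'' x
    obtain ⟨a, ha⟩ : x ∈ MulAction.orbit E ω.out := by
      rw [← MulAction.orbitRel_apply]
      exact Quotient.exact (Quotient.out_eq ω).symm
    have h1 : e • ω.out = e' • ω.out := congrArg Subtype.val (congrFun h ω)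
    have key : ∀ e : E, e • x = a • e • ω.out := fun e => by
      rw [← ha]
      show e • a • ω.out = a • e • ω.out
      rw [← mul_smul, ← mul_smul]
      exact congrArg (fun c : E => c • ω.out) (Subtype.ext (hcomm _ e.2 _ a.2))
    exact (key e).trans ((congrArg (a • ·) h1).trans (key e').symm)
  have hcard : Nat.card E ≤ ∏ ω : Ω, Nat.card (MulAction.orbit E ω.out) := by
    rw [← Nat.card_pi]
    exact Nat.card_le_card_of_injective f hf
  have horb : ∀ ω : Ω, Nat.card (MulAction.orbit E ω.out) ^ 2 ≤
      2 ^ Nat.card (MulAction.orbit E ω.out) := by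
    intro ω
    have hP : IsPGroup 2 E := fun e => ⟨1, Subtype.ext (by rw [pow_one, pow_two]; exact hsq _ e.2)⟩
    obtain ⟨m, hm⟩ := IsPGroup.iff_card.1 hP
    have hd : Nat.card (MulAction.orbit E ω.out) ∣ 2 ^ m := by
      rw [← hm, Nat.card_coe_set_eq, ← MulAction.index_stabilizer]
      exact Subgroup.index_dvd_card _
    obtain ⟨k, -, hk⟩ := (Nat.dvd_prime_pow Nat.prime_two).1 hd
    rw [hk, ← pow_mul]
    refine Nat.pow_le_pow_right two_pos ?_
    cases k with
    | zero => simp
    | succ k => have := Nat.lt_two_pow_self (n := k); rw [pow_succ]; omega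
  calc Nat.card E ^ 2 ≤ (∏ ω : Ω, Nat.card (MulAction.orbit E ω.out)) ^ 2 :=
        Nat.pow_le_pow_left hcard 2
    _ = ∏ ω : Ω, Nat.card (MulAction.orbit E ω.out) ^ 2 := by rw [Finset.prod_pow]
    _ ≤ ∏ ω : Ω, 2 ^ Nat.card (MulAction.orbit E ω.out) :=
        Finset.prod_le_prod' fun ω _ => horb ω
    _ = 2 ^ Fintype.card ι := by
        rw [Finset.prod_pow_eq_pow_sum]
        congr 1
        rw [← Nat.card_eq_fintype_card, Nat.card_congr (MulAction.selfEquivSigmaOrbits E ι),
          Nat.card_sigma]

variable {F : Type*} [Field F] [Finite F] {ι : Type*} [Fintype ι] [DecidableEq ι]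
  {K : Subgroup (OQ (fQ F ι))}

omit [Finite F] in
theorem flipO_univ_smul (y : ι → F) : flipO (1 : ι → F) Finset.univ • y = -y := funext fun i => by
  rw [flipO_apply, if_pos (Finset.mem_univ i)]; rfl

omit [Finite F] in
theorem commute_univ (x : OQ (fQ F ι)) : Commute x (flipO (1 : ι → F) Finset.univ) :=
  eq_of_smul fun y => by rw [mul_smul, mul_smul, flipO_univ_smul, flipO_univ_smul, gsmul_neg]

omit [Finite F] in
theorem commute_compl {x : OQ (fQ F ι)} {T : Finset ι} (h : Commute x (flipO (1 : ι → F) T)) :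
    Commute x (flipO (1 : ι → F) Tᶜ) := by
  have e : flipO (1 : ι → F) Tᶜ = flipO (1 : ι → F) Finset.univ * flipO (1 : ι → F) T := by
    rw [flipO_mul]
    congr 1
    ext l
    simp [Finset.mem_symmDiff]
  rw [e]
  exact (commute_univ x).mul_right h

omit [Finite F] in
theorem eq_flip_of_monBy_one (h2 : (2 : F) ≠ 0) {c : OQ (fQ F ι)} (h : MonBy c 1) :
    ∃ T, c = flipO (1 : ι → F) T := by
  classical
  refine ⟨Finset.univ.filter fun i => c • (ee i : ι → F) = -ee i,
    eq_of_smul_ee (w := (1 : ι → F)) fun i => ?_⟩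
  by_cases hi : c • (ee i : ι → F) = -ee i
  · rw [flipO_ee_mem (by simp [hi]), hi]
  · rw [flipO_ee_notMem (by simp [hi])]
    exact ((h i).resolve_right hi)

/-- In even dimension: monomiality of stabilisers of axes gives monomiality. -/
theorem even_step (hK : IsFrame K) (h2 : (2 : F) ≠ 0) (hn : 10 ≤ Fintype.card ι)
    (heven : Even (Fintype.card ι))
    (L : ∀ g ∈ K, ∀ i, (g • (ee i : ι → F) = ee i ∨ g • (ee i : ι → F) = -ee i) → IsMon g) :
    ∀ g ∈ K, IsMon g := by
  classical
  have pick : ∀ (s t : Finset ι), s.card < t.card → ∃ z ∈ t, z ∉ s := fun s t h =>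
    Finset.exists_mem_notMem_of_card_lt_card h
  have Lax : ∀ g ∈ K, ∀ i, Axis (g • ee i : ι → F) → IsMon g := by
    intro g hg i hax
    obtain ⟨b, hb⟩ := hax.eq_ee (dot_smul_ee h2 g i)
    by_cases hbi : b = i
    · subst hbi; exact L g hg b hb
    obtain ⟨c, -, hc⟩ := pick {b, i} Finset.univ
      (Finset.card_le_two.trans_lt (by rw [Finset.card_univ]; omega))
    simp at hc
    obtain ⟨e1, -, -, -⟩ := cyc_apply hbi (Ne.symm hc.2) (Ne.symm hc.1)
    refine IsMon.of_mul_left (isMon_perm (Equiv.swap b i * Equiv.swap i c))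
      (L _ (mul_mem (hK.cyc hbi (Ne.symm hc.2)) hg) i ?_)
    rw [mul_smul]
    rcases hb with e | e <;> rw [e]
    · left; rw [permO_ee, e1]
    · right; rw [gsmul_neg, permO_ee, e1]
  -- elements preserving a coordinate subspace
  have A₁ : ∀ x ∈ K, ∀ U : Finset ι, 5 ≤ U.card → U ≠ Finset.univ →
      Commute x (flipO (1 : ι → F) U) → IsMon x := by
    intro x hx U hU hUne hxU
    obtain ⟨w, -, hw⟩ := pick U Finset.univ
      (Finset.card_lt_card (U.subset_univ.ssubset_of_ne hUne))
    have houtside : ∀ (y : ι → F), (∀ m ∈ U, y m = 0) → ∀ m ∈ U, (x⁻¹ • y) m = 0 :=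
      fun y hy => supp_compl_of_commute h2 hxU.inv_left hy
    have houtside' : ∀ (y : ι → F), (∀ m ∈ U, y m = 0) → ∀ m ∈ U, (x • y) m = 0 :=
      fun y hy => supp_compl_of_commute h2 hxU hy
    -- conjugates of pair sign changes are pair sign changes
    have hpair : ∀ j ∈ U, ∀ l ∈ U, j ≠ l →
        ∃ T, T.card ≤ 2 ∧ x * flipO (1 : ι → F) {j, l} * x⁻¹ = flipO (1 : ι → F) T := by
      intro j hj l hl hjl
      set c := x * flipO (1 : ι → F) {j, l} * x⁻¹ with hc
      have hcK : c ∈ K := mul_mem (mul_mem hx (hK.flip_mem (by rw [Finset.card_pair hjl]; decide)))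
        (inv_mem hx)
      have hfix : ∀ i ∉ U, c • (ee i : ι → F) = ee i := by
        intro i hi
        rw [hc, mul_smul, mul_smul]
        have h0 := houtside (ee i) fun m hm => ee_ne fun e => hi (e ▸ hm)
        have : flipO (1 : ι → F) {j, l} • x⁻¹ • (ee i : ι → F) = x⁻¹ • ee i := funext fun m => by
          rw [flipO_apply]
          split_ifs with hm
          · simp at hm
            rcases hm with rfl | rfl
            · rw [h0 m hj, neg_zero]
            · rw [h0 m hl, neg_zero]
          · rfl
        rw [this, smul_inv_smul]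
      obtain ⟨π, hπ⟩ := L c hcK w (Or.inl (hfix w hw))
      suffices π = 1 by
        obtain ⟨T, hT⟩ := eq_flip_of_monBy_one h2 (this ▸ hπ)
        refine ⟨T, ?_, hT⟩
        have := card_eq_of_conj h2 x (hc ▸ hT)
        rw [Finset.card_pair hjl] at this
        omega
      by_contra hπ1
      obtain ⟨a, ha⟩ : ∃ a, π a ≠ a := by
        by_contra! h; exact hπ1 (Equiv.ext h)
      have hfixπ : ∀ i ∉ U, π i = i := fun i hi => by
        by_contra h
        have h1 : (c • ee i : ι → F) i = 1 := by rw [hfix i hi, ee_self]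
        rcases hπ i with e | e <;> rw [e] at h1 <;> simp [Ne.symm h] at h1
      have hinv : π * π = 1 := by
        have hcc : c * c = 1 := by
          rw [hc, show x * flipO (1 : ι → F) {j, l} * x⁻¹ * (x * flipO (1 : ι → F) {j, l} * x⁻¹) =
            x * (flipO (1 : ι → F) {j, l} * flipO (1 : ι → F) {j, l}) * x⁻¹ by group, flipO_sq]
          group
        have := hπ.mul hπ
        rw [hcc] at this
        exact this.unique monBy_one
      have hii : ∀ i, π (π i) = i := fun i => by
        rw [← Equiv.Perm.mul_apply, hinv]; rfl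
      have haU : ∀ i, π i ≠ i → i ∈ U := fun i hi => by_contra fun h => hi (hfixπ i h)
      -- commuting with the conjugates by three-cycles
      have hcommτ : ∀ a b e, a ∈ U → b ∈ U → e ∈ U → a ≠ b → b ≠ e → a ≠ e →
          ∀ i, π ((Equiv.swap a b * Equiv.swap b e) (π ((Equiv.swap a b * Equiv.swap b e)⁻¹ i))) =
            (Equiv.swap a b * Equiv.swap b e) (π ((Equiv.swap a b * Equiv.swap b e)⁻¹ (π i))) := by
        intro a b e ha hb he hab hbe hae i
        obtain ⟨-, -, -, cfix⟩ := cyc_apply hab hbe hae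
        set τ := Equiv.swap a b * Equiv.swap b e with hτdef
        obtain ⟨ρ, hρ⟩ := L (x⁻¹ * permO F τ * x)
          (mul_mem (mul_mem (inv_mem hx) (hK.cyc hab hbe)) hx) w (Or.inl (by
            rw [mul_smul, mul_smul]
            have h0 := houtside' (ee w) fun m hm => ee_ne fun e' => hw (e' ▸ hm)
            have : permO F τ • (x • ee w : ι → F) = x • ee w := funext fun m => by
              rw [permO_apply]
              by_cases hm : m = a ∨ m = b ∨ m = e
              · have hm' : m ∈ U := by rcases hm with rfl | rfl | rfl <;> assumption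
                rw [h0 m hm']
                refine h0 _ ?_
                by_contra h
                have := cfix (τ.symm m) (fun e' => h (e'.symm ▸ ha)) (fun e' => h (e'.symm ▸ hb)) (fun e' => h (e'.symm ▸ he))
                rw [Equiv.apply_symm_apply] at this
                exact h (this ▸ hm')
              · push Not at hm
                rw [show τ.symm m = m from by rw [Equiv.symm_apply_eq, cfix m hm.1 hm.2.1 hm.2.2]]
            rw [this, inv_smul_smul]))
        have key : Commute c (permO F τ * c * (permO F τ)⁻¹) := by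
          have e1 : permO F τ * c * (permO F τ)⁻¹ =
              x * flipO (1 : ι → F) (({j, l} : Finset ι).image ρ) * x⁻¹ := by
            rw [← hρ.conj_flip, hc]; group
          rw [e1, hc]
          show x * _ * x⁻¹ * (x * _ * x⁻¹) = x * _ * x⁻¹ * (x * _ * x⁻¹)
          rw [show ∀ p q : OQ (fQ F ι), x * p * x⁻¹ * (x * q * x⁻¹) = x * (p * q) * x⁻¹ from
              fun p q => by group,
            show ∀ p q : OQ (fQ F ι), x * p * x⁻¹ * (x * q * x⁻¹) = x * (p * q) * x⁻¹ from
              fun p q => by group, flipO_mul, flipO_mul, symmDiff_comm]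
        have h1 := hπ.mul (((monBy_perm τ).mul hπ).mul (monBy_perm τ).inv)
        have h3 := (((monBy_perm τ).mul hπ).mul (monBy_perm τ).inv).mul hπ
        rw [← key.eq] at h3
        have := DFunLike.congr_fun (h1.unique h3) i
        simpa [Equiv.Perm.mul_apply] using this
      set b := π a with hb
      have haU' : a ∈ U := haU a ha
      have hπb : π b = a := hii a
      have hbU : b ∈ U := haU b (by rw [hπb]; exact Ne.symm ha)
      have hab : a ≠ b := Ne.symm ha
      by_cases hfp : ∃ e ∈ U, e ≠ a ∧ e ≠ b ∧ π e = e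
      · obtain ⟨e, he, hea, heb, hπe⟩ := hfp
        obtain ⟨c1, c2, c3, -⟩ := cyc_apply hab (Ne.symm heb) (Ne.symm hea)
        have h := hcommτ a b e haU' hbU he hab (Ne.symm heb) (Ne.symm hea) b
        set τ := Equiv.swap a b * Equiv.swap b e
        have i1 : τ⁻¹ b = a := by rw [Equiv.Perm.inv_def, Equiv.symm_apply_eq, c1]
        have i2 : τ⁻¹ a = e := by rw [Equiv.Perm.inv_def, Equiv.symm_apply_eq, c3]
        rw [i1, ← hb, c2, hπe, hπb, i2, hπe, c3] at h
        exact hea h
      · push Not at hfp
        obtain ⟨c', hc', hc''⟩ := pick {a, b} U (Finset.card_le_two.trans_lt (by omega))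
        simp at hc''
        have hc'm := hfp c' hc' hc''.1 hc''.2
        set d' := π c' with hd'
        have hπd : π d' = c' := hii c'
        obtain ⟨e, he, he'⟩ := pick {a, b, c', d'} U (Finset.card_le_four.trans_lt (by omega))
        simp at he'
        obtain ⟨he1, he2, he3, he4⟩ := he'
        set f' := π e with hf'
        have hf2 : π f' = e := hii e
        have hfa : f' ≠ a := fun h => he2 (by rw [← hf2, h])
        have hfc : f' ≠ c' := fun h => he4 (by rw [← hf2, h])
        have hfe : f' ≠ e := hfp e he he1 he2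
        obtain ⟨c1, c2, c3, cfix⟩ := cyc_apply (Ne.symm hc''.1) (Ne.symm he3) (Ne.symm he1)
        have h := hcommτ a c' e haU' hc' he (Ne.symm hc''.1) (Ne.symm he3) (Ne.symm he1) a
        set τ := Equiv.swap a c' * Equiv.swap c' e
        have i2 : τ⁻¹ a = e := by rw [Equiv.Perm.inv_def, Equiv.symm_apply_eq, c3]
        have i1 : τ⁻¹ b = b := by
          rw [Equiv.Perm.inv_def, Equiv.symm_apply_eq, cfix b hab.symm (Ne.symm hc''.2) (Ne.symm he2)]
        rw [i2, ← hf', cfix f' hfa hfc hfe, hf2, ← hb, i1, hπb, c1] at h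
        exact he3 h
    obtain ⟨j, hj⟩ := Finset.card_pos.1 (by omega : 0 < U.card)
    refine Lax x hx j ?_
    obtain ⟨l, hl, hlj⟩ := pick {j} U (by rw [Finset.card_singleton]; omega)
    obtain ⟨l', hl', hl''⟩ := pick {j, l} U (Finset.card_le_two.trans_lt (by omega))
    simp at hlj hl''
    obtain ⟨T0, hT0c, hT0⟩ := hpair j hj l hl (Ne.symm hlj)
    obtain ⟨T1, hT1c, hT1⟩ := hpair j hj l' hl' (Ne.symm hl''.1)
    have hsupp : ∀ (y : ι) (T : Finset ι), y ≠ j →
        x * flipO (1 : ι → F) {j, y} * x⁻¹ = flipO (1 : ι → F) T →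
        ∀ m ∉ T, (x • ee j : ι → F) m = 0 := by
      intro y T _ e m hm
      have h := congrArg (fun g : OQ (fQ F ι) => (g • x • (ee j : ι → F)) m) e
      simp only [mul_smul, inv_smul_smul, flipO_ee_mem (show j ∈ ({j, y} : Finset ι) by simp),
        gsmul_neg, Pi.neg_apply, flipO_apply, if_neg hm] at h
      exact (mul_eq_zero.1 (show (2 : F) * (x • ee j : ι → F) m = 0 by
        linear_combination -h)).resolve_left h2
    have hne : T0 ≠ T1 := fun e => by
      subst e
      have h := flipO_injective h2 (mul_left_cancel (mul_right_cancel (hT0.trans hT1.symm)))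
      have hmem : l ∈ ({j, l'} : Finset ι) := h ▸ (by simp)
      simp at hmem
      rcases hmem with e' | e'
      · exact hlj e'
      · exact hl''.2 e'.symm
    have hone : (T0 ∩ T1).card ≤ 1 := by
      by_contra hc
      exact hne ((Finset.eq_of_subset_of_card_le Finset.inter_subset_left (by omega)).symm.trans
        (Finset.eq_of_subset_of_card_le Finset.inter_subset_right (by omega)))
    have hzero : ∀ m ∉ T0 ∩ T1, (x • ee j : ι → F) m = 0 := fun m hm => by
      by_cases h0 : m ∈ T0
      · exact hsupp l' T1 hl''.1 hT1 m fun h => hm (Finset.mem_inter.2 ⟨h0, h⟩)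
      · exact hsupp l T0 hlj hT0 m h0
    rcases (T0 ∩ T1).eq_empty_or_nonempty with he | ⟨a, ha⟩
    · exact ⟨j, fun m _ => hzero m (by simp [he])⟩
    · exact ⟨a, fun m hm => hzero m fun h => hm (Finset.card_le_one.1 hone m h a ha)⟩
  have A : ∀ x ∈ K, ∀ T : Finset ι, T.Nonempty → T ≠ Finset.univ →
      Commute x (flipO (1 : ι → F) T) → IsMon x := by
    intro x hx T hT hTne hc
    by_cases h5 : 5 ≤ T.card
    · exact A₁ x hx T h5 hTne hc
    · refine A₁ x hx Tᶜ (by rw [Finset.card_compl]; omega) (fun e => ?_) (commute_compl hc)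
      rw [Finset.compl_eq_univ_iff] at e
      exact hT.ne_empty e
  -- elements mapping a coordinate subspace to another one
  have A' : ∀ g ∈ K, ∀ T T' : Finset ι, T.Nonempty → T ≠ Finset.univ →
      g * flipO (1 : ι → F) T * g⁻¹ = flipO (1 : ι → F) T' → IsMon g := by
    intro g hg T T' hT hTne e
    have hcard := card_eq_of_conj h2 g e
    obtain ⟨π₀, hπ₀⟩ : ∃ π : Equiv.Perm ι, T'.image π = T := by
      refine ⟨(Finset.equivOfCardEq hcard.symm).extendSubtype, ?_⟩
      refine Finset.eq_of_subset_of_card_le (fun y hy => ?_) ?_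
      · obtain ⟨z, hz, rfl⟩ := Finset.mem_image.1 hy
        exact Equiv.extendSubtype_mem _ z hz
      · rw [Finset.card_image_of_injective _ (Equiv.injective _), hcard]
    obtain ⟨π, hπ, hsign⟩ : ∃ π : Equiv.Perm ι, T'.image π = T ∧ Equiv.Perm.sign π = 1 := by
      rcases Int.units_eq_one_or (Equiv.Perm.sign π₀) with hs | hs
      · exact ⟨π₀, hπ₀, hs⟩
      obtain ⟨p, q, hpq, hmem⟩ : ∃ p q : ι, p ≠ q ∧ (p ∈ T ↔ q ∈ T) := by
        by_cases h1 : 1 < T.card
        · obtain ⟨p, hp, q, hq, hpq⟩ := Finset.one_lt_card.1 h1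
          exact ⟨p, q, hpq, iff_of_true hp hq⟩
        · obtain ⟨p, hp, q, hq, hpq⟩ := Finset.one_lt_card.1
            (show 1 < Tᶜ.card by rw [Finset.card_compl]; omega)
          exact ⟨p, q, hpq, iff_of_false (Finset.mem_compl.1 hp) (Finset.mem_compl.1 hq)⟩
      refine ⟨Equiv.swap p q * π₀, ?_, by rw [map_mul, Equiv.Perm.sign_swap hpq, hs]; decide⟩
      rw [Equiv.Perm.coe_mul, ← Finset.image_image, hπ₀]
      ext y
      rw [Finset.mem_image]
      constructor
      · rintro ⟨z, hz, rfl⟩
        by_cases h1 : z = p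
        · subst h1; rw [Equiv.swap_apply_left]; exact hmem.1 hz
        by_cases h3 : z = q
        · subst h3; rw [Equiv.swap_apply_right]; exact hmem.2 hz
        rwa [Equiv.swap_apply_of_ne_of_ne h1 h3]
      · intro hy
        refine ⟨Equiv.swap p q y, ?_, Equiv.swap_apply_self _ _ _⟩
        by_cases h1 : y = p
        · subst h1; rw [Equiv.swap_apply_left]; exact hmem.1 hy
        by_cases h3 : y = q
        · subst h3; rw [Equiv.swap_apply_right]; exact hmem.2 hy
        rwa [Equiv.swap_apply_of_ne_of_ne h1 h3]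
    refine IsMon.of_mul_left (isMon_perm π) (A _ (mul_mem (hK.perm π hsign) hg) T hT hTne ?_)
    have h : permO F π * g * flipO (1 : ι → F) T * (permO F π * g)⁻¹ = flipO (1 : ι → F) T := by
      rw [show permO F π * g * flipO (1 : ι → F) T * (permO F π * g)⁻¹ =
        permO F π * (g * flipO (1 : ι → F) T * g⁻¹) * (permO F π)⁻¹ by group, e,
        (monBy_perm π).conj_flip, hπ]
    exact mul_inv_eq_iff_eq_mul.1 h
  -- fusion
  have Fusion : ∀ g ∈ K, ∀ a b : ι, a ≠ b →
      IsMon (g * flipO (1 : ι → F) {a, b} * g⁻¹) → IsMon g := by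
    intro g hg a b hab hmon
    obtain ⟨π, hπ⟩ := hmon
    set t := g * flipO (1 : ι → F) {a, b} * g⁻¹ with ht
    have hpne : ({a, b} : Finset ι) ≠ Finset.univ := fun e => by
      have := congrArg Finset.card e
      rw [Finset.card_pair hab, Finset.card_univ] at this
      omega
    by_contra hgm
    have htt : t * t = 1 := by
      rw [ht, show g * flipO (1 : ι → F) {a, b} * g⁻¹ * (g * flipO (1 : ι → F) {a, b} * g⁻¹) =
        g * (flipO (1 : ι → F) {a, b} * flipO (1 : ι → F) {a, b}) * g⁻¹ by group, flipO_sq]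
      group
    have hπ2 : ∀ i, π (π i) = i := fun i => by
      have := hπ.mul hπ
      rw [htt] at this
      rw [← Equiv.Perm.mul_apply, this.unique monBy_one]; rfl
    -- sign changes in `K` commuting with `t`
    let D : Finset (Finset ι) := Finset.univ.filter fun T =>
      flipO (1 : ι → F) T ∈ K ∧ T.image π = T
    have hDmon : ∀ T : D, ∃ σ, MonBy (g⁻¹ * flipO (1 : ι → F) (T : Finset ι) * g) σ := by
      rintro ⟨T, hT⟩
      simp only [D, Finset.mem_filter, Finset.mem_univ, true_and] at hT
      refine A _ (mul_mem (mul_mem (inv_mem hg) hT.1) hg) {a, b} (by simp) hpne ?_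
      have hc : flipO (1 : ι → F) T * t = t * flipO (1 : ι → F) T := by
        have := hπ.conj_flip T
        rw [hT.2] at this
        exact (mul_inv_eq_iff_eq_mul.1 this).symm
      show _ = _
      have hflip : flipO (1 : ι → F) {a, b} = g⁻¹ * t * g := by rw [ht]; group
      rw [hflip, show g⁻¹ * flipO (1 : ι → F) T * g * (g⁻¹ * t * g) =
        g⁻¹ * (flipO (1 : ι → F) T * t) * g by group, hc]
      group
    choose σ hσ using hDmon
    have hDsymm : ∀ T T' : D, symmDiff (T : Finset ι) T' ∈ D := by
      rintro ⟨T, hT⟩ ⟨T', hT'⟩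
      simp only [D, Finset.mem_filter, Finset.mem_univ, true_and] at hT hT' ⊢
      refine ⟨by rw [← flipO_mul]; exact mul_mem hT.1 hT'.1, ?_⟩
      rw [Finset.image_symmDiff _ _ π.injective, hT.2, hT'.2]
    have hmul : ∀ T T' : D, σ ⟨_, hDsymm T T'⟩ = σ T * σ T' := fun T T' => by
      refine (hσ _).unique ?_
      have := (hσ T).mul (hσ T')
      rwa [show g⁻¹ * flipO (1 : ι → F) (T : Finset ι) * g *
        (g⁻¹ * flipO (1 : ι → F) (T' : Finset ι) * g) =
        g⁻¹ * (flipO (1 : ι → F) (T : Finset ι) * flipO (1 : ι → F) (T' : Finset ι)) * g by group,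
        flipO_mul] at this
    have hone : ∀ T : D, σ T * σ T = 1 := fun T => by
      have := (hσ T).mul (hσ T)
      rw [show g⁻¹ * flipO (1 : ι → F) (T : Finset ι) * g *
        (g⁻¹ * flipO (1 : ι → F) (T : Finset ι) * g) =
        g⁻¹ * (flipO (1 : ι → F) (T : Finset ι) * flipO (1 : ι → F) (T : Finset ι)) * g by group,
        flipO_sq, show g⁻¹ * 1 * g = 1 by group] at this
      exact this.unique monBy_one
    have hcommσ : ∀ T T' : D, σ T * σ T' = σ T' * σ T := fun T T' => by
      rw [← hmul, ← hmul]
      congr 2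
      exact symmDiff_comm _ _
    have h0D : (∅ : Finset ι) ∈ D := by
      simp [D, flipO_empty, one_mem]
    let E : Subgroup (Equiv.Perm ι) :=
      { carrier := Set.range σ
        one_mem' := ⟨⟨∅, h0D⟩, (hσ _).unique (by
          rw [flipO_empty, show g⁻¹ * 1 * g = 1 by group]; exact monBy_one)⟩
        mul_mem' := by rintro _ _ ⟨T, rfl⟩ ⟨T', rfl⟩; exact ⟨_, hmul T T'⟩
        inv_mem' := by rintro _ ⟨T, rfl⟩; exact ⟨T, (inv_eq_of_mul_eq_one_right (hone T)).symm⟩ }
    have hE : Nat.card E ^ 2 ≤ 2 ^ Fintype.card ι := card_sq_le E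
      (by rintro _ ⟨T, rfl⟩ _ ⟨T', rfl⟩; exact hcommσ T T') (by rintro _ ⟨T, rfl⟩; exact hone T)
    have hfib : ∀ T T' : D, σ T = σ T' →
        (T' : Finset ι) = (T : Finset ι) ∨ (T' : Finset ι) = (T : Finset ι)ᶜ := by
      intro T T' h
      have h1 := hσ ⟨_, hDsymm T T'⟩
      rw [hmul, h, hone] at h1
      obtain ⟨T'', hT''⟩ := eq_flip_of_monBy_one h2 h1
      rcases (symmDiff (T : Finset ι) T').eq_empty_or_nonempty with he | hne
      · exact Or.inl (symmDiff_eq_bot.1 he).symm
      by_cases hu : symmDiff (T : Finset ι) T' = Finset.univ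
      · refine Or.inr (Finset.ext fun i => ?_)
        have : i ∈ symmDiff (T : Finset ι) T' := hu ▸ Finset.mem_univ i
        rw [Finset.mem_symmDiff] at this
        rw [Finset.mem_compl]
        tauto
      exact absurd (A' g⁻¹ (inv_mem hg) _ T'' hne hu (by rw [inv_inv]; exact hT'')).inv
        (by rwa [inv_inv])
    have hDle : D.card ≤ 2 * Nat.card E := by
      have hle : Nat.card D ≤ Nat.card (E × Bool) := by
        obtain ⟨o⟩ : Nonempty ι := Fintype.card_pos_iff.1 (by omega)
        refine Nat.card_le_card_of_injective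
          (fun T : D => ((⟨σ T, T, rfl⟩ : E), decide (o ∈ (T : Finset ι)))) fun T T' h => ?_
        simp only [Prod.mk.injEq, decide_eq_decide] at h
        rcases hfib T T' (congrArg Subtype.val h.1) with e | e
        · exact Subtype.ext e.symm
        · exfalso
          have := h.2
          rw [e, Finset.mem_compl] at this
          tauto
      rw [Nat.card_prod, Nat.card_eq_fintype_card (α := Bool), Fintype.card_bool,
        Nat.card_eq_fintype_card, Fintype.card_coe] at hle
      omega
    -- counting `D` from below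
    let e := Fintype.equivFin ι
    let R : Finset ι := Finset.univ.filter fun c => e c < e (π c)
    let Fx : Finset ι := Finset.univ.filter fun c => π c = c
    have hR : ∀ c, c ∈ R ↔ e c < e (π c) := fun c => by simp [R]
    have hsplit : Fx.card + 2 * R.card = Fintype.card ι := by
      have h3 : (Finset.univ : Finset ι) = Fx ∪ (R ∪ R.image π) := by
        ext c
        simp only [Finset.mem_univ, true_iff, Finset.mem_union, Finset.mem_image]
        by_cases h : π c = c
        · exact Or.inl (by simp [Fx, h])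
        rcases lt_or_gt_of_ne (fun h' => h (e.injective h').symm : e c ≠ e (π c)) with hlt | hlt
        · exact Or.inr (Or.inl ((hR c).2 hlt))
        · exact Or.inr (Or.inr ⟨π c, (hR _).2 (by rwa [hπ2]), hπ2 c⟩)
      rw [← Finset.card_univ, h3, Finset.card_union_of_disjoint, Finset.card_union_of_disjoint,
        Finset.card_image_of_injective _ π.injective]
      · ring
      · rw [Finset.disjoint_left]
        intro c hc hc'
        obtain ⟨z, hz, rfl⟩ := Finset.mem_image.1 hc'
        have h1 := (hR z).1 hz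
        have h3 := (hR (π z)).1 hc
        rw [hπ2] at h3
        exact lt_asymm h1 h3
      · rw [Finset.disjoint_left]
        intro c hc hc'
        simp [Fx] at hc
        rcases Finset.mem_union.1 hc' with h | h
        · have := (hR c).1 h; rw [hc] at this; exact lt_irrefl _ this
        · obtain ⟨z, hz, rfl⟩ := Finset.mem_image.1 h
          have h1 := (hR z).1 hz
          rw [π.injective hc] at h1
          exact lt_irrefl _ h1
    have hR2 : R.card ≤ 2 := by
      let P : Finset ι := {a, b}
      let v : R → ι → F := fun c => ee (c : ι) - t • ee (c : ι)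
      let V : (R → F) →ₗ[F] (ι → F) := ∑ c : R, (LinearMap.proj c).smulRight (v c)
      have htV : ∀ y, t • V y = -V y := by
        intro y
        simp only [V, LinearMap.coe_sum, Finset.sum_apply, LinearMap.smulRight_apply,
          LinearMap.coe_proj, Function.eval, gsmul_sum, gsmul_smul, v, gsmul_sub, ← mul_smul, htt,
          one_smul]
        rw [← Finset.sum_neg_distrib]
        exact Finset.sum_congr rfl fun c _ => by rw [← smul_neg, neg_sub]
      have hVc : ∀ y (c : R), V y c = y c := by
        intro y c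
        simp only [V, LinearMap.coe_sum, Finset.sum_apply, LinearMap.smulRight_apply,
          LinearMap.coe_proj, Function.eval, Pi.smul_apply, smul_eq_mul]
        rw [Finset.sum_eq_single c (fun d _ hd => ?_) (by simp)]
        · have h1 := (hR c).1 c.2
          have : π c ≠ c := fun h => by rw [h] at h1; exact lt_irrefl _ h1
          rcases hπ c with e' | e' <;> simp [v, e', Ne.symm this]
        · have h1 := (hR d).1 d.2
          have hdc : (c : ι) ≠ d := fun h => hd (Subtype.ext h.symm)
          have hdπ : (c : ι) ≠ π d := fun h => by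
            have h3 := (hR c).1 c.2
            rw [h, hπ2] at h3
            exact lt_asymm h1 h3
          rcases hπ d with e' | e' <;> simp [v, e', hdc, hdπ]
      let Φ : (R → F) →ₗ[F] (P → F) := (LinearMap.funLeft F F (Subtype.val : P → ι)).comp
        ((((g⁻¹ : OQ (fQ F ι)) : (ι → F) ≃ₗ[F] (ι → F)) : (ι → F) →ₗ[F] (ι → F)).comp V)
      have := card_le_of_linearMap Φ fun y hy => by
        have h0 : g⁻¹ • V y = 0 := by
          funext m
          by_cases hm : m ∈ P
          · exact congrFun hy ⟨m, hm⟩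
          · have h := congrArg (fun u : ι → F => (g⁻¹ • u) m) (htV y)
            simp only [P] at hm
            simp only [ht, mul_smul, inv_smul_smul, gsmul_neg, Pi.neg_apply, flipO_apply, if_neg hm] at h
            exact (mul_eq_zero.1 (show (2 : F) * (g⁻¹ • V y) m = 0 by
              linear_combination h)).resolve_left h2
        rw [inv_smul_eq_iff] at h0
        funext c
        rw [← hVc y c, h0]
        have : g • (0 : ι → F) = 0 := smul_zero g
        rw [this]; rfl
      rw [Fintype.card_coe, Fintype.card_coe] at this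
      exact this.trans Finset.card_le_two
    obtain ⟨o, ho⟩ := Finset.card_pos.1 (show 0 < Fx.card by omega)
    let mk : Finset ι × Finset ι → Finset ι := fun AB =>
      (if Even AB.1.card then AB.1 else insert o AB.1) ∪ (AB.2 ∪ AB.2.image π)
    have hmk : ∀ AB ∈ (Fx.erase o).powerset ×ˢ R.powerset, mk AB ∈ D := by
      rintro ⟨S, B⟩ hAB
      simp only [Finset.mem_product, Finset.mem_powerset] at hAB
      obtain ⟨hS, hB⟩ := hAB
      set S' := if Even S.card then S else insert o S with hS'
      have hS'F : ∀ c ∈ S', π c = c := by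
        intro c hc
        have : c ∈ Fx := by
          rw [hS'] at hc
          split_ifs at hc
          · exact (Finset.mem_erase.1 (hS hc)).2
          · rcases Finset.mem_insert.1 hc with rfl | h
            exacts [ho, (Finset.mem_erase.1 (hS h)).2]
        simpa [Fx] using this
      have hoS : o ∉ S := fun h => (Finset.mem_erase.1 (hS h)).1 rfl
      have heven' : Even S'.card := by
        rw [hS']; split_ifs with h
        · exact h
        · rw [Finset.card_insert_of_notMem hoS]
          exact Nat.even_add_one.2 h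
      simp only [D, Finset.mem_filter, Finset.mem_univ, true_and, mk, ← hS']
      refine ⟨hK.flip_mem ?_, ?_⟩
      · rw [Finset.card_union_of_disjoint, Finset.card_union_of_disjoint,
          Finset.card_image_of_injective _ π.injective]
        · exact heven'.add ⟨B.card, rfl⟩
        · rw [Finset.disjoint_left]
          intro c hc hc'
          obtain ⟨z, hz, rfl⟩ := Finset.mem_image.1 hc'
          have h1 := (hR z).1 (hB hz)
          have h3 := (hR (π z)).1 (hB hc)
          rw [hπ2] at h3
          exact lt_asymm h1 h3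
        · rw [Finset.disjoint_left]
          intro c hc hc'
          rcases Finset.mem_union.1 hc' with h | h
          · have := (hR c).1 (hB h); rw [hS'F c hc] at this; exact lt_irrefl _ this
          · obtain ⟨z, hz, rfl⟩ := Finset.mem_image.1 h
            have h1 := (hR z).1 (hB hz)
            rw [π.injective (hS'F _ hc)] at h1
            exact lt_irrefl _ h1
      · have e1 : S'.image π = S' := (Finset.image_congr fun c hc => hS'F c hc).trans Finset.image_id
        rw [Finset.image_union, Finset.image_union, e1, Finset.image_image,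
          show (⇑π ∘ ⇑π) = id from funext hπ2, Finset.image_id, Finset.union_comm (B.image π)]
    have hinj : Set.InjOn mk ((Fx.erase o).powerset ×ˢ R.powerset : Finset _) := by
      have key : ∀ S B, S ⊆ Fx.erase o → B ⊆ R →
          (mk (S, B)).filter (fun c => c ∈ Fx.erase o) = S ∧
          (mk (S, B)).filter (fun c => c ∈ R) = B := by
        intro S B hS hB
        have hBF : ∀ c ∈ B, π c ≠ c := fun c hc h => by
          have := (hR c).1 (hB hc); rw [h] at this; exact lt_irrefl _ this
        have hsub : ∀ c, (c ∈ (if Even S.card then S else insert o S) ↔ c ∈ S) ∨ c = o := by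
          intro c
          by_cases hco : c = o
          · exact Or.inr hco
          · left; split_ifs <;> simp [hco]
        constructor <;> ext c <;>
          simp only [mk, Finset.mem_filter, Finset.mem_union, Finset.mem_image]
        · constructor
          · rintro ⟨h, hc⟩
            have hfix : π c = c := by simpa [Fx] using (Finset.mem_erase.1 hc).2
            rcases h with h | h | ⟨z, hz, rfl⟩
            · exact ((hsub c).resolve_right (Finset.mem_erase.1 hc).1).1 h
            · exact absurd hfix (hBF c h)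
            · exact absurd (π.injective hfix) (hBF z hz)
          · intro hc
            refine ⟨Or.inl ?_, hS hc⟩
            split_ifs
            · exact hc
            · exact Finset.mem_insert_of_mem hc
        · constructor
          · rintro ⟨h, hc⟩
            have hlt := (hR c).1 hc
            rcases h with h | h | ⟨z, hz, rfl⟩
            · have hcF : c ∈ Fx := by
                split_ifs at h
                · exact (Finset.mem_erase.1 (hS h)).2
                · rcases Finset.mem_insert.1 h with rfl | h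
                  exacts [ho, (Finset.mem_erase.1 (hS h)).2]
              simp [Fx] at hcF
              rw [hcF] at hlt
              exact absurd hlt (lt_irrefl _)
            · exact h
            · have h1 := (hR z).1 (hB hz)
              rw [hπ2] at hlt
              exact absurd h1 (lt_asymm hlt)
          · exact fun hc => ⟨Or.inr (Or.inl hc), hB hc⟩
      rintro ⟨S, B⟩ hAB ⟨S', B'⟩ hAB' h
      simp only [Finset.coe_product, Set.mem_prod, Finset.mem_coe, Finset.mem_powerset] at hAB hAB'
      obtain ⟨k1, k2⟩ := key S B hAB.1 hAB.2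
      obtain ⟨k3, k4⟩ := key S' B' hAB'.1 hAB'.2
      rw [h, k3] at k1
      rw [h, k4] at k2
      rw [k1, k2]
    have hDge : 2 ^ (Fintype.card ι - 3) ≤ D.card := by
      refine le_trans ?_ (Finset.card_le_card_of_injOn mk hmk hinj)
      rw [Finset.card_product, Finset.card_powerset, Finset.card_powerset,
        Finset.card_erase_of_mem ho, ← pow_add]
      exact Nat.pow_le_pow_right two_pos (by omega)
    have hfinal : (2 : ℕ) ^ (2 * (Fintype.card ι - 3)) ≤ 2 ^ (Fintype.card ι + 2) := by
      calc (2 : ℕ) ^ (2 * (Fintype.card ι - 3)) = (2 ^ (Fintype.card ι - 3)) ^ 2 := by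
            rw [← pow_mul, mul_comm]
        _ ≤ (2 * Nat.card E) ^ 2 := Nat.pow_le_pow_left (hDge.trans hDle) 2
        _ = 4 * Nat.card E ^ 2 := by ring
        _ ≤ 4 * 2 ^ Fintype.card ι := Nat.mul_le_mul_left 4 hE
        _ = 2 ^ (Fintype.card ι + 2) := by rw [pow_add]; ring
    have := (Nat.pow_le_pow_iff_right (a := 2) (by omega)).1 hfinal
    omega
  intro g hg
  by_contra hgm
  obtain ⟨Q4, -, hQ4⟩ := Finset.exists_subset_card_eq (s := (Finset.univ : Finset ι)) (n := 4)
    (by rw [Finset.card_univ]; omega)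
  obtain ⟨a, ha, b₀, hb₀, hab⟩ := Finset.one_lt_card.1 (show 1 < Q4.card by omega)
  set q : OQ (fQ F ι) := flipO (1 : ι → F) Q4 with hq
  set s : OQ (fQ F ι) := flipO (1 : ι → F) {a, b₀} with hs
  set b : OQ (fQ F ι) := g * s * g⁻¹ with hb
  have hsK : s ∈ K := hK.flip_mem (by rw [Finset.card_pair hab]; decide)
  have hbK : b ∈ K := mul_mem (mul_mem hg hsK) (inv_mem hg)
  have hqK : q ∈ K := hK.flip_mem (by rw [hQ4]; decide)
  have hbb : b * b = 1 := by
    rw [hb, show g * s * g⁻¹ * (g * s * g⁻¹) = g * (s * s) * g⁻¹ by group, hs, flipO_sq]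
    group
  have hQne : Q4 ≠ Finset.univ := fun e => by
    have := congrArg Finset.card e
    rw [hQ4, Finset.card_univ] at this
    omega
  have hpne : ({a, b₀} : Finset ι) ≠ Finset.univ := fun e => by
    have := congrArg Finset.card e
    rw [Finset.card_pair hab, Finset.card_univ] at this
    omega
  rcases dihedral_split (flipO_sq Q4 : q * q = 1) hbb with ⟨j, hj⟩ | ⟨k, hz1, hzz, hzq, hzb, hcase⟩
  · set y := (q * b) ^ j
    have e : (g⁻¹ * y) * q * (g⁻¹ * y)⁻¹ = flipO (1 : ι → F) {a, b₀} := by
      rw [show (g⁻¹ * y) * q * (g⁻¹ * y)⁻¹ = g⁻¹ * (y * q * y⁻¹) * g by group, hj, hb, ← hs]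
      group
    have := card_eq_of_conj h2 _ e
    rw [Finset.card_pair hab, hQ4] at this
    omega
  have hpow : ∀ n : ℕ, (q * b) ^ n ∈ K := fun n => pow_mem (mul_mem hqK hbK) n
  obtain ⟨v, hv0, hqv, hbv⟩ : ∃ v : ι → F, v ≠ 0 ∧ q • v = v ∧ b • v = v := by
    let P : Finset ι := {a, b₀}
    let Φ : (ι → F) →ₗ[F] ((Q4 ⊕ P : Type _) → F) :=
      LinearMap.pi fun m => Sum.elim (fun m : Q4 => LinearMap.proj (m : ι))
        (fun m : P => (LinearMap.proj (m : ι)).comp
          (((g⁻¹ : OQ (fQ F ι)) : (ι → F) ≃ₗ[F] (ι → F)) : (ι → F) →ₗ[F] (ι → F))) m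
    obtain ⟨v, hv, hv0⟩ : ∃ v, Φ v = 0 ∧ v ≠ 0 := by
      by_contra! h
      have := card_le_of_linearMap Φ h
      rw [Fintype.card_sum, Fintype.card_coe, Fintype.card_coe, hQ4] at this
      have hP : P.card ≤ 2 := Finset.card_le_two
      omega
    refine ⟨v, hv0, funext fun m => ?_, ?_⟩
    · rw [hq, flipO_apply]
      split_ifs with hm
      · have : v m = 0 := congrFun hv (Sum.inl ⟨m, hm⟩)
        rw [this, neg_zero]
      · rfl
    · have : s • g⁻¹ • v = g⁻¹ • v := funext fun m => by
        rw [hs, flipO_apply]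
        split_ifs with hm
        · have : (g⁻¹ • v) m = 0 := congrFun hv (Sum.inr ⟨m, hm⟩)
          rw [this, neg_zero]
        · rfl
      rw [hb, mul_smul, mul_smul, this, smul_inv_smul]
  set z := (q * b) ^ k with hzdef
  have hzbb : Commute (z * b) b := hzb.mul_left (Commute.refl b)
  have hzv : z • v = v := by
    rw [hzdef]
    clear hzdef hz1 hzz hzq hzb hcase hzbb
    induction k with
    | zero => rw [pow_zero, one_smul]
    | succ k ih => rw [pow_succ, mul_smul, mul_smul, hbv, hqv, ih]
  obtain ⟨π, hπ⟩ := A z (hpow k) Q4 (Finset.card_pos.1 (by omega)) hQne hzq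
  simp only [← hq] at hcase
  clear_value q b
  -- the conjugate of `z * b` is a sign change
  obtain ⟨T, hT⟩ : ∃ T, g⁻¹ * (z * b) * g = flipO (1 : ι → F) T := by
    rcases hcase with ⟨n, hn⟩ | ⟨n, hn⟩
    · set x := g⁻¹ * (q * b) ^ n * g with hx
      have hxK : x ∈ K := mul_mem (mul_mem (inv_mem hg) (hpow n)) hg
      have e : g⁻¹ * (z * b) * g = x * s * x⁻¹ := by
        have key : ∀ Y, g⁻¹ * (Y * b * Y⁻¹) * g = g⁻¹ * Y * g * s * (g⁻¹ * Y * g)⁻¹ :=
          fun Y => by rw [hb]; group
        rw [← hn, hx]; exact key _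
      have hm : IsMon (x * s * x⁻¹) := by
        refine A _ (mul_mem (mul_mem hxK hsK) (inv_mem hxK)) {a, b₀} (by simp) hpne ?_
        rw [← e, ← hs]
        show g⁻¹ * (z * b) * g * s = s * (g⁻¹ * (z * b) * g)
        rw [show g⁻¹ * (z * b) * g * s = g⁻¹ * ((z * b) * b) * g by rw [hb]; group, hzbb.eq, hb]
        group
      obtain ⟨ρ, hρ⟩ := Fusion x hxK a b₀ hab (hs ▸ hm)
      exact ⟨_, e.trans (hs ▸ hρ.conj_flip _)⟩
    · obtain ⟨y, hyK, hn⟩ : ∃ y ∈ K, y * q * y⁻¹ = z * b := ⟨_, hpow n, hn⟩
      have hcy : Commute (y⁻¹ * b * y) q := by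
        have e' : q = y⁻¹ * (z * b) * y := by rw [← hn]; group
        rw [e']
        show y⁻¹ * b * y * (y⁻¹ * (z * b) * y) = y⁻¹ * (z * b) * y * (y⁻¹ * b * y)
        rw [show y⁻¹ * b * y * (y⁻¹ * (z * b) * y) = y⁻¹ * (b * (z * b)) * y by group, ← hzbb.eq]
        group
      have hmx : IsMon ((y⁻¹ * g) * s * (y⁻¹ * g)⁻¹) := by
        rw [show (y⁻¹ * g) * s * (y⁻¹ * g)⁻¹ = y⁻¹ * b * y by rw [hb]; group]
        exact A _ (mul_mem (mul_mem (inv_mem hyK) hbK) hyK) Q4 (Finset.card_pos.1 (by omega)) hQne
          (hq ▸ hcy)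
      obtain ⟨ρ, hρ⟩ := (Fusion _ (mul_mem (inv_mem hyK) hg) a b₀ hab (hs ▸ hmx)).inv
      refine ⟨Q4.image ρ, ?_⟩
      rw [← hρ.conj_flip, ← hn, ← hq]
      group
  have hz' : g⁻¹ * z * g = flipO (1 : ι → F) (symmDiff T {a, b₀}) := by
    rw [← flipO_mul, ← hT, ← hs, hb]
    rw [show g⁻¹ * (z * (g * s * g⁻¹)) * g * s = g⁻¹ * z * g * (s * s) by group, hs, flipO_sq,
      mul_one]
  have hT1 : (symmDiff T {a, b₀}).Nonempty := by
    rw [Finset.nonempty_iff_ne_empty]
    intro e
    rw [e, flipO_empty] at hz'
    exact hz1 (calc z = g * (g⁻¹ * z * g) * g⁻¹ := by group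
      _ = 1 := by rw [hz']; group)
  have hT2 : symmDiff T {a, b₀} ≠ Finset.univ := by
    intro e
    rw [e] at hz'
    have hzneg : z = flipO (1 : ι → F) Finset.univ :=
      calc z = g * (g⁻¹ * z * g) * g⁻¹ := by group
        _ = flipO (1 : ι → F) Finset.univ := by
          rw [hz']
          exact mul_inv_eq_iff_eq_mul.2 (commute_univ g).eq
    rw [hzneg, flipO_univ_smul] at hzv
    apply hv0
    funext m
    have := congrFun hzv m
    exact (mul_eq_zero.1 (show (2 : F) * v m = 0 by
      simp at this; linear_combination -this)).resolve_left h2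
  obtain ⟨j, l, hjl, himg⟩ : ∃ j l, j ≠ l ∧ ({j, l} : Finset ι).image π = {j, l} := by
    have hπ2 : ∀ i, π (π i) = i := fun i => by
      have := hπ.mul hπ
      rw [show z * z = 1 from hzz] at this
      rw [← Equiv.Perm.mul_apply, this.unique monBy_one]; rfl
    by_cases h : ∃ j, π j ≠ j
    · obtain ⟨j, hj⟩ := h
      exact ⟨j, π j, Ne.symm hj, by rw [Finset.image_insert, Finset.image_singleton, hπ2, Finset.pair_comm]⟩
    · push Not at h
      obtain ⟨j, -, l, -, hjl⟩ := Finset.one_lt_card.1
        (show 1 < (Finset.univ : Finset ι).card by rw [Finset.card_univ]; omega)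
      exact ⟨j, l, hjl, by rw [Finset.image_insert, Finset.image_singleton, h, h]⟩
  have hw : Commute z (flipO (1 : ι → F) {j, l}) := by
    have := hπ.conj_flip {j, l}
    rw [himg] at this
    exact mul_inv_eq_iff_eq_mul.1 this
  refine hgm ?_
  have hm : IsMon (g⁻¹ * flipO (1 : ι → F) {j, l} * g⁻¹⁻¹) := by
    refine A _ (mul_mem (mul_mem (inv_mem hg) (hK.flip_mem (by rw [Finset.card_pair hjl]; decide)))
      (by rw [inv_inv]; exact hg)) _ hT1 hT2 ?_
    rw [← hz', inv_inv]
    show g⁻¹ * _ * g * (g⁻¹ * z * g) = g⁻¹ * z * g * (g⁻¹ * _ * g)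
    rw [show ∀ p q : OQ (fQ F ι), g⁻¹ * p * g * (g⁻¹ * q * g) = g⁻¹ * (p * q) * g from
      fun p q => by group, ← hw.eq]
    group
  simpa using (Fusion g⁻¹ (inv_mem hg) j l hjl hm).inv

end CfsgLib.Geo.Frame
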