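import Cfsg.Agent.Lib.Geo.Frame.Main

/-!
Orthonormal frames in dimension five.
-/

set_option autoImplicit false
set_option maxHeartbeats 1000000

namespace CfsgLib.Geo.Frame

open CfsgLib.Classical CfsgLib.Classical.Quad CfsgLib.Classical.Dickson
open QuadraticMap (polar polarBilin)

universe u

variable {F : Type u} [Field F] [Fintype F]

/-- Squares in the short regime of octahedral type. -/
def SV (v : F) : Prop := 4 * v = 1 ∨ 2 * v = 1

/-- Squares in the short regime of icosahedral type. -/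
def WV (v : F) : Prop := 4 * v = 1 ∨ 16 * v ^ 2 - 12 * v + 1 = 0

omit [Fintype F] in
/-- The order of a product of two reflections determines the cosine. -/
theorem refl_pair_pow {V : Type*} [AddCommGroup V] [Module F V] [FiniteDimensional F V] {Q : QuadraticForm F V}
    (h2 : (2 : F) ≠ 0) {e u : V} (he : Q e ≠ 0) (hu : Q u ≠ 0) (hu1 : Q u = 1)
    (hs : polar Q e u ≠ 0) (hind : ∀ a b : F, a • e + b • u = 0 → a = 0 ∧ b = 0) {v : F}
    (hv : 4 * Q e * v = polar Q e u ^ 2) :
    (refl hu * refl he) ^ 2 ≠ 1 ∧ ((refl hu * refl he) ^ 3 = 1 → 4 * v = 1) ∧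
      ((refl hu * refl he) ^ 4 = 1 → 2 * v = 1) ∧
      ((refl hu * refl he) ^ 5 = 1 → 16 * v ^ 2 - 12 * v + 1 = 0) := by
  set Y : OQ Q := refl hu * refl he with hY
  set s := polar Q e u with hsdef
  set T := 4 * v - 2 with hT
  have hmul : ∀ (g h : OQ Q) (x : V), ((g * h : OQ Q) : V ≃ₗ[F] V) x = (g : V ≃ₗ[F] V) ((h : V ≃ₗ[F] V) x) :=
    fun _ _ _ => rfl
  have hee : polar Q e e = 2 * Q e := polar_self' e
  have huu : polar Q u u = 2 := by rw [polar_self', hu1, mul_one]
  have hue : polar Q u e = s := by rw [QuadraticMap.polar_comm]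
  have y1 : (Y : V ≃ₗ[F] V) e = (-1 : F) • e + s • u := by
    rw [hY, hmul, refl_apply he, hee, show e - ((Q e)⁻¹ * (2 * Q e)) • e = (-1 : F) • e by
      rw [mul_left_comm, inv_mul_cancel₀ he, mul_one]; module, refl_apply hu, hu1, inv_one, one_mul, polar_smul_left',
      ← hsdef]
    module
  have y2 : (Y : V ≃ₗ[F] V) u = (4 * v - 1) • u + (-((Q e)⁻¹ * s)) • e := by
    rw [hY, hmul, refl_apply he, hue, map_sub, LinearEquiv.map_smul, refl_apply hu, refl_apply hu, huu, hu1, inv_one,
      ← hsdef]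
    have e4 : 4 * v = (Q e)⁻¹ * s * s := by
      field_simp
      linear_combination hv
    rw [e4]
    module
  have y3 : (Y : V ≃ₗ[F] V) ((Y : V ≃ₗ[F] V) e) = T • (Y : V ≃ₗ[F] V) e - e := by
    rw [y1, map_add, LinearEquiv.map_smul, LinearEquiv.map_smul, y1, y2, hT]
    have e4 : s * ((Q e)⁻¹ * s) = 4 * v := by
      field_simp
      linear_combination -hv
    match_scalars <;> first | ring1 | linear_combination e4 | linear_combination -e4
  have step : ∀ a b : F, (Y : V ≃ₗ[F] V) (a • (Y : V ≃ₗ[F] V) e + b • e) =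
      (a * T + b) • (Y : V ≃ₗ[F] V) e + (-a) • e := fun a b => by
    rw [map_add, LinearEquiv.map_smul, LinearEquiv.map_smul, y3]
    module
  have hpow : ∀ (n : ℕ) x, ((Y ^ (n + 1) : OQ Q) : V ≃ₗ[F] V) x = (Y : V ≃ₗ[F] V) (((Y ^ n : OQ Q) : V ≃ₗ[F] V) x) := fun n x => by
    rw [pow_succ']; rfl
  have p1 : ((Y ^ 1 : OQ Q) : V ≃ₗ[F] V) e = (1 : F) • (Y : V ≃ₗ[F] V) e + (0 : F) • e := by
    rw [pow_one]; module
  have p2 := (hpow 1 e).trans (by rw [p1, step])
  have p3 := (hpow 2 e).trans (by rw [p2, step])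
  have p4 := (hpow 3 e).trans (by rw [p3, step])
  have p5 := (hpow 4 e).trans (by rw [p4, step])
  have coef : ∀ a b : F, a • (Y : V ≃ₗ[F] V) e + b • e = e → a = 0 ∧ b = 1 := fun a b h => by
    rw [y1] at h
    obtain ⟨h1, h3⟩ := hind (-a + b - 1) (a * s) (by linear_combination (norm := module) h)
    have ha : a = 0 := (mul_eq_zero.1 h3).resolve_right hs
    exact ⟨ha, by linear_combination h1 + ha⟩
  have hone : ∀ {n : ℕ}, Y ^ n = 1 → ((Y ^ n : OQ Q) : V ≃ₗ[F] V) e = e := fun {n} h => by rw [h]; rfl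
  refine ⟨fun h => ?_, fun h => ?_, fun h => ?_, fun h => ?_⟩
  · obtain ⟨-, h1⟩ := coef _ _ (p2.symm.trans (hone h))
    exact h2 (by linear_combination -h1)
  · obtain ⟨h0, h1⟩ := coef _ _ (p3.symm.trans (hone h))
    rw [hT] at h0 h1
    linear_combination -h1
  · obtain ⟨h0, h1⟩ := coef _ _ (p4.symm.trans (hone h))
    rw [hT] at h0 h1
    have hT0 : T = 0 := by
      refine mul_left_cancel₀ h2 ?_
      rw [hT]
      linear_combination -h0 - (4 * v - 2) * h1
    rw [hT] at hT0
    refine mul_left_cancel₀ h2 ?_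
    linear_combination hT0
  · obtain ⟨h0, h1⟩ := coef _ _ (p5.symm.trans (hone h))
    rw [hT] at h0 h1
    linear_combination -h0 - (4 * v - 2) * h1

theorem dihedral_commute {n : ℕ} (a b t : DihedralGroup n) (ha : a * a = 1) (hb : b * b = 1) (hab : a * b = b * a)
    (ht : t * t = 1) : a * t = t * a ∨ b * t = t * b ∨ a * b * t = t * (a * b) := by
  have hrot : ∀ (j : ZMod n) (x : DihedralGroup n), DihedralGroup.r j * DihedralGroup.r j = 1 →
      DihedralGroup.r j * x = x * DihedralGroup.r j := by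
    intro j x hj
    rw [DihedralGroup.r_mul_r, DihedralGroup.one_def, DihedralGroup.r.injEq] at hj
    cases x with
    | r i => rw [DihedralGroup.r_mul_r, DihedralGroup.r_mul_r, add_comm]
    | sr i =>
      rw [DihedralGroup.r_mul_sr, DihedralGroup.sr_mul_r, DihedralGroup.sr.injEq]
      linear_combination -hj
  have := ht
  rcases a with i | i
  · exact Or.inl (hrot i t ha)
  rcases b with j | j
  · exact Or.inr (Or.inl (hrot j t hb))
  · refine Or.inr (Or.inr ?_)
    rw [DihedralGroup.sr_mul_sr]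
    refine hrot _ t ?_
    rw [← DihedralGroup.sr_mul_sr]
    calc DihedralGroup.sr i * DihedralGroup.sr j * (DihedralGroup.sr i * DihedralGroup.sr j)
        = DihedralGroup.sr i * (DihedralGroup.sr j * DihedralGroup.sr i) * DihedralGroup.sr j := by group
      _ = (DihedralGroup.sr i * DihedralGroup.sr i) * (DihedralGroup.sr j * DihedralGroup.sr j) := by rw [← hab]; group
      _ = 1 := by rw [ha, hb, one_mul]

theorem alt_four_commute : ∀ g h : alternatingGroup (Fin 4), g ^ 2 = 1 → h ^ 2 = 1 → g * h = h * g := by decide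

set_option maxRecDepth 100000 in
theorem perm_four_order : ∀ g : Equiv.Perm (Fin 4), g ^ 2 = 1 ∨ g ^ 3 = 1 ∨ g ^ 4 = 1 := by decide

set_option maxRecDepth 100000 in
theorem alt_five_order : ∀ g : alternatingGroup (Fin 5), g ^ 2 = 1 ∨ g ^ 3 = 1 ∨ g ^ 5 = 1 := by decide

/-- A root of full support in a three-space: everything, or the squares are short. -/
theorem big_or_vals {p : ℕ} [Fact p.Prime] [CharP F p] (hp5 : 5 ≤ p)
    (hF : Fintype.card F = p) {σ : F} (hσ : σ ≠ 0) (P : (Fin 3 → F) → Prop)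
    (hneg : ∀ x, P x → P (-x))
    (hrefl : ∀ v, P v → ∀ h : wQ (w3 σ) v ≠ 0, ∀ x, P x → P (refl h • x))
    (h0 : P (ee 0)) (h1 : P (ee 1))
    {u : Fin 3 → F} (hu : P u) (huQ : wQ (w3 σ) u = 1) (hu0 : u 0 ≠ 0) (hu1' : u 1 ≠ 0) (hu2 : u 2 ≠ 0) :
    (∀ x, wQ (w3 σ) x = 1 → P x) ∨ (SV (u 0 * u 0) ∧ SV (u 1 * u 1) ∧ SV (σ * (u 2 * u 2))) ∨
      (WV (u 0 * u 0) ∧ WV (u 1 * u 1) ∧ WV (σ * (u 2 * u 2))) := by
  classical
  haveI : Finite ((Fin 3 → F) ≃ₗ[F] (Fin 3 → F)) :=
    Finite.of_injective (fun e => (⇑e : (Fin 3 → F) → (Fin 3 → F))) DFunLike.coe_injective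
  have hpr : p.Prime := Fact.out
  have h2 : (2 : F) ≠ 0 := fun h => by
    rw [show (2 : F) = ((2 : ℕ) : F) from rfl, CharP.cast_eq_zero_iff F p] at h
    have := Nat.le_of_dvd two_pos h; omega
  set Q := wQ (w3 σ) with hQdef
  have hQx : ∀ x, Q x = x 0 * x 0 + x 1 * x 1 + σ * (x 2 * x 2) := wQ3_apply σ
  have hQp : ∀ x y, polar Q x y = 2 * (x 0 * y 0 + x 1 * y 1 + σ * (x 2 * y 2)) := polar_wQ3 σ
  have hQnd : (polarBilin Q).Nondegenerate := wQ_nondegenerate h2 (w3_ne hσ)
  let H : Subgroup (OQ Q) :=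
    { carrier := {g | ∀ x, P x ↔ P (g • x)}
      one_mem' := fun x => by rw [one_smul]
      mul_mem' := fun {a b} ha hb x => by rw [hb x, ha (b • x), mul_smul]
      inv_mem' := fun {a} ha x => by rw [ha (a⁻¹ • x), smul_inv_smul] }
  have memH : ∀ g : OQ Q, g * g = 1 → (∀ x, P x → P (g • x)) → g ∈ H := fun g hg hP x =>
    ⟨hP x, fun h => by have := hP _ h; rwa [← mul_smul, hg, one_smul] at this⟩
  set Z : OQ Q := flipO (w3 σ) Finset.univ with hZ
  have hZx : ∀ x : Fin 3 → F, Z • x = -x := fun x => funext fun i => by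
    rw [hZ, flipO_apply, if_pos (Finset.mem_univ i)]; rfl
  have hZH : Z ∈ H := memH _ (flipO_sq _) fun x hx => by rw [hZx]; exact hneg x hx
  have hq0 : Q (ee 0) = 1 := by rw [hQx]; simp
  have hq1 : Q (ee 1) = 1 := by rw [hQx]; simp
  have hq2 : Q (ee 2) = σ := by rw [hQx]; simp
  have hn0 : Q (ee 0) ≠ 0 := by rw [hq0]; exact one_ne_zero
  have hn1 : Q (ee 1) ≠ 0 := by rw [hq1]; exact one_ne_zero
  have hn2 : Q (ee 2) ≠ 0 := by rw [hq2]; exact hσ
  have hnu : Q u ≠ 0 := by rw [huQ]; exact one_ne_zero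
  set R0 : OQ Q := refl hn0 with hR0
  set R1 : OQ Q := refl hn1 with hR1
  set R2 : OQ Q := refl hn2 with hR2
  set U : OQ Q := refl hnu with hU
  have hR0H : R0 ∈ H := memH _ (refl_mul_self _) (hrefl _ h0 hn0)
  have hR1H : R1 ∈ H := memH _ (refl_mul_self _) (hrefl _ h1 hn1)
  have hUH : U ∈ H := memH _ (refl_mul_self _) (hrefl _ hu hnu)
  have R0x : ∀ x : Fin 3 → F, R0 • x = ![-x 0, x 1, x 2] := fun x => funext fun i => by
    rw [hR0, smul_def, refl_apply, hq0, hQp]
    fin_cases i <;> simp <;> ring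
  have R1x : ∀ x : Fin 3 → F, R1 • x = ![x 0, -x 1, x 2] := fun x => funext fun i => by
    rw [hR1, smul_def, refl_apply, hq1, hQp]
    fin_cases i <;> simp <;> ring
  have R2x : ∀ x : Fin 3 → F, R2 • x = ![x 0, x 1, -x 2] := fun x => funext fun i => by
    rw [hR2, smul_def, refl_apply, hq2, hQp]
    fin_cases i <;> simp <;> field_simp <;> ring
  have hR2eq : R2 = R0 * R1 * Z := eq_of_smul fun x => by
    rw [mul_smul, mul_smul, hZx, R1x, R0x, R2x]; simp
  have hR2H : R2 ∈ H := hR2eq ▸ mul_mem (mul_mem hR0H hR1H) hZH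
  let δ : OQ Q →* Fˣ := LinearEquiv.det.comp (OQ Q).subtype
  have hδ : ∀ (v : Fin 3 → F) (hv : Q v ≠ 0), δ (refl hv) = -1 := fun v hv => Units.ext (by
    rw [show ((δ (refl hv) : Fˣ) : F) = LinearMap.det (reflMap Q v) from LinearEquiv.coe_det _,
      det_refl hv]; rfl)
  have hδZ : δ Z = -1 := by
    rw [show Z = R0 * R1 * R2 by rw [hR2eq]; refine eq_of_smul fun x => ?_; simp only [mul_smul, hZx, R0x, R1x]; funext i; fin_cases i <;> simp,
      map_mul, map_mul, hδ, hδ, hδ]; simp
  have hne1 : (-1 : Fˣ) ≠ 1 := fun h => h2 (by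
    have := congrArg (fun z : Fˣ => (z : F)) h
    simp at this; linear_combination -this)
  -- the map to the Möbius group
  let L := AlgebraicClosure F
  let f : F →+* L := algebraMap F L
  haveI : CharP L p := charP_of_injective_algebraMap f.injective p
  have hL2 : (2 : L) ≠ 0 := by rw [← map_ofNat f 2]; exact (map_ne_zero f).2 h2
  let B : LinearMap.BilinForm L (Fin 3 → L) :=
    Matrix.toBilin' (Matrix.diagonal fun i => f (w3 σ i))
  have hB : ∀ a b : Fin 3 → L, B a b = ∑ i, f (w3 σ i) * (a i * b i) := fun a b => by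
    simp only [B, Matrix.toBilin'_apply', Matrix.mulVec_diagonal, dotProduct]
    exact Finset.sum_congr rfl fun i _ => by ring
  have hBinv : ∀ (g : H) (a b : Fin 3 → L),
      B (extHom f (g : OQ Q) a) (extHom f (g : OQ Q) b) = B a b := by
    intro g a b
    have hB' : B.compl₁₂ (extHom f (g : OQ Q)) (extHom f (g : OQ Q)) = B := by
      refine LinearMap.BilinForm.ext_basis (Pi.basisFun L (Fin 3)) fun i j => ?_
      rw [Pi.basisFun_apply, Pi.basisFun_apply, LinearMap.compl₁₂_apply, hB, hB]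
      have key := OQ.map_polar (g : OQ Q) (ee i) (ee j)
      simp only [← smul_def] at key
      rw [show ∀ x y, polar Q x y = 2 * ∑ k, w3 σ k * (x k * y k) from polar_wQ (w3 σ)] at key
      rw [show ∀ x y, polar Q x y = 2 * ∑ k, w3 σ k * (x k * y k) from polar_wQ (w3 σ)] at key
      have key' := congrArg f (mul_left_cancel₀ h2 key)
      simp only [map_sum, map_mul] at key'
      simp only [extHom_ee]
      rw [key']
      refine Finset.sum_congr rfl fun k _ => ?_
      simp only [ee, Pi.single_apply]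
      split_ifs <;> simp
    exact congrArg (fun M : LinearMap.BilinForm L (Fin 3 → L) => M a b) hB'
  obtain ⟨i₀, hi₀⟩ := IsAlgClosed.exists_pow_nat_eq (-1 : L) (n := 2) two_pos
  obtain ⟨φ, hφ⟩ := CfsgLib.Char.HalfDegree.exists_mob_hom hL2 ((extHom f).comp H.subtype) B
    (fun a b => by rw [hB, hB]; exact Finset.sum_congr rfl fun i _ => by ring)
    (fun a ha => funext fun i => by
      have := ha (Pi.single i 1)
      rw [hB, Finset.sum_eq_single i (fun j _ hj => by simp [hj]) (by simp)] at this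
      simpa [(map_ne_zero f).2 (w3_ne hσ i)] using this)
    hBinv (v := ![1, i₀, 0])
    (fun h => (one_ne_zero : (1 : L) ≠ 0) (by simpa using congrFun h 0))
    (by rw [hB, Fin.sum_univ_three]; simp [w3]; linear_combination hi₀)
  have hker : ∀ g : H, φ g = 1 → (g : OQ Q) = 1 ∨ (g : OQ Q) = Z := by
    intro g hg
    rcases (hφ g).1 hg with h | h
    · left
      refine eq_of_smul_ee (w := w3 σ) fun j => funext fun i => f.injective ?_
      rw [one_smul, ← extHom_ee f (g : OQ Q) i j, show extHom f (g : OQ Q) = 1 from h,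
        Module.End.one_apply]
      simp [Pi.single_apply, apply_ite f]
    · right
      refine eq_of_smul_ee (w := w3 σ) fun j => funext fun i => f.injective ?_
      rw [hZx, ← extHom_ee f (g : OQ Q) i j, show extHom f (g : OQ Q) = -1 from h,
        LinearMap.neg_apply, Module.End.one_apply]
      simp [Pi.single_apply, apply_ite f]
  set G := φ.range
  haveI : Finite G := Finite.of_surjective _ φ.rangeRestrict_surjective
  set t : H := ⟨U, hUH⟩
  -- the rotation attached to an axis
  have rot : ∀ (k : Fin 3) (hk : Q (ee k) ≠ 0) (hkH : Quad.refl hk ∈ H) (v : F),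
      4 * Q (ee k) * v = polar Q (ee k) u ^ 2 → polar Q (ee k) u ≠ 0 →
      φ.rangeRestrict (t * ⟨refl hk, hkH⟩) ^ 2 ≠ 1 ∧ ∀ n : ℕ, φ.rangeRestrict (t * ⟨refl hk, hkH⟩) ^ n = 1 →
        ((n = 3 → 4 * v = 1) ∧ (n = 4 → 2 * v = 1) ∧ (n = 5 → 16 * v ^ 2 - 12 * v + 1 = 0)) := by
    intro k hk hkH v hv hs
    have hind : ∀ a b : F, a • (ee k : Fin 3 → F) + b • u = 0 → a = 0 ∧ b = 0 := by
      intro a b hab
      obtain ⟨j, hjk, huj⟩ : ∃ j, j ≠ k ∧ u j ≠ 0 := by
        fin_cases k
        · exact ⟨1, by decide, hu1'⟩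
        · exact ⟨0, by decide, hu0⟩
        · exact ⟨0, by decide, hu0⟩
      have hb : b = 0 := by
        have := congrFun hab j
        simpa [ee_ne hjk, huj] using this
      refine ⟨?_, hb⟩
      have := congrFun hab k
      simpa [hb, ee_self] using this
    obtain ⟨e2, e3, e4, e5⟩ := refl_pair_pow h2 hk hnu huQ hs hind hv
    have lift : ∀ n : ℕ, φ.rangeRestrict (t * ⟨refl hk, hkH⟩) ^ n = 1 → (U * refl hk) ^ n = 1 := by
      intro n hn
      rw [← map_pow] at hn
      rcases hker _ (congrArg Subtype.val hn) with e | e <;> rw [Subgroup.coe_pow, Subgroup.coe_mul] at e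
      · exact e
      · exfalso
        have := congrArg δ e
        rw [hδZ, map_pow, map_mul, hδ, hδ, neg_mul_neg, one_mul, one_pow] at this
        exact hne1 this.symm
    exact ⟨fun h => e2 (lift 2 h), fun n hn => ⟨fun e => e3 (by subst e; exact lift _ hn), fun e => e4 (by subst e; exact lift _ hn),
      fun e => e5 (by subst e; exact lift _ hn)⟩⟩
  obtain ⟨ne0, o0⟩ := rot 0 hn0 hR0H (u 0 * u 0) (by rw [hq0, hQp]; simp; ring)
    (by rw [hQp]; simp [hu0, h2])
  obtain ⟨ne1, o1⟩ := rot 1 hn1 hR1H (u 1 * u 1) (by rw [hq1, hQp]; simp; ring)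
    (by rw [hQp]; simp [hu1', h2])
  obtain ⟨ne2, o2⟩ := rot 2 hn2 hR2H (σ * (u 2 * u 2)) (by rw [hq2, hQp]; simp; ring)
    (by rw [hQp]; simp [hu2, hσ, h2])
  set z0 : G := φ.rangeRestrict ⟨R0, hR0H⟩ with hz0
  set z1 : G := φ.rangeRestrict ⟨R1, hR1H⟩ with hz1
  set z2 : G := φ.rangeRestrict ⟨R2, hR2H⟩ with hz2
  set T : G := φ.rangeRestrict t with hTdef
  have hZ1 : φ.rangeRestrict ⟨Z, hZH⟩ = 1 := Subtype.ext ((hφ _).2 (Or.inr (by
    refine (Pi.basisFun L (Fin 3)).ext fun j => funext fun i => ?_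
    show extHom f Z (Pi.basisFun L (Fin 3) j) i = -(Pi.basisFun L (Fin 3) j) i
    rw [Pi.basisFun_apply, extHom_ee, hZx, Pi.neg_apply, map_neg]
    simp [Pi.single_apply, apply_ite f])))
  have s0 : z0 * z0 = 1 := by rw [hz0, ← map_mul, show (⟨R0, hR0H⟩ : H) * ⟨R0, hR0H⟩ = 1 from
    Subtype.ext (refl_mul_self hn0), map_one]
  have s1 : z1 * z1 = 1 := by rw [hz1, ← map_mul, show (⟨R1, hR1H⟩ : H) * ⟨R1, hR1H⟩ = 1 from
    Subtype.ext (refl_mul_self hn1), map_one]
  have sT : T * T = 1 := by rw [hTdef, ← map_mul, show t * t = 1 from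
    Subtype.ext (refl_mul_self hnu), map_one]
  have e01 : z0 * z1 = z1 * z0 := by
    rw [hz0, hz1, ← map_mul, ← map_mul]
    congr 1
    exact Subtype.ext (eq_of_smul fun x => by
      show (R0 * R1) • x = (R1 * R0) • x
      simp only [mul_smul, R0x, R1x]; simp)
  have e2 : z2 = z0 * z1 := by
    rw [hz2, show (⟨R2, hR2H⟩ : H) = ⟨R0, hR0H⟩ * ⟨R1, hR1H⟩ * ⟨Z, hZH⟩ from Subtype.ext hR2eq, map_mul, map_mul,
      hZ1, mul_one]
  have s2 : z2 * z2 = 1 := by
    rw [e2]
    calc z0 * z1 * (z0 * z1) = z0 * (z1 * z0) * z1 := by group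
      _ = (z0 * z0) * (z1 * z1) := by rw [← e01]; group
      _ = 1 := by rw [s0, s1, one_mul]
  have ncomm : ∀ z : G, z * z = 1 → (T * z) ^ 2 ≠ 1 → z * T ≠ T * z := fun z hz hne he => hne (by
    calc (T * z) ^ 2 = T * (z * T) * z := by rw [pow_two]; group
      _ = (T * T) * (z * z) := by rw [he]; group
      _ = 1 := by rw [sT, hz, one_mul])
  rw [map_mul] at ne0 ne1 ne2
  simp only [map_mul] at o0 o1 o2
  have c0 := ncomm z0 s0 ne0
  have c1 := ncomm z1 s1 ne1
  have c2 := ncomm z2 s2 ne2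
  rcases structure_cases (p := p) (G := G) with h | h | h | h | h | h | h
  · exfalso
    obtain ⟨gen, hgen⟩ := h.1.exists_generator
    obtain ⟨a, ha⟩ := hgen z0
    obtain ⟨b, hb⟩ := hgen T
    exact c0 (by rw [← ha, ← hb]; exact (Commute.zpow_zpow_self gen a b).eq)
  · obtain ⟨-, x, hx⟩ := h
    exfalso
    obtain ⟨μ, hμ, -, -⟩ := exists_stab_hom (p := p) (G := G) x
    have hodd : p % 2 = 1 := (Nat.Prime.eq_two_or_odd hpr).resolve_left (by omega)
    have kill : ∀ z : MulAction.stabilizer G x, μ z = 1 → z * z = 1 → (z : G) = 1 := fun z hz hzz => by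
      have hp := (hμ _).1 hz
      have h2' : (z : G) ^ 2 = 1 := by rw [pow_two]; exact congrArg Subtype.val hzz
      have := pow_gcd_eq_one.2 ⟨h2', hp⟩
      rwa [(Nat.coprime_primes Nat.prime_two hpr).2 (by omega), pow_one] at this
    let Z0 : MulAction.stabilizer G x := ⟨z0, hx _⟩
    let Z1 : MulAction.stabilizer G x := ⟨z1, hx _⟩
    have q0 : μ Z0 * μ Z0 = 1 := by rw [← map_mul, show Z0 * Z0 = 1 from Subtype.ext s0, map_one]
    have q1 : μ Z1 * μ Z1 = 1 := by rw [← map_mul, show Z1 * Z1 = 1 from Subtype.ext s1, map_one]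
    have hone : ∀ z : G, z = 1 → z * T = T * z := fun z hz => by rw [hz, one_mul, mul_one]
    have sq1 : ∀ a : Lˣ, a * a = 1 → a = 1 ∨ a = -1 := fun a ha => by
      rcases mul_self_eq_one_iff.1 (show (a : L) * a = 1 by rw [← Units.val_mul, ha, Units.val_one]) with e | e
      · exact Or.inl (Units.ext e)
      · exact Or.inr (Units.ext (by rw [e]; simp))
    rcases sq1 _ q0 with e | e
    · exact c0 (hone _ (kill Z0 e (Subtype.ext s0)))
    rcases sq1 _ q1 with e' | e'
    · exact c1 (hone _ (kill Z1 e' (Subtype.ext s1)))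
    refine c2 (hone _ ?_)
    rw [e2]
    exact kill (Z0 * Z1) (by rw [map_mul, e, e', neg_mul_neg, one_mul])
      (Subtype.ext (by
        show z0 * z1 * (z0 * z1) = 1
        rw [← e2]; exact s2))
  · obtain ⟨n, -, -, -, ⟨e⟩⟩ := h
    exfalso
    rcases dihedral_commute (e z0) (e z1) (e T) (by rw [← map_mul, s0, map_one]) (by rw [← map_mul, s1, map_one])
      (by rw [← map_mul, e01, map_mul]) (by rw [← map_mul, sT, map_one]) with k | k | k <;>
      simp only [← map_mul] at k
    · exact c0 (e.injective k)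
    · exact c1 (e.injective k)
    · exact c2 (by rw [e2]; exact e.injective k)
  · obtain ⟨e⟩ := h
    exfalso
    refine c0 (e.injective ?_)
    rw [map_mul, map_mul]
    exact alt_four_commute _ _ (by rw [← map_pow, pow_two, s0, map_one]) (by rw [← map_pow, pow_two, sT, map_one])
  · obtain ⟨e⟩ := h
    right; left
    have key : ∀ z : G, (T * z) ^ 2 ≠ 1 → (T * z) ^ 3 = 1 ∨ (T * z) ^ 4 = 1 := fun z hz => by
      rcases perm_four_order (e (T * z)) with k | k | k <;> rw [← map_pow] at k
      · exact absurd (e.injective (k.trans (map_one e).symm)) hz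
      · exact Or.inl (e.injective (k.trans (map_one e).symm))
      · exact Or.inr (e.injective (k.trans (map_one e).symm))
    exact ⟨(key _ ne0).imp (fun k => (o0 3 k).1 rfl) (fun k => (o0 4 k).2.1 rfl),
      (key _ ne1).imp (fun k => (o1 3 k).1 rfl) (fun k => (o1 4 k).2.1 rfl),
      (key _ ne2).imp (fun k => (o2 3 k).1 rfl) (fun k => (o2 4 k).2.1 rfl)⟩
  · obtain ⟨e⟩ := h
    right; right
    have key : ∀ z : G, (T * z) ^ 2 ≠ 1 → (T * z) ^ 3 = 1 ∨ (T * z) ^ 5 = 1 := fun z hz => by
      rcases alt_five_order (e (T * z)) with k | k | k <;> rw [← map_pow] at k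
      · exact absurd (e.injective (k.trans (map_one e).symm)) hz
      · exact Or.inl (e.injective (k.trans (map_one e).symm))
      · exact Or.inr (e.injective (k.trans (map_one e).symm))
    exact ⟨(key _ ne0).imp (fun k => (o0 3 k).1 rfl) (fun k => (o0 5 k).2.2 rfl),
      (key _ ne1).imp (fun k => (o1 3 k).1 rfl) (fun k => (o1 5 k).2.2 rfl),
      (key _ ne2).imp (fun k => (o2 3 k).1 rfl) (fun k => (o2 5 k).2.2 rfl)⟩
  · left
    obtain ⟨K, h, hK, hKG⟩ := exists_subfield h
    haveI : Finite K := hK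
    letI : Fintype K := Fintype.ofFinite K
    haveI : CharP K p := (K.subtype.charP_iff K.subtype.injective p).2 inferInstance
    obtain ⟨n, hn⟩ : ∃ n : ℕ+, Fintype.card K = p ^ (n : ℕ) := by
      obtain ⟨m, -, hm⟩ := FiniteField.card K p
      exact ⟨m, hm⟩
    have hq : p ≤ Fintype.card K := by
      rw [hn]; exact Nat.le_self_pow n.ne_zero p
    have hpsl : Nat.card (Matrix.ProjectiveSpecialLinearGroup (Fin 2) K) ≤ Nat.card G := by
      rw [Nat.card_congr (G.equivMapOfInjective (MulAut.conj h).toMonoidHom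
        (MulAut.conj h).injective).toEquiv]
      haveI : Finite (G.map (MulAut.conj h).toMonoidHom) :=
        Finite.of_equiv _ (G.equivMapOfInjective (MulAut.conj h).toMonoidHom
          (MulAut.conj h).injective).toEquiv
      rcases hKG with e | ⟨-, e⟩
      · refine le_trans (le_of_eq
          (Nat.card_congr (MonoidHom.ofInjective (mapPSL_injective K)).toEquiv))
          (Subgroup.card_le_of_le ?_)
        rw [e]
        rintro _ ⟨a, rfl⟩
        exact ⟨_, rfl⟩
      · rw [e]
        exact le_of_eq (Nat.card_congr (MonoidHom.ofInjective (mapPSL_injective K)).toEquiv)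
    have hG : p * (p ^ 2 - 1) ≤ 2 * Nat.card G := by
      calc p * (p ^ 2 - 1) ≤ Fintype.card K * (Fintype.card K ^ 2 - 1) :=
            Nat.mul_le_mul hq (Nat.sub_le_sub_right (Nat.pow_le_pow_left hq 2) 1)
        _ = Nat.gcd 2 (Fintype.card K - 1) *
              Nat.card (Matrix.ProjectiveSpecialLinearGroup (Fin 2) K) := Two.card_PSL_two.symm
        _ ≤ 2 * Nat.card G := Nat.mul_le_mul (Nat.le_of_dvd two_pos (Nat.gcd_dvd_left _ _)) hpsl
    have hHcard : 2 * Nat.card G ≤ Nat.card H := by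
      rw [← Subgroup.card_mul_index φ.ker, Subgroup.index_ker]
      refine Nat.mul_le_mul_right _ ?_
      haveI : Nontrivial φ.ker := ⟨⟨1, one_mem _⟩, ⟨⟨Z, hZH⟩, (hφ _).2 (Or.inr (by
        refine (Pi.basisFun L (Fin 3)).ext fun j => funext fun i => ?_
        show extHom f Z (Pi.basisFun L (Fin 3) j) i = -(Pi.basisFun L (Fin 3) j) i
        rw [Pi.basisFun_apply, extHom_ee, hZx, Pi.neg_apply, map_neg]
        simp [Pi.single_apply, apply_ite f]))⟩, fun e => h2 (by
          have := congrArg (fun g : φ.ker => (((g : H) : OQ Q) • (ee 0 : Fin 3 → F)) 0) e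
          simp [hZx] at this
          linear_combination this)⟩
      exact Finite.one_lt_card
    have hO : Nat.card (OQ Q) = 2 * p ^ 1 * (p ^ 2 - 1) := by
      have := OrthFieldExt.card_OQ_odd h2 hQnd (k := 1) (by rw [Module.finrank_pi, Fintype.card_fin])
      simpa [hF] using this
    have hidx : H.index = 1 ∨ H.index = 2 := by
      have e := H.card_mul_index
      rw [hO, pow_one] at e
      have hpos : 0 < p * (p ^ 2 - 1) := Nat.mul_pos hpr.pos (by
        have := Nat.pow_le_pow_left hp5 2; omega)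
      have hHi : (p * (p ^ 2 - 1)) * H.index ≤ 2 * (p * (p ^ 2 - 1)) := by
        calc (p * (p ^ 2 - 1)) * H.index ≤ Nat.card H * H.index :=
              Nat.mul_le_mul_right _ (hG.trans hHcard)
          _ = _ := by rw [e]; ring
      have hle : H.index ≤ 2 := Nat.le_of_mul_le_mul_left (by linarith) hpos
      have : H.index ≠ 0 := Subgroup.index_ne_zero_of_finite
      omega
    intro x hx
    obtain ⟨g, hgH, hg⟩ := exists_mem_map_of_index hQnd (reflGroup_wQ3 h2 hσ) hidx (x := x)
      (y := ee 0) (by rw [hx]; exact one_ne_zero) (by rw [hx, hq0])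
      fun c _ => perp_universal h2 hσ (by simp) (by simp) c
    exact (hgH x).2 (hg ▸ h0)

omit [Fintype F] in
theorem WV.add_contra {p : ℕ} [Fact p.Prime] [CharP F p] (hp5 : 5 ≤ p) {a b : F} (ha : WV a) (hb : WV b) :
    ¬ WV (a + b) := by
  have n : ∀ m : ℕ, 0 < m → m < p → (m : F) ≠ 0 := fun m h0 hm h => by
    rw [CharP.cast_eq_zero_iff F p] at h
    exact absurd (Nat.le_of_dvd h0 h) (by omega)
  have n2 : (2 : F) ≠ 0 := by exact_mod_cast n 2 two_pos (by omega)
  have n3 : (3 : F) ≠ 0 := by exact_mod_cast n 3 (by omega) (by omega)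
  have n4 : (4 : F) ≠ 0 := by exact_mod_cast n 4 (by omega) (by omega)
  have mixed : ∀ x y : F, 4 * x = 1 → 16 * y ^ 2 - 12 * y + 1 = 0 → ¬ WV (x + y) := by
    rintro x y hx hy (h | h)
    · have : 4 * y = 0 := by linear_combination h - hx
      rw [(mul_eq_zero.1 this).resolve_left n4] at hy
      exact one_ne_zero (show (1 : F) = 0 by linear_combination hy)
    · have : 4 * y = 1 := by
        refine mul_left_cancel₀ n2 ?_
        linear_combination h - hy - (8 * y + 4 * x - 2) * hx
      exact one_ne_zero (show (1 : F) = 0 by linear_combination -hy + (4 * y - 2) * this)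
  intro hab
  rcases ha with ha | ha <;> rcases hb with hb | hb
  · rcases hab with h | h
    · exact one_ne_zero (show (1 : F) = 0 by linear_combination h - ha - hb)
    · exact one_ne_zero (show (1 : F) = 0 by linear_combination -h + (4 * a + 4 * b - 1) * ha + (4 * a + 4 * b - 1) * hb)
  · exact mixed a b ha hb hab
  · exact mixed b a hb ha (by rwa [add_comm b a])
  · rcases mul_eq_zero.1 (show (a - b) * (4 * (a + b) - 3) = 0 from mul_left_cancel₀ n4 (by
      linear_combination ha - hb)) with e | e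
    · have eb : a = b := sub_eq_zero.1 e
      subst eb
      rcases hab with h | h
      · exact one_ne_zero (show (1 : F) = 0 by linear_combination -4 * ha + (8 * a - 5) * h)
      · exact one_ne_zero (show (1 : F) = 0 by
          have h8 : 8 * a = 1 := mul_left_cancel₀ n3 (by linear_combination h - 4 * ha)
          linear_combination -4 * ha + (8 * a - 5) * h8)
    · rcases hab with h | h
      · exact n2 (by linear_combination h - e)
      · exact one_ne_zero (show (1 : F) = 0 by linear_combination h - (4 * (a + b)) * e)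

variable {ι : Type*} [Fintype ι] [DecidableEq ι] {K : Subgroup (OQ (fQ F ι))}

theorem no_sqrt_six : ∀ x : ZMod 11, 2 * x ^ 2 ≠ 1 := by decide

/-- Short values are never opposite. -/
theorem opp_vals {p : ℕ} [Fact p.Prime] [CharP F p] (hp7 : 7 ≤ p) (hF : Fintype.card F = p) {s t : F}
    (hx : SV (s * s) ∨ WV (s * s)) (hy : SV (t * t) ∨ WV (t * t)) : s * s + t * t ≠ 0 := by
  have hcast : ∀ m : ℕ, 0 < m → m < p → (m : F) ≠ 0 := fun m h0 hm h => by
    rw [CharP.cast_eq_zero_iff F p] at h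
    exact absurd (Nat.le_of_dvd h0 h) (by omega)
  have n2 : (2 : F) ≠ 0 := by exact_mod_cast hcast 2 two_pos (by omega)
  have n3 : (3 : F) ≠ 0 := by exact_mod_cast hcast 3 (by omega) (by omega)
  have n5 : (5 : F) ≠ 0 := by exact_mod_cast hcast 5 (by omega) (by omega)
  have half : ∀ r z : F, 2 * (r * r) = 1 → 16 * z ^ 2 - 12 * z + 1 = 0 → r * r + z ≠ 0 := by
    intro r z hr hz h
    have h11 : (11 : F) = 0 := by
      linear_combination hz - (8 * (r * r) + 10) * hr - (16 * (z - r * r) - 12) * h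
    have hp11 : p = 11 := by
      have := (CharP.cast_eq_zero_iff F p 11).1 (by exact_mod_cast h11)
      exact (Nat.prime_dvd_prime_iff_eq Fact.out (by norm_num)).1 this
    subst hp11
    let φ : ZMod 11 ≃+* F := ZMod.ringEquiv F hF
    refine no_sqrt_six (φ.symm r) (φ.injective ?_)
    rw [map_mul, map_pow, map_ofNat, RingEquiv.apply_symm_apply, map_one, pow_two, hr]
  have quar : ∀ y z : F, 4 * y = 1 → 16 * z ^ 2 - 12 * z + 1 = 0 → y + z ≠ 0 := fun y z hy hz h => n5 (by
    linear_combination hz - (4 * y + 4) * hy - (16 * (z - y) - 12) * h)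
  intro h
  have sx : 4 * (s * s) = 1 ∨ 2 * (s * s) = 1 ∨ 16 * (s * s) ^ 2 - 12 * (s * s) + 1 = 0 := by
    rcases hx with (e | e) | (e | e)
    exacts [Or.inl e, Or.inr (Or.inl e), Or.inl e, Or.inr (Or.inr e)]
  have sy : 4 * (t * t) = 1 ∨ 2 * (t * t) = 1 ∨ 16 * (t * t) ^ 2 - 12 * (t * t) + 1 = 0 := by
    rcases hy with (e | e) | (e | e)
    exacts [Or.inl e, Or.inr (Or.inl e), Or.inl e, Or.inr (Or.inr e)]
  rcases sx with e1 | e1 | e1 <;> rcases sy with e2 | e2 | e2
  · exact n2 (by linear_combination 4 * h - e1 - e2)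
  · exact n3 (by linear_combination 4 * h - e1 - 2 * e2)
  · exact quar _ _ e1 e2 h
  · exact n3 (by linear_combination 4 * h - 2 * e1 - e2)
  · exact n2 (by linear_combination 2 * h - e1 - e2)
  · exact half s _ e1 e2 h
  · exact quar _ _ e2 e1 (by linear_combination h)
  · exact half t _ e2 e1 (by linear_combination h)
  · have h24 : 24 * (t * t) = 0 := by
      linear_combination e1 - e2 - (16 * (s * s - t * t) - 12) * h
    have : t * t = 0 := (mul_eq_zero.1 h24).resolve_left (by
      rw [show (24 : F) = 2 * 2 * 2 * 3 by norm_num]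
      exact mul_ne_zero (mul_ne_zero (mul_ne_zero n2 n2) n2) n3)
    rw [this] at e2
    exact one_ne_zero (show (1 : F) = 0 by linear_combination e2)

omit [Fintype F] in
theorem quarter_of_SV {X Y : F} (n2 : (2 : F) ≠ 0) (n3 : (3 : F) ≠ 0) (hX : SV X) (hY : SV Y) (h : SV (X + Y)) :
    4 * X = 1 ∧ 4 * Y = 1 := by
  rcases hX with e1 | e1 <;> rcases hY with e2 | e2 <;> rcases h with e3 | e3
  · exact ⟨e1, e2⟩
  · exact ⟨e1, e2⟩
  · exact absurd (show (2 : F) = 0 by linear_combination e3 - e1 - 2 * e2) n2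
  · exact absurd (show (1 : F) = 0 by linear_combination 2 * e3 - e1 - 2 * e2) one_ne_zero
  · exact absurd (show (2 : F) = 0 by linear_combination e3 - e2 - 2 * e1) n2
  · exact absurd (show (1 : F) = 0 by linear_combination 2 * e3 - e2 - 2 * e1) one_ne_zero
  · exact absurd (show (3 : F) = 0 by linear_combination e3 - 2 * e1 - 2 * e2) n3
  · exact absurd (show (1 : F) = 0 by linear_combination e3 - e1 - e2) one_ne_zero

/-- The dichotomy for an ordered triple inside a support of size four. -/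
theorem four_tri {p : ℕ} [Fact p.Prime] [CharP F p] (hK : IsFrame K) (hp7 : 7 ≤ p) (hF : Fintype.card F = p)
    (h3 : ∀ u : ι → F, Root K u → ∀ T : Finset ι, T.card ≤ 3 → (∀ i, i ∉ T → u i = 0) → Shape u)
    {u : ι → F} (hu : Root K u) {T : Finset ι} (hz : ∀ i, i ∉ T → u i = 0) (hnz : ∀ i ∈ T, u i ≠ 0)
    (w x y z : ι) (hTw : T = {w, x, y, z}) (hwx : w ≠ x) (hwy : w ≠ y) (hwz : w ≠ z) (hxy : x ≠ y) (hxz : x ≠ z)
    (hyz : y ≠ z) (hσ : u y * u y + u z * u z ≠ 0) :
    (SV (u w * u w) ∧ SV (u x * u x) ∧ SV (u y * u y + u z * u z)) ∨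
      (WV (u w * u w) ∧ WV (u x * u x) ∧ WV (u y * u y + u z * u z)) := by
  classical
  have hcast : ∀ m : ℕ, 0 < m → m < p → (m : F) ≠ 0 := fun m h0 hm h => by
    rw [CharP.cast_eq_zero_iff F p] at h
    exact absurd (Nat.le_of_dvd h0 h) (by omega)
  have n2 : (2 : F) ≠ 0 := by exact_mod_cast hcast 2 two_pos (by omega)
  have n3 : (3 : F) ≠ 0 := by exact_mod_cast hcast 3 (by omega) (by omega)
  have n5 : (5 : F) ≠ 0 := by exact_mod_cast hcast 5 (by omega) (by omega)
  have : Nonempty ι := ⟨w⟩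
  set f : ι → F := u y • ee y + u z • ee z with hf
  have hfw : f w = 0 := by simp [hf, hwy, hwz]
  have hfx : f x = 0 := by simp [hf, hxy, hxz]
  have hfy : f y = u y := by simp [hf, hyz]
  have hfz : f z = u z := by simp [hf, hyz.symm]
  have hff : f ⬝ᵥ f = u y * u y + u z * u z := by
    simp [hf, dotProduct_add, add_dotProduct, hyz, hyz.symm]
  have hQ : ∀ v, emb w x f v ⬝ᵥ emb w x f v = wQ (w3 (f ⬝ᵥ f)) v := fun v => by
    rw [dot_emb hwx hfw hfx, wQ3_apply]
  have e : u = emb w x f ![u w, u x, 1] := by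
    funext i
    by_cases i1 : i = w
    · subst i1; simp [emb, hwx, hfw]
    by_cases i2 : i = x
    · subst i2; simp [emb, hwx.symm, hfx]
    rw [emb_apply_of_ne i1 i2]
    by_cases i3 : i = y
    · subst i3; simp [hfy]
    by_cases i4 : i = z
    · subst i4; simp [hfz]
    simp [hf, i3, i4, hz i (by simp [hTw, i1, i2, i3, i4])]
  have hnw : u w ≠ 0 := hnz w (by simp [hTw])
  have hnx : u x ≠ 0 := hnz x (by simp [hTw])
  rcases big_or_vals (by omega) hF (hff ▸ hσ) (fun v => Root K (emb w x f v))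
    (fun v hv => by convert root_neg hK n2 hv using 1; simp [emb]; module)
    (fun v hv hv0 y' hy' => by
      have hv1 : wQ (w3 (f ⬝ᵥ f)) v = 1 := (hQ v).symm.trans hv.1
      convert root_refl hK n2 hv hy' using 1
      rw [reflU_smul hv.1, dot_emb hwx hfw hfx, smul_def, refl_apply, hv1, polar_wQ3, inv_one, one_mul]
      simp [emb]
      module)
    (by convert root_ee hK w using 1; simp [emb]) (by convert root_ee hK x using 1; simp [emb])
    (u := ![u w, u x, 1]) (e ▸ hu) ((hQ _).symm.trans (e ▸ hu.1)) (by simpa using hnw) (by simpa using hnx)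
    (by simp) with h | h | h
  rotate_left
  · left
    simpa [hff] using h
  · right
    simpa [hff] using h
  -- otherwise a root of support three
  exfalso
  set σ := f ⬝ᵥ f with hσdef
  have hσ0 : σ ≠ 0 := hff ▸ hσ
  obtain ⟨t, ht, ht1, ht2⟩ : ∃ t : F, t ≠ 0 ∧ σ * t ^ 2 ≠ 1 ∧ σ * t ^ 2 ≠ -1 := by
    by_contra! hc
    have k1 := hc 1 one_ne_zero
    have k2 := hc 2 n2
    rcases eq_or_ne (σ * 1 ^ 2) 1 with e1 | e1
    · rcases eq_or_ne (σ * 2 ^ 2) 1 with e2 | e2
      · exact n3 (by linear_combination e2 - 4 * e1)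
      · exact n5 (by linear_combination k2 e2 - 4 * e1)
    · rcases eq_or_ne (σ * 2 ^ 2) 1 with e2 | e2
      · exact n5 (by linear_combination 4 * k1 e1 - e2)
      · exact n3 (by linear_combination 4 * k1 e1 - k2 e2)
  have hs1 : 1 + σ * t ^ 2 ≠ 0 := fun hh => ht2 (by linear_combination hh)
  have hx0 : (1 - σ * t ^ 2) / (1 + σ * t ^ 2) ≠ 0 :=
    div_ne_zero (fun hh => ht1 (by linear_combination -hh)) hs1
  have hroot := h ![(1 - σ * t ^ 2) / (1 + σ * t ^ 2), 0, 2 * t / (1 + σ * t ^ 2)]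
    (by rw [wQ3_apply]; simp; field_simp; ring)
  refine not_shape_three hwy hwz hyz ?_ ?_ ?_ (h3 _ hroot {w, y, z}
    Finset.card_le_three fun i hi => ?_)
  · rw [emb_apply_a hwx hfw]; simpa using hx0
  · rw [emb_apply_of_ne hwy.symm hxy.symm, hfy]
    simp [hnz y (by simp [hTw]), hs1, n2, ht]
  · rw [emb_apply_of_ne hwz.symm hxz.symm, hfz]
    simp [hnz z (by simp [hTw]), hs1, n2, ht]
  · simp at hi
    by_cases i2 : i = x
    · subst i2; rw [emb_apply_b hwx hfx]; simp
    · rw [emb_apply_of_ne hi.1 i2]; simp [hf, hi.2.1, hi.2.2]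

theorem four_perm (a b c d : ι) : ({a, b, c, d} : Finset ι) = {a, c, b, d} ∧ ({a, b, c, d} : Finset ι) = {a, d, b, c} ∧
    ({a, b, c, d} : Finset ι) = {b, a, c, d} ∧ ({a, b, c, d} : Finset ι) = {c, a, b, d} ∧
    ({a, b, c, d} : Finset ι) = {d, a, b, c} := by
  refine ⟨?_, ?_, ?_, ?_, ?_⟩ <;> ext l <;> simp only [Finset.mem_insert, Finset.mem_singleton] <;> tauto

theorem fourCases {p : ℕ} [Fact p.Prime] [CharP F p] (hK : IsFrame K) (hp5 : 5 ≤ p) (hF : Fintype.card F = p) :
    FourCases K := by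
  classical
  intro h3 u hu T hT hz hnz a ha
  have hcast : ∀ m : ℕ, 0 < m → m < p → (m : F) ≠ 0 := fun m h0 hm h => by
    rw [CharP.cast_eq_zero_iff F p] at h
    exact absurd (Nat.le_of_dvd h0 h) (by omega)
  have n2 : (2 : F) ≠ 0 := by exact_mod_cast hcast 2 two_pos (by omega)
  have n3 : (3 : F) ≠ 0 := by exact_mod_cast hcast 3 (by omega) (by omega)
  obtain ⟨b, c, d, hbc, hbd, hcd, he⟩ := Finset.card_eq_three.1
    (show (T.erase a).card = 3 by rw [Finset.card_erase_of_mem ha]; omega)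
  have hmem : ∀ i, (i ∈ T ∧ i ≠ a) ↔ (i = b ∨ i = c ∨ i = d) := fun i => by
    rw [and_comm, ← Finset.mem_erase, he]; simp
  obtain ⟨hb, hba⟩ := (hmem b).2 (Or.inl rfl)
  obtain ⟨hc, hca⟩ := (hmem c).2 (Or.inr (Or.inl rfl))
  obtain ⟨hd, hda⟩ := (hmem d).2 (Or.inr (Or.inr rfl))
  have hTe : T = {a, b, c, d} := by
    rw [← Finset.insert_erase ha, he]
  have hsum : u a * u a + u b * u b + u c * u c + u d * u d = 1 := by
    rw [← hu.1, dotProduct, ← Finset.sum_subset (Finset.subset_univ T) (fun i _ hi => by rw [hz i hi, mul_zero]), hTe,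
      Finset.sum_insert (by simp [hba.symm, hca.symm, hda.symm]), Finset.sum_insert (by simp [hbc, hbd]),
      Finset.sum_pair hcd]
    ring
  rcases Nat.lt_or_ge p 7 with hp | hp7
  · -- over five elements all four squares are `4`
    have hp' : p = 5 := by
      have h1 := (Fact.out : p.Prime)
      interval_cases p <;> first | rfl | norm_num at h1
    have h5 : (5 : F) = 0 := by
      have := CharP.cast_eq_zero F p
      rw [hp'] at this; exact_mod_cast this
    have hsq : ∀ i ∈ T, u i * u i = 1 ∨ u i * u i = -1 := fun i hi => by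
      have h1 := FiniteField.pow_card_sub_one_eq_one (u i) (hnz i hi)
      rw [hF, hp'] at h1
      refine mul_self_eq_one_iff.1 ?_
      rw [← h1]; ring
    rw [pow_two]
    rcases hsq a ha with e1 | e1
    · exfalso
      rcases hsq b hb with e2 | e2 <;> rcases hsq c hc with e3 | e3 <;> rcases hsq d hd with e4 | e4 <;>
        rw [e1, e2, e3, e4] at hsum <;>
        first
          | exact n2 (by linear_combination h5 - hsum)
          | exact n2 (by linear_combination hsum - h5)
          | exact n2 (by linear_combination hsum)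
          | exact n2 (by linear_combination -hsum)
          | exact n3 (by linear_combination hsum)
          | exact n3 (by linear_combination -hsum)
          | exact one_ne_zero (show (1 : F) = 0 by linear_combination hsum)
          | exact one_ne_zero (show (1 : F) = 0 by linear_combination -hsum)
    · rw [e1]; linear_combination -h5
  have n5 : (5 : F) ≠ 0 := by exact_mod_cast hcast 5 (by omega) (by omega)
  have tri := four_tri hK hp7 hF h3 hu hz hnz
  set A := u a * u a with hA
  set B := u b * u b with hB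
  set C := u c * u c with hC
  set D := u d * u d with hD
  obtain ⟨pc, pd, pb', pc', pd'⟩ := four_perm a b c d
  have tb := fun h => tri a b c d hTe hba.symm hca.symm hda.symm hbc hbd hcd h
  have tc := fun h => tri a c b d (hTe.trans pc) hca.symm hba.symm hda.symm hbc.symm hcd hbd h
  have td := fun h => tri a d b c (hTe.trans pd) hda.symm hba.symm hca.symm hbd.symm hcd.symm hbc h
  have nonneg : ∀ i j, (WV (u i * u i) ∨ SV (u i * u i)) → (WV (u j * u j) ∨ SV (u j * u j)) →
      u i * u i + u j * u j ≠ 0 := fun i j hi hj => opp_vals hp7 hF hi.symm hj.symm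
  have cls : ∀ {X Y Z : F}, (SV A ∧ SV X ∧ SV Y) ∨ (WV A ∧ WV X ∧ WV Z) → WV A ∨ SV A := fun h =>
    h.elim (fun h => Or.inr h.1) fun h => Or.inl h.1
  have hcl : (WV A ∨ SV A) := by
    by_cases k1 : C + D ≠ 0
    · exact cls (tb k1)
    by_cases k2 : B + D ≠ 0
    · exact cls (tc k2)
    by_cases k3 : B + C ≠ 0
    · exact cls (td k3)
    push Not at k1 k2 k3
    exact absurd (mul_left_cancel₀ n2 (show (2 : F) * B = 2 * 0 by linear_combination k3 + k2 - k1))
      (mul_ne_zero (hnz b hb) (hnz b hb))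
  have other : ∀ i ∈ T, WV (u i * u i) ∨ SV (u i * u i) := by
    intro i hi
    by_cases hia : i = a
    · subst hia; exact hcl
    obtain ⟨j, k, hjk, hji, hki, hja, hka, he'⟩ : ∃ j k, j ≠ k ∧ j ≠ i ∧ k ≠ i ∧ j ≠ a ∧ k ≠ a ∧
        T = {i, a, j, k} := by
      rcases (hmem i).1 ⟨hi, hia⟩ with rfl | rfl | rfl
      · exact ⟨c, d, hcd, hbc.symm, hbd.symm, hca, hda, hTe.trans pb'⟩
      · exact ⟨b, d, hbd, hbc, hcd.symm, hba, hda, hTe.trans pc'⟩
      · exact ⟨b, c, hbc, hbd, hcd, hba, hca, hTe.trans pd'⟩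
    by_cases k1 : u j * u j + u k * u k ≠ 0
    · rcases tri i a j k he' hia hji.symm hki.symm hja.symm hka.symm hjk k1 with h | h
      · exact Or.inr h.1
      · exact Or.inl h.1
    push Not at k1
    have e1 : T = {i, j, a, k} := he'.trans (four_perm i a j k).1
    have e2 : T = {i, k, a, j} := he'.trans (four_perm i a j k).2.1
    by_cases k2 : u a * u a + u k * u k ≠ 0
    · rcases tri i j a k e1 hji.symm hia hki.symm hja hjk hka.symm k2 with h | h
      · exact Or.inr h.1
      · exact Or.inl h.1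
    by_cases k3 : u a * u a + u j * u j ≠ 0
    · rcases tri i k a j e2 hki.symm hia hji.symm hka hjk.symm hja.symm k3 with h | h
      · exact Or.inr h.1
      · exact Or.inl h.1
    push Not at k2 k3
    exact absurd (mul_left_cancel₀ n2 (show (2 : F) * (u a * u a) = 2 * 0 by linear_combination k3 + k2 - k1))
      (mul_ne_zero (hnz a ha) (hnz a ha))
  have nCD := nonneg c d (other c hc) (other d hd)
  have nBD := nonneg b d (other b hb) (other d hd)
  have nBC := nonneg b c (other b hb) (other c hc)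
  rw [pow_two, ← hA]
  by_contra hne
  rcases tb nCD with ⟨sA, sB, sCD⟩ | ⟨wA, wB, -⟩
  swap
  · -- icosahedral
    have hA' : ¬ SV A := by
      rintro (h | h)
      · exact hne h
      · rcases wA with e | e
        · exact hne e
        · exact one_ne_zero (show (1 : F) = 0 by linear_combination -e + (8 * A - 2) * h)
    rcases tc nBD with ⟨h, -⟩ | ⟨-, wC, -⟩
    · exact hA' h
    rcases td nBC with ⟨h, -⟩ | ⟨-, -, wBC⟩
    · exact hA' h
    exact wB.add_contra hp5 wC wBC
  · -- octahedral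
    have hA2 : 2 * A = 1 := sA.resolve_left hne
    have hA' : ¬ WV A := by
      rintro (h | h)
      · exact hne h
      · exact one_ne_zero (show (1 : F) = 0 by linear_combination -h + (8 * A - 2) * hA2)
    rcases tc nBD with ⟨-, sC, -⟩ | ⟨h, -⟩
    swap
    · exact hA' h
    rcases td nBC with ⟨-, sD, sBC⟩ | ⟨h, -⟩
    swap
    · exact hA' h
    obtain ⟨eB, eC⟩ := quarter_of_SV n2 n3 sB sC sBC
    obtain ⟨-, eD⟩ := quarter_of_SV n2 n3 sC sD sCD
    exact one_ne_zero (show (1 : F) = 0 by linear_combination 4 * hsum - 2 * hA2 - eB - eC - eD)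

/-- If every unit vector is a root then `K` contains all Eichler transformations: odd dimension at least five. -/
theorem le_of_all_root_five (hK : IsFrame K) (h2 : (2 : F) ≠ 0) (hn : 5 ≤ Fintype.card ι)
    (hodd : Odd (Fintype.card ι)) (hall : ∀ u : ι → F, u ⬝ᵥ u = 1 → Root K u) :
    eichGroup (fQ_nondegenerate (F := F) (ι := ι) h2) ≤ K := by
  classical
  obtain ⟨o⟩ : Nonempty ι := Fintype.card_pos_iff.1 (by omega)
  set N : OQ (fQ F ι) := flipO (1 : ι → F) Finset.univ with hNdef
  have hNc : ∀ x : OQ (fQ F ι), Commute x N := commute_univ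
  let G : Subgroup (OQ (fQ F ι)) :=
    { carrier := {x | x ∈ K ∨ x * N ∈ K}
      one_mem' := Or.inl K.one_mem
      mul_mem' := by
        rintro x y (hx | hx) (hy | hy)
        · exact Or.inl (mul_mem hx hy)
        · exact Or.inr (by rw [mul_assoc]; exact mul_mem hx hy)
        · exact Or.inr (by rw [mul_assoc, (hNc y).eq, ← mul_assoc]; exact mul_mem hx hy)
        · refine Or.inl ?_
          have := mul_mem hx hy
          rwa [mul_assoc, ← mul_assoc N y N, ← (hNc y).eq, mul_assoc y N N, hNdef, flipO_sq,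
            mul_one] at this
      inv_mem' := by
        rintro x (hx | hx)
        · exact Or.inl (inv_mem hx)
        · refine Or.inr ?_
          have := inv_mem hx
          rwa [_root_.mul_inv_rev, hNdef, flipO_inv, ← hNdef, ← (hNc x⁻¹).eq] at this }
  have hcl : classReflGroup (fQ F ι) 1 ≤ G := by
    refine (Subgroup.closure_le _).2 ?_
    rintro _ ⟨v, hv, hsq, rfl⟩
    obtain ⟨v', hv', hv1, e⟩ := exists_normalised hv one_ne_zero hsq
    rw [e]
    have hv1' : v' ⬝ᵥ v' = 1 := by rw [← fQ_apply]; exact hv1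
    rw [← reflU_eq hv1']
    refine Or.inr ?_
    have h1 := mul_mem ((hall v' hv1').2 o) (hK.flip_mem (T := Finset.univ.erase o) (by
      rw [Finset.card_erase_of_mem (Finset.mem_univ o), Finset.card_univ]
      obtain ⟨m, hm⟩ := hodd
      exact ⟨m, by omega⟩))
    rwa [mul_assoc, flipO_mul, show symmDiff ({o} : Finset ι) (Finset.univ.erase o) = Finset.univ from by
      ext l; by_cases hl : l = o <;> simp [Finset.mem_symmDiff, hl]] at h1
  have hfr : Module.finrank F (ι → F) = Fintype.card ι := Module.finrank_pi F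
  have hQn := fQ_nondegenerate (F := F) (ι := ι) h2
  have hidx := index_classReflGroup h2 (by omega) hQn (reflGroup_eq_top hQn (Or.inr (by omega)))
    (Or.inl (by omega)) (one_ne_zero (α := F))
  have hsq : ∀ g, g * g ∈ classReflGroup (fQ F ι) 1 := Subgroup.mul_self_mem_of_index_two hidx
  have hsqK : ∀ x ∈ G, x * x ∈ K := by
    rintro x (hx | hx)
    · exact mul_mem hx hx
    · have := mul_mem hx hx
      rwa [mul_assoc, ← mul_assoc N x N, ← (hNc x).eq, mul_assoc x N N, hNdef, flipO_sq, mul_one] at this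
  refine (Subgroup.closure_le _).2 ?_
  rintro _ ⟨w, b, hw, hb, -, rfl⟩
  set e := eich hQn hw hb with he
  have hpow : ∀ k : ℕ, e ^ k = eich hQn hw (a := (k : F) • b)
      (by rw [polar_smul_right', hb, mul_zero]) := by
    intro k
    induction k with
    | zero => rw [pow_zero, eich_congr hQn rfl (show ((0 : ℕ) : F) • b = 0 by simp), eich_zero_right]
    | succ k ih => rw [pow_succ, ih, he, eich_mul]; exact eich_congr hQn rfl (by push_cast; module)
  obtain ⟨q, hq⟩ := CharP.exists F
  obtain ⟨nn, hqp, -⟩ := FiniteField.card F q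
  have hq2 : q ≠ 2 := by
    rintro rfl
    exact h2 (by exact_mod_cast CharP.cast_eq_zero F 2)
  obtain ⟨j, hj⟩ := (hqp.eq_two_or_odd.resolve_left hq2 |> Nat.odd_iff.2)
  have hone : e ^ q = 1 := by
    rw [hpow, eich_congr hQn rfl (show ((q : ℕ) : F) • b = 0 by simp), eich_zero_right]
  -- `e` is a square of a square
  set e' := e ^ (j + 1) with he'
  have h1 : e' * e' = e := by
    rw [he', ← pow_add, show j + 1 + (j + 1) = q + 1 by omega, pow_succ, hone, one_mul]
  have h2' : e' ^ (j + 1) * e' ^ (j + 1) = e' := by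
    rw [← pow_add, show j + 1 + (j + 1) = q + 1 by omega, pow_succ, he', ← pow_mul, mul_comm, pow_mul, hone, one_pow,
      one_mul]
  show e ∈ K
  rw [← h1]
  exact hsqK _ (hcl (h2' ▸ hsq _))

/-- Everything is monomial, unless `K` contains `Ω`, in dimension five. -/
theorem mon_five (hK : IsFrame K) (hp : (Fintype.card F).Prime) (h2 : (2 : F) ≠ 0) (hn : Fintype.card ι = 5)
    (hne : ¬ eichGroup (fQ_nondegenerate (F := F) (ι := ι) h2) ≤ K) : ∀ g ∈ K, IsMon g := by
  obtain ⟨p, hpc⟩ : ∃ p, Fintype.card F = p := ⟨_, rfl⟩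
  haveI : Fact p.Prime := ⟨hpc ▸ hp⟩
  haveI : CharP F p := by
    obtain ⟨q, hq⟩ := CharP.exists F
    obtain ⟨m, hq', hm⟩ := FiniteField.card F q
    have : q = p := by
      have h1 : q ∣ p := hpc ▸ hm ▸ dvd_pow_self q m.ne_zero
      exact (Nat.prime_dvd_prime_iff_eq hq' Fact.out).1 h1
    exact this ▸ hq
  refine mon_of_upTo hK h2 (by omega) (fun he => by rw [hn] at he; exact absurd he (by decide))
    (mon_of_good hK h2 (by omega) (good_of_not_all hK hpc h2 (by omega) (fun hp5 => fourCases hK hp5 hpc)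
      fun h => hne (le_of_all_root_five hK h2 (by omega) (hn ▸ by decide) h)))

end CfsgLib.Geo.Frame
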