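import Cfsg.Agent.Lib.Geo.Frame.Small
import Cfsg.Agent.Lib.Geo.Frame.Even
import Cfsg.Agent.Lib.Geo.OrthBlockMax
import Mathlib.GroupTheory.SpecificGroups.Alternating.Centralizer

/-!
Stabilisers of orthonormal frames are maximal in `Ω` over prime fields.
-/

set_option autoImplicit false
set_option maxHeartbeats 800000

namespace CfsgLib.Geo.Frame

open CfsgLib.Classical CfsgLib.Classical.Quad
open QuadraticMap (polar polarBilin)
open scoped commutatorElement

section Induction

universe u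

variable {F : Type u} [Field F] [Fintype F] {ι : Type*} [Fintype ι] [DecidableEq ι]
  {K : Subgroup (OQ (fQ F ι))}

omit [Fintype F] in
/-- Elements fixing everything outside `S` are monomial, for `S` up to the given size. -/
def MonUpTo (K : Subgroup (OQ (fQ F ι))) (k : ℕ) : Prop :=
  ∀ g ∈ K, ∀ S : Finset ι, S.card ≤ k → (∀ j ∉ S, g • (ee j : ι → F) = ee j) → IsMon g

omit [Fintype F] in
theorem commute_flip_single (h2 : (2 : F) ≠ 0) {g : OQ (fQ F ι)} {o : ι}
    (ho : g • (ee o : ι → F) = ee o) : Commute g (flipO (1 : ι → F) {o}) := by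
  have e : g * flipO (1 : ι → F) {o} * g⁻¹ = flipO (1 : ι → F) {o} := eq_of_smul fun y => by
    rw [conj_flip_single h2, ho, dot_ee]
    funext l
    rw [flipO_apply]
    rcases eq_or_ne l o with rfl | hl
    · simp; ring
    · simp [hl]
  exact mul_inv_eq_iff_eq_mul.1 e

omit [Fintype F] in
/-- Replacing an element fixing an axis up to sign by one fixing it. -/
theorem exists_fix_axis (hK : IsFrame K) {g : OQ (fQ F ι)} {i j : ι} (hij : j ≠ i)
    (hg : g ∈ K) (h : g • (ee i : ι → F) = ee i ∨ g • (ee i : ι → F) = -ee i) :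
    ∃ T : Finset ι, T ⊆ {i, j} ∧ g * flipO (1 : ι → F) T ∈ K ∧
      (g * flipO (1 : ι → F) T) • (ee i : ι → F) = ee i := by
  rcases h with e | e
  · exact ⟨∅, Finset.empty_subset _, by rwa [flipO_empty, mul_one],
      by rw [flipO_empty, mul_one]; exact e⟩
  · exact ⟨{i, j}, subset_rfl, mul_mem hg (hK.flip_mem (by rw [Finset.card_pair hij.symm]; decide)),
      by rw [mul_smul, flipO_ee_mem (by simp), gsmul_neg, e, neg_neg]⟩

theorem monUpTo_succ (hK : IsFrame K) (h2 : (2 : F) ≠ 0) {k : ℕ} (hk : 4 ≤ k)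
    (hkn : k + 1 < Fintype.card ι) (ih : MonUpTo K k) : MonUpTo K (k + 1) := by
  classical
  intro g hg S hS hfix
  by_cases hSk : S.card ≤ k
  · exact ih g hg S hSk hfix
  obtain ⟨o, -, ho⟩ := Finset.exists_mem_notMem_of_card_lt_card (s := S)
    (t := (Finset.univ : Finset ι)) (by rw [Finset.card_univ]; omega)
  set r : OQ (fQ F ι) := flipO (1 : ι → F) {o} with hr
  let G : Subgroup (OQ (fQ F ι)) :=
    { carrier := {x | (∀ j ∉ S, x • (ee j : ι → F) = ee j) ∧ (x ∈ K ∨ x * r ∈ K)}
      one_mem' := ⟨fun j _ => one_smul _ _, Or.inl K.one_mem⟩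
      mul_mem' := by
        rintro x y ⟨hx, hx'⟩ ⟨hy, hy'⟩
        refine ⟨fun j hj => by rw [mul_smul, hy j hj, hx j hj], ?_⟩
        have hc : Commute y r := commute_flip_single h2 (hy o ho)
        rcases hx' with hx' | hx' <;> rcases hy' with hy' | hy'
        · exact Or.inl (mul_mem hx' hy')
        · exact Or.inr (by rw [mul_assoc]; exact mul_mem hx' hy')
        · refine Or.inr ?_
          rw [mul_assoc, hc.eq, ← mul_assoc]
          exact mul_mem hx' hy'
        · refine Or.inl ?_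
          have := mul_mem hx' hy'
          rwa [mul_assoc, ← mul_assoc r y r, ← hc.eq, mul_assoc y r r, hr, flipO_sq, mul_one] at this
      inv_mem' := by
        rintro x ⟨hx, hx'⟩
        have hc : Commute x r := commute_flip_single h2 (hx o ho)
        refine ⟨fun j hj => by rw [inv_smul_eq_iff, hx j hj], ?_⟩
        rcases hx' with hx' | hx'
        · exact Or.inl (inv_mem hx')
        · refine Or.inr ?_
          have := inv_mem hx'
          rwa [_root_.mul_inv_rev, hr, flipO_inv, ← hr, ← hc.inv_left.eq] at this }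
  refine refl_step h2 G S (by omega) (fun x hx j hj => ?_) (fun i hi => ?_) ?_ ?_ g
    ⟨hfix, Or.inl hg⟩
  · rw [hx.1 j hj]
    exact ⟨⟨j, fun l hl => ee_ne hl⟩, fun l hl => ee_ne fun e => hj (e ▸ hl)⟩
  · exact ⟨fun j hj => flipO_ee_notMem (by simp; rintro rfl; exact hj hi),
      Or.inr (hK.flip_single_mul i o)⟩
  · intro a ha b hb c hc hab hbc hac
    refine ⟨fun j hj => ?_, Or.inl (hK.cyc hab hbc)⟩
    obtain ⟨-, -, -, cfix⟩ := cyc_apply hab hbc hac
    rw [permO_ee, cfix j (fun e => hj (e ▸ ha)) (fun e => hj (e ▸ hb)) (fun e => hj (e ▸ hc))]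
  · rintro x ⟨hx, hx'⟩ i hi hxi
    obtain ⟨j, hj⟩ : (S.erase i).Nonempty := by
      rw [← Finset.card_pos, Finset.card_erase_of_mem hi]; omega
    obtain ⟨hji, hjS⟩ := Finset.mem_erase.1 hj
    -- a variant of `x` in `K`
    obtain ⟨T, hT, hxT, hxTi⟩ : ∃ T : Finset ι, T ⊆ {i, j} ∧ x * flipO (1 : ι → F) T ∈ K ∧
        (x * flipO (1 : ι → F) T) • (ee i : ι → F) = ee i := by
      rcases hx' with hx' | hx'
      · exact exists_fix_axis hK hji hx' hxi
      have hxj : x * flipO (1 : ι → F) {j} ∈ K := by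
        have := mul_mem hx' (hK.flip_single_mul o j)
        rwa [mul_assoc, ← mul_assoc r, hr, flipO_sq, one_mul] at this
      have hxi' : x * flipO (1 : ι → F) {i} ∈ K := by
        have := mul_mem hx' (hK.flip_single_mul o i)
        rwa [mul_assoc, ← mul_assoc r, hr, flipO_sq, one_mul] at this
      rcases hxi with e | e
      · exact ⟨{j}, by simp, hxj, by rw [mul_smul, flipO_ee_notMem (by simp [hji.symm]), e]⟩
      · exact ⟨{i}, by simp, hxi', by rw [mul_smul, flipO_ee_mem (by simp), gsmul_neg, e, neg_neg]⟩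
    refine IsMon.of_mul_right (isMon_flip T)
      (ih _ hxT (S.erase i) (by rw [Finset.card_erase_of_mem hi]; omega) fun l hl => ?_)
    by_cases hli : l = i
    · subst hli; exact hxTi
    have hlS : l ∉ S := fun h => hl (Finset.mem_erase.2 ⟨hli, h⟩)
    rw [mul_smul, flipO_ee_notMem (fun h => by
      have := hT h
      simp at this
      rcases this with rfl | rfl
      exacts [hli rfl, hlS hjS]), hx l hlS]

theorem monUpTo_all (hK : IsFrame K) (h2 : (2 : F) ≠ 0) (h4 : MonUpTo K 4) :
    ∀ k, 4 ≤ k → k < Fintype.card ι → MonUpTo K k := by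
  intro k hk
  induction k, hk using Nat.le_induction with
  | base => exact fun _ => h4
  | succ k hk ih => exact fun hkn => monUpTo_succ hK h2 hk hkn (ih (by omega))

/-- Monomial from the small case. -/
theorem mon_of_upTo (hK : IsFrame K) (h2 : (2 : F) ≠ 0) (hn : 5 ≤ Fintype.card ι)
    (hn' : Even (Fintype.card ι) → 10 ≤ Fintype.card ι) (h4 : MonUpTo K 4) : ∀ g ∈ K, IsMon g := by
  classical
  have hN := monUpTo_all hK h2 h4 (Fintype.card ι - 1) (by omega) (by omega)
  have L : ∀ g ∈ K, ∀ i, (g • (ee i : ι → F) = ee i ∨ g • (ee i : ι → F) = -ee i) → IsMon g := by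
    intro g hg i hi
    obtain ⟨j, -, hji⟩ := Finset.exists_mem_notMem_of_card_lt_card (s := ({i} : Finset ι))
      (t := (Finset.univ : Finset ι)) (by rw [Finset.card_singleton, Finset.card_univ]; omega)
    obtain ⟨T, -, hT, hTi⟩ := exists_fix_axis hK (by simpa using hji) hg hi
    refine IsMon.of_mul_right (isMon_flip T) (hN _ hT (Finset.univ.erase i)
      (by rw [Finset.card_erase_of_mem (Finset.mem_univ i), Finset.card_univ]) fun l hl => ?_)
    simp at hl
    subst hl
    exact hTi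
  rcases Nat.even_or_odd (Fintype.card ι) with heven | hodd
  · refine even_step hK h2 (hn' heven) heven L
  -- odd dimension: adjoin minus one
  set N : OQ (fQ F ι) := flipO (1 : ι → F) Finset.univ with hNdef
  have hNc : ∀ x : OQ (fQ F ι), Commute x N := commute_univ
  let G : Subgroup (OQ (fQ F ι)) :=
    { carrier := {x | x ∈ K ∨ x * N ∈ K}
      one_mem' := Or.inl K.one_mem
      mul_mem' := by
        rintro x y (hx | hx) (hy | hy)
        · exact Or.inl (mul_mem hx hy)
        · exact Or.inr (by rw [mul_assoc]; exact mul_mem hx hy)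
        · exact Or.inr (by rw [mul_assoc, (hNc y).eq, ← mul_assoc]; exact mul_mem hx hy)
        · refine Or.inl ?_
          have := mul_mem hx hy
          rwa [mul_assoc, ← mul_assoc N y N, ← (hNc y).eq, mul_assoc y N N, hNdef, flipO_sq,
            mul_one] at this
      inv_mem' := by
        rintro x (hx | hx)
        · exact Or.inl (inv_mem hx)
        · refine Or.inr ?_
          have := inv_mem hx
          rwa [_root_.mul_inv_rev, hNdef, flipO_inv, ← hNdef, ← (hNc x⁻¹).eq] at this }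
  intro g hg
  refine refl_step h2 G Finset.univ (by rw [Finset.card_univ]; omega)
    (fun x _ j hj => absurd (Finset.mem_univ j) hj) (fun i _ => Or.inr ?_)
    (fun a _ b _ c _ hab hbc _ => Or.inl (hK.cyc hab hbc)) ?_ g (Or.inl hg)
  · rw [hNdef, flipO_mul]
    refine hK.flip_mem ?_
    rw [show symmDiff ({i} : Finset ι) Finset.univ = Finset.univ.erase i from by
      ext l; simp [Finset.mem_symmDiff], Finset.card_erase_of_mem (Finset.mem_univ i),
      Finset.card_univ]
    obtain ⟨m, hm⟩ := hodd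
    exact ⟨m, by omega⟩
  · rintro x (hx | hx) i - hxi
    · exact L x hx i hxi
    · refine IsMon.of_mul_right (isMon_flip Finset.univ) (L _ hx i ?_)
      rw [mul_smul, flipO_univ_smul, gsmul_neg]
      rcases hxi with e | e <;> rw [e]
      · exact Or.inr rfl
      · exact Or.inl (neg_neg _)

/-- Everything is monomial, unless `K` contains `Ω`. -/
theorem mon_of_not_le (hK : IsFrame K) (hp : (Fintype.card F).Prime) (h2 : (2 : F) ≠ 0)
    (hn : 7 ≤ Fintype.card ι) (hn8 : Fintype.card ι ≠ 8)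
    (hne : ¬ eichGroup (fQ_nondegenerate (F := F) (ι := ι) h2) ≤ K) : ∀ g ∈ K, IsMon g := by
  classical
  haveI := Fact.mk hp
  obtain ⟨p, hpc⟩ : ∃ p, Fintype.card F = p := ⟨_, rfl⟩
  haveI : Fact p.Prime := ⟨hpc ▸ hp⟩
  haveI : CharP F p := by
    obtain ⟨q, hq⟩ := CharP.exists F
    obtain ⟨m, hq', hm⟩ := FiniteField.card F q
    have : q = p := by
      have h1 : q ∣ p := hpc ▸ hm ▸ dvd_pow_self q m.ne_zero
      exact (Nat.prime_dvd_prime_iff_eq hq' Fact.out).1 h1
    exact this ▸ hq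
  exact mon_of_upTo hK h2 (by omega) (fun he => by obtain ⟨m, hm⟩ := he; omega) (mon_four hK hpc h2 hn hne)

end Induction

section Omega

variable {F : Type*} [Field F] [Fintype F] {ι : Type} [Fintype ι] [DecidableEq ι]

/-- The stabiliser of a frame is maximal in `Ω`. -/
theorem isMaximalIn_frame {Q : QuadraticForm F (ι → F)} (hQ : (polarBilin Q).Nondegenerate)
    (hp : (Fintype.card F).Prime) (hodd : Odd (Fintype.card F))
    (hn : 7 ≤ Fintype.card ι) (hn8 : Fintype.card ι ≠ 8) {t : ℕ} {D : Fin t → Submodule F (ι → F)}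
    (hD : Cfsg.Geo.IsOrthogonalMDecomposition (⇑Q) 1 D) :
    Cfsg.Geo.IsMaximalIn (Cfsg.Geo.omegaGL (⇑Q))
      (Cfsg.Geo.decompositionStabilizer D ⊓ Cfsg.Geo.omegaGL (⇑Q)) := by
  classical
  have h2 : (2 : F) ≠ 0 := two_ne_zero_of_odd rfl hodd
  have hd := hD.decomp.decomp
  obtain ⟨i₀⟩ : Nonempty (Fin t) := ⟨⟨0, by have := hd.two_le; omega⟩⟩
  have hgen : ∀ i, ∀ d ∈ D i, d ≠ 0 → D i = Submodule.span F {d} := fun i d hdm hd0 =>
    (Submodule.eq_of_le_of_finrank_le (Submodule.span_le.2 (by simpa using hdm))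
      (by rw [hd.finrank_eq, finrank_span_singleton hd0])).symm
  obtain ⟨d₀, hd₀, hd₀0⟩ := (D i₀).exists_mem_ne_zero_of_ne_bot fun h => by
    have := hd.finrank_eq i₀
    rw [h, finrank_bot] at this
    omega
  set lam := Q d₀ with hlam
  have hlam0 : lam ≠ 0 := by
    intro h
    obtain ⟨y, hy, hne⟩ := (hD.decomp.nondegenerate i₀ d₀ hd₀ hd₀0).1
    rw [hgen i₀ d₀ hd₀ hd₀0] at hy
    obtain ⟨c, rfl⟩ := Submodule.mem_span_singleton.1 hy
    apply hne
    rw [polar_smul_left', polar_self', ← hlam, h]; ring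
  choose ψ hψ using fun i => hD.isometric i₀ i
  let b : Fin t → (ι → F) := fun i => (ψ i ⟨d₀, hd₀⟩ : ι → F)
  have hb0 : ∀ i, b i ≠ 0 := fun i h => hlam0 (by
    rw [hlam, ← hψ i ⟨d₀, hd₀⟩, show (ψ i ⟨d₀, hd₀⟩ : ι → F) = 0 from h, QuadraticMap.map_zero])
  have hbQ : ∀ i, Q (b i) = lam := fun i => hψ i ⟨d₀, hd₀⟩
  have hbD : ∀ i, D i = Submodule.span F {b i} := fun i => hgen i _ (ψ i _).2 (hb0 i)
  have hbperp : ∀ i j, i ≠ j → polar Q (b i) (b j) = 0 := fun i j h =>
    hD.decomp.orthogonal i j h _ (ψ i _).2 _ (ψ j _).2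
  have hspan : ⊤ ≤ Submodule.span F (Set.range b) := by
    rw [← hd.iSup_eq_top, iSup_le_iff]
    intro i
    rw [hbD]
    exact Submodule.span_mono (by simp)
  have hli : LinearIndependent F b :=
    hd.indep.linearIndependent D (fun i => (ψ i _).2) hb0
  let B := Module.Basis.mk hli hspan
  have htι : t = Fintype.card ι := by
    have := Module.finrank_eq_card_basis B
    rwa [Module.finrank_pi, Fintype.card_fin, eq_comm] at this
  let e : (Fin t → F) ≃ₗ[F] (ι → F) := B.equivFun.symm
  have he : ∀ x, e x = ∑ i, x i • b i := fun x => by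
    simp [e, B, Module.Basis.equivFun_symm_apply]
  have heQ : ∀ x, Q (e x) = lam * fQ F (Fin t) x := by
    intro x
    refine mul_left_cancel₀ h2 ?_
    rw [← polar_self', fQ_apply, he,
      show polar Q (∑ i, x i • b i) (∑ i, x i • b i) =
        polarBilin Q (∑ i, x i • b i) (∑ i, x i • b i) from rfl]
    simp only [map_sum, LinearMap.sum_apply, map_smul, LinearMap.smul_apply,
      QuadraticMap.polarBilin_apply_apply, smul_eq_mul]
    simp only [dotProduct, Finset.mul_sum]
    refine Finset.sum_congr rfl fun i _ => ?_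
    rw [Finset.sum_eq_single i (fun j _ hji => by rw [hbperp j i hji, mul_zero, mul_zero]) (by simp),
      polar_self', hbQ]
    ring
  have hfQ := fQ_nondegenerate (F := F) (ι := Fin t) h2
  have hn' : 7 ≤ Fintype.card (Fin t) := by rwa [Fintype.card_fin, htι]
  let Φ : OQ (fQ F (Fin t)) ≃* OQ Q := isoCongr (f := fun u _ => fQ F (Fin t) u)
    (f' := fun u _ => Q u) e fun u _ u' _ => by rw [heQ, heQ, mul_right_inj' hlam0]
  have hΦ : ∀ g x, (Φ g : (ι → F) ≃ₗ[F] (ι → F)) (e x) = e (g • x) := fun g x => by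
    show e ((g : (Fin t → F) ≃ₗ[F] (Fin t → F)) (e.symm (e x))) = _
    rw [LinearEquiv.symm_apply_apply, smul_def]
  have hee : ∀ i, e (ee i) = b i := fun i => by
    rw [he, Finset.sum_eq_single i (fun j _ hj => by rw [ee_ne hj, zero_smul]) (by simp), ee_self,
      one_smul]
  have hmon : ∀ g, OrthBlock.Permutes D (Φ g) ↔ IsMon g := by
    intro g
    constructor
    · intro hg
      refine isMon_of_axis h2 fun i => ?_
      obtain ⟨j, hj⟩ := hg i
      have h := hj (b i) (by rw [hbD]; exact Submodule.mem_span_singleton_self _)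
      rw [← hee i, hΦ, hbD, Submodule.mem_span_singleton] at h
      obtain ⟨c, hc⟩ := h
      rw [← hee, ← map_smul] at hc
      exact ⟨j, fun l hl => by rw [← e.injective hc]; simp [hl]⟩
    · rintro ⟨π, hπ⟩ i
      refine ⟨π i, fun x hx => ?_⟩
      rw [hbD, Submodule.mem_span_singleton] at hx ⊢
      obtain ⟨c, rfl⟩ := hx
      rw [← hee i, ← map_smul, hΦ, gsmul_smul]
      rcases hπ i with e' | e' <;> rw [e']
      · exact ⟨c, by rw [map_smul, hee]⟩
      · exact ⟨-c, by rw [map_smul, map_neg, hee, neg_smul, smul_neg]⟩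
  have hn5 : 5 ≤ Module.finrank F (ι → F) := by rw [Module.finrank_pi]; omega
  have hn5' : 5 ≤ Module.finrank F (Fin t → F) := by rw [Module.finrank_pi]; omega
  have hE : ∀ g, Φ g ∈ eichGroup hQ ↔ g ∈ eichGroup hfQ := by
    intro g
    have hmap : (commutator (OQ (fQ F (Fin t)))).map Φ.toMonoidHom = commutator (OQ Q) := by
      rw [commutator_def, commutator_def, Subgroup.map_commutator,
        Subgroup.map_top_of_surjective _ Φ.surjective]
    rw [eichGroup_eq_commutator hQ hn5, eichGroup_eq_commutator hfQ hn5', ← hmap,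
      Subgroup.mem_map_equiv, MulEquiv.symm_apply_apply]
  -- monomial elements of the derived group
  have hperm : ∀ π : Equiv.Perm (Fin t), Equiv.Perm.sign π = 1 → permO F π ∈ eichGroup hfQ := by
    intro π hπ
    rw [eichGroup_eq_commutator hfQ hn5']
    have h1 : π ∈ commutator (Equiv.Perm (Fin t)) := by
      have hA : π ∈ alternatingGroup (Fin t) := Equiv.Perm.mem_alternatingGroup.2 hπ
      rw [← commutator_alternatingGroup_eq_self (α := Fin t)
        (by rw [Nat.card_eq_fintype_card]; omega)] at hA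
      exact Subgroup.commutator_mono le_top le_top hA
    have := Subgroup.mem_map_of_mem (permO F) h1
    rw [commutator_def, Subgroup.map_commutator] at this
    exact Subgroup.commutator_mono le_top le_top this
  have hpair : ∀ i j : Fin t, i ≠ j →
      flipO (1 : Fin t → F) {i} * flipO (1 : Fin t → F) {j} ∈ eichGroup hfQ := by
    intro i j hij
    rw [eichGroup_eq_commutator hfQ hn5']
    have e1 : flipO (1 : Fin t → F) {i} * flipO (1 : Fin t → F) {j} =
        @Bracket.bracket (OQ (fQ F (Fin t))) (OQ (fQ F (Fin t))) _ (flipO (1 : Fin t → F) {i}) (permO F (Equiv.swap i j)) := by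
      have h1 := (monBy_perm (F := F) (Equiv.swap i j)).conj_flip {i}
      rw [Finset.image_singleton, Equiv.swap_apply_left] at h1
      rw [commutatorElement_def, flipO_inv, ← h1]
      group
    rw [e1]
    exact Subgroup.commutator_mem_commutator (Subgroup.mem_top _) (Subgroup.mem_top _)
  -- an element of the derived group moving the frame
  obtain ⟨g₁, hg₁, hg₁m⟩ : ∃ g ∈ eichGroup hfQ, ¬ IsMon g := by
    obtain ⟨r, s, hrs⟩ := exists_sum_two_squares h2 (one_ne_zero (α := F)) one_ne_zero (-1)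
    let a : Fin t := ⟨0, by omega⟩
    let c : Fin t := ⟨1, by omega⟩
    let v : Fin t → F := ee a + ee c + r • ee ⟨2, by omega⟩ + s • ee ⟨3, by omega⟩
    have hv : fQ F (Fin t) v = fQ F (Fin t) (ee a) := by
      rw [fQ_ee, fQ_apply]
      simp [v, a, c, add_dotProduct, dotProduct_add, Fin.ext_iff]
      linear_combination hrs
    obtain ⟨g, hg, hga⟩ := exists_move_vector hfQ hn5' (a := (ee a : Fin t → F)) (b := v)
      (by rw [fQ_ee]; exact one_ne_zero) hv
    refine ⟨g, hg, fun ⟨π, hπ⟩ => ?_⟩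
    obtain ⟨z, hz⟩ := hπ.axis a
    rw [show g • (ee a : Fin t → F) = v from hga] at hz
    have hva : v a = 1 := by simp [v, a, c, Fin.ext_iff]
    have hvc : v c = 1 := by simp [v, a, c, Fin.ext_iff]
    have e1 : a = z := by by_contra h; rw [hz a h] at hva; exact zero_ne_one hva
    have e2 : c = z := by by_contra h; rw [hz c h] at hvc; exact zero_ne_one hvc
    exact absurd (e1.trans e2.symm) (by simp [a, c, Fin.ext_iff])
  let o := oEquiv Q
  have hΩ : ∀ g : Cfsg.isometryGroup F (⇑Q),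
      (g : Matrix.GeneralLinearGroup ι F) ∈ Cfsg.Geo.omegaGL (⇑Q) ↔ o g ∈ eichGroup hQ := by
    intro g
    have hmap : (commutator ↥(Cfsg.isometryGroup F (⇑Q))).map o.toMonoidHom = commutator (OQ Q) := by
      rw [commutator_def, commutator_def, Subgroup.map_commutator,
        Subgroup.map_top_of_surjective _ o.surjective]
    rw [eichGroup_eq_commutator hQ hn5, ← hmap, Subgroup.mem_map_equiv, MulEquiv.symm_apply_apply]
    exact ⟨fun ⟨g', hg', hgg⟩ => by rw [← Subtype.ext hgg]; exact hg', fun h => ⟨g, h, rfl⟩⟩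
  have hmem : ∀ x, x ∈ Cfsg.Geo.omegaGL (⇑Q) → x ∈ Cfsg.isometryGroup F (⇑Q) := by
    rintro _ ⟨g, -, rfl⟩
    exact g.2
  refine ⟨lt_of_le_of_ne inf_le_right fun he => ?_, fun M hM hMS => ?_⟩
  · obtain ⟨g, hg⟩ := o.surjective (Φ g₁)
    refine hg₁m ((hmon g₁).1 ?_)
    rw [← hg]
    exact (OrthBlock.mem_decomp_iff hd g).1 (he.ge ((hΩ g).2 (by rw [hg]; exact (hE g₁).2 hg₁))).1
  refine (eq_or_lt_of_le hM).imp Eq.symm fun hlt => le_antisymm hMS ?_
  obtain ⟨g₀, hgM, hgn⟩ := SetLike.exists_of_lt hlt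
  set K₁ := (M.subgroupOf (Cfsg.isometryGroup F (⇑Q))).map o.toMonoidHom
  have hmK : ∀ g : Cfsg.isometryGroup F (⇑Q), o g ∈ K₁ ↔ (g : Matrix.GeneralLinearGroup ι F) ∈ M :=
    fun g => by
      rw [Subgroup.mem_map_equiv, MulEquiv.symm_apply_apply, Subgroup.mem_subgroupOf]
  set K : Subgroup (OQ (fQ F (Fin t))) := K₁.comap Φ.toMonoidHom
  have hKM : ∀ x ∈ eichGroup hfQ, IsMon x → x ∈ K := by
    intro x hx hxm
    obtain ⟨g, hg⟩ := o.surjective (Φ x)
    show Φ x ∈ K₁
    rw [← hg]
    exact (hmK g).2 (hM ⟨(OrthBlock.mem_decomp_iff hd g).2 (by rw [hg]; exact (hmon x).2 hxm),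
      (hΩ g).2 (by rw [hg]; exact (hE x).2 hx)⟩)
  have hK : IsFrame K := ⟨fun π hπ => hKM _ (hperm π hπ) (isMon_perm π),
    fun i j hij => hKM _ (hpair i j hij) ((isMon_flip _).mul (isMon_flip _))⟩
  set g : Cfsg.isometryGroup F (⇑Q) := ⟨g₀, hmem _ (hMS hgM)⟩
  obtain ⟨x, hx⟩ := Φ.surjective (o g)
  have hle : eichGroup hfQ ≤ K := by
    by_contra hne
    have := mon_of_not_le hK hp h2 hn' (by rwa [Fintype.card_fin, htι]) hne x
      (by show Φ x ∈ K₁; rw [hx]; exact (hmK g).2 hgM)
    exact hgn ⟨(OrthBlock.mem_decomp_iff hd g).2 (by rw [← hx]; exact (hmon x).2 this), hMS hgM⟩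
  intro y hy
  obtain ⟨w, hw⟩ := Φ.surjective (o ⟨y, hmem y hy⟩)
  have := hle ((hE w).1 (by rw [hw]; exact (hΩ ⟨y, _⟩).1 hy))
  refine (hmK ⟨y, hmem y hy⟩).1 ?_
  rw [← hw]
  exact this

end Omega

end CfsgLib.Geo.Frame
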