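import Cfsg.Agent.Lib.Geo.Frame.Basic

/-!
Induction step for groups containing the coordinate reflections.
-/

set_option autoImplicit false
set_option maxHeartbeats 800000

namespace CfsgLib.Geo.Frame

open CfsgLib.Classical CfsgLib.Classical.Quad

variable {F : Type*} [Field F] [Finite F] {ι : Type*} [Fintype ι] [DecidableEq ι]

instance finite_OQ (w : ι → F) : Finite (OQ (wQ w)) :=
  Finite.of_injective (fun g : OQ (wQ w) => fun x : ι → F => g • x)
    fun g h e => eq_of_smul fun x => congrFun e x

omit [Finite F] [Fintype ι] in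
theorem cyc_apply {a b c : ι} (hab : a ≠ b) (hbc : b ≠ c) (hac : a ≠ c) :
    (Equiv.swap a b * Equiv.swap b c) a = b ∧ (Equiv.swap a b * Equiv.swap b c) b = c ∧
      (Equiv.swap a b * Equiv.swap b c) c = a ∧
        ∀ l, l ≠ a → l ≠ b → l ≠ c → (Equiv.swap a b * Equiv.swap b c) l = l := by
  refine ⟨?_, ?_, ?_, fun l h1 h2 h3 => ?_⟩
  · rw [Equiv.Perm.mul_apply, Equiv.swap_apply_of_ne_of_ne hab hac, Equiv.swap_apply_left]
  · rw [Equiv.Perm.mul_apply, Equiv.swap_apply_left, Equiv.swap_apply_of_ne_of_ne hac.symm hbc.symm]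
  · rw [Equiv.Perm.mul_apply, Equiv.swap_apply_right, Equiv.swap_apply_right]
  · rw [Equiv.Perm.mul_apply, Equiv.swap_apply_of_ne_of_ne h2 h3, Equiv.swap_apply_of_ne_of_ne h1 h2]

/-- A group of isometries on the axes of `S` containing the reflections in those axes, in which
every element preserving an axis of `S` is monomial, is monomial. -/
theorem refl_step (h2 : (2 : F) ≠ 0) (G : Subgroup (OQ (fQ F ι))) (S : Finset ι) (hk : 5 ≤ S.card)
    (hfix : ∀ g ∈ G, ∀ j ∉ S, Axis (g • ee j : ι → F) ∧ ∀ l ∈ S, (g • ee j : ι → F) l = 0)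
    (hr : ∀ i ∈ S, flipO (1 : ι → F) {i} ∈ G)
    (hcyc : ∀ a ∈ S, ∀ b ∈ S, ∀ c ∈ S, a ≠ b → b ≠ c → a ≠ c →
      permO F (Equiv.swap a b * Equiv.swap b c) ∈ G)
    (Hfix : ∀ g ∈ G, ∀ i ∈ S, (g • (ee i : ι → F) = ee i ∨ g • (ee i : ι → F) = -ee i) → IsMon g) :
    ∀ g ∈ G, IsMon g := by
  classical
  have hsupp : ∀ g ∈ G, ∀ i ∈ S, ∀ l ∉ S, (g • ee i : ι → F) l = 0 := fun g hg i hi l hl => by
    rw [transpose h2]
    exact (hfix g⁻¹ (inv_mem hg) l hl).2 i hi
  have third : ∀ x y : ι, ∃ z ∈ S, z ≠ x ∧ z ≠ y := by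
    intro x y
    obtain ⟨z, hz, hz'⟩ := Finset.exists_mem_notMem_of_card_lt_card (s := ({x, y} : Finset ι))
      (t := S) (Finset.card_le_two.trans_lt (by omega))
    simp at hz'
    exact ⟨z, hz, hz'.1, hz'.2⟩
  have Lax : ∀ g ∈ G, ∀ i ∈ S, Axis (g • ee i : ι → F) → IsMon g := by
    intro g hg i hi hax
    obtain ⟨b, hb⟩ := hax.eq_ee (dot_smul_ee h2 g i)
    by_cases hbi : b = i
    · subst hbi; exact Hfix g hg b hi hb
    have hbS : b ∈ S := by
      by_contra h
      have := hsupp g hg i hi b h
      rcases hb with e | e <;> rw [e] at this <;> simp at this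
    obtain ⟨c, hcS, hci, hcb⟩ := third i b
    obtain ⟨e1, -, -, -⟩ := cyc_apply hbi hci.symm hcb.symm
    refine IsMon.of_mul_left (isMon_perm (Equiv.swap b i * Equiv.swap i c)) ?_
    refine Hfix _ (mul_mem (hcyc b hbS i hi c hcS hbi hci.symm hcb.symm) hg) i hi ?_
    rw [mul_smul]
    rcases hb with e | e <;> rw [e]
    · left; rw [permO_ee, e1]
    · right; rw [gsmul_neg, permO_ee, e1]
  have F1 : ∀ g ∈ G, ∀ i ∈ S, IsMon (g * flipO (1 : ι → F) {i} * g⁻¹) → IsMon g := by
    intro g hg i hi hmon
    rcases shape_of_isMon h2 hmon with h | ⟨a, b, hab, hz, ha, hb⟩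
    · exact Lax g hg i hi h
    set u : ι → F := g • ee i with hu
    have hua : u a ≠ 0 := fun h => by rw [h] at ha; simp at ha
    have hub : u b ≠ 0 := fun h => by rw [h] at hb; simp at hb
    have haS : a ∈ S := by_contra fun h => hua (hsupp g hg i hi a h)
    have hbS : b ∈ S := by_contra fun h => hub (hsupp g hg i hi b h)
    by_contra hgm
    set M := (S.erase a).erase b with hM
    have hMmem : ∀ m, m ∈ M ↔ m ≠ b ∧ m ≠ a ∧ m ∈ S := fun m => by simp [hM]
    let v : ι → ι → F := fun m => g⁻¹ • ee m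
    let T : ι → Finset ι := fun m => Finset.univ.filter fun l => v m l ≠ 0
    have hT : ∀ m ∈ M, (T m).card = 2 ∧ T m ⊆ S.erase i := by
      intro m hm
      obtain ⟨hmb, hma, hmS⟩ := (hMmem m).1 hm
      have hh : IsMon (g⁻¹ * flipO (1 : ι → F) {m} * g⁻¹⁻¹) := by
        refine Hfix _ (mul_mem (mul_mem (inv_mem hg) (hr m hmS)) (by rw [inv_inv]; exact hg)) i hi
          (Or.inl ?_)
        rw [inv_inv, mul_smul, mul_smul, ← hu]
        have e : flipO (1 : ι → F) {m} • u = u := funext fun l => by
          rw [flipO_apply]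
          split_ifs with h
          · rw [Finset.mem_singleton] at h; subst h
            rw [hz l hma hmb, neg_zero]
          · rfl
        rw [e, hu, inv_smul_smul]
      constructor
      · rcases shape_of_isMon h2 hh with h | ⟨x, y, hxy, hz', hx, hy⟩
        · exact absurd ((Lax g⁻¹ (inv_mem hg) m hmS h).inv) (by rwa [inv_inv])
        rw [show T m = {x, y} from Finset.ext fun l => by
          simp only [T, v, Finset.mem_filter, Finset.mem_univ, true_and, Finset.mem_insert,
            Finset.mem_singleton]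
          refine ⟨fun h => by_contra fun hc => h (hz' l (fun e => hc (Or.inl e))
            (fun e => hc (Or.inr e))), ?_⟩
          rintro (rfl | rfl) h
          · rw [h] at hx; simp at hx
          · rw [h] at hy; simp at hy]
        exact Finset.card_pair hxy
      · intro l hl
        simp only [T, v, Finset.mem_filter, Finset.mem_univ, true_and] at hl
        refine Finset.mem_erase.2 ⟨fun e => hl ?_,
          by_contra fun h => hl (hsupp g⁻¹ (inv_mem hg) m hmS l h)⟩
        rw [transpose h2, inv_inv, e, ← hu, hz m hma hmb]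
    have hdot : ∀ m m', m ≠ m' → v m ⬝ᵥ v m' = 0 := fun m m' h => by
      show g⁻¹ • ee m ⬝ᵥ g⁻¹ • ee m' = 0
      rw [dot_gsmul h2, dot_ee, ee_ne h.symm]
    have hdis : (M : Set ι).PairwiseDisjoint T := by
      intro m hm m' hm' hne
      rw [Function.onFun, Finset.disjoint_left]
      intro x hx hx'
      have hne2 : T m ≠ T m' := by
        intro heq
        obtain ⟨m'', hm'', h1, h3⟩ : ∃ z ∈ M, z ≠ m ∧ z ≠ m' := by
          obtain ⟨z, hz1, hz2⟩ := Finset.exists_mem_notMem_of_card_lt_card
            (s := ({m, m'} : Finset ι)) (t := M) (Finset.card_le_two.trans_lt (by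
              rw [hM, Finset.card_erase_of_mem (Finset.mem_erase.2 ⟨hab.symm, hbS⟩),
                Finset.card_erase_of_mem haS]
              omega))
          simp at hz2
          exact ⟨z, hz1, hz2.1, hz2.2⟩
        obtain ⟨hmb, hma, hmS⟩ := (hMmem m).1 hm
        obtain ⟨hm'b, hm'a, hm'S⟩ := (hMmem m').1 hm'
        obtain ⟨hm''b, hm''a, hm''S⟩ := (hMmem m'').1 hm''
        obtain ⟨c1, c2, -, cfix⟩ := cyc_apply hne h3.symm h1.symm
        set σ := Equiv.swap m m' * Equiv.swap m' m''
        have hσG := hcyc m hmS m' hm'S m'' hm''S hne h3.symm h1.symm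
        have hσu : permO F σ • u = u := funext fun l => by
          rw [permO_apply]
          by_cases hl : u l = 0
          · rw [hl]
            refine by_contra fun h => h (hz _ (fun e => ?_) fun e => ?_)
            · rw [Equiv.symm_apply_eq, cfix a hma.symm hm'a.symm hm''a.symm] at e
              exact hua (e ▸ hl)
            · rw [Equiv.symm_apply_eq, cfix b hmb.symm hm'b.symm hm''b.symm] at e
              exact hub (e ▸ hl)
          · have hlab : l = a ∨ l = b := by
              by_contra hc; push Not at hc; exact hl (hz l hc.1 hc.2)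
            congr 1
            rw [Equiv.symm_apply_eq]
            rcases hlab with rfl | rfl
            · exact (cfix l hma.symm hm'a.symm hm''a.symm).symm
            · exact (cfix l hmb.symm hm'b.symm hm''b.symm).symm
        obtain ⟨π, hπ⟩ := Hfix (g⁻¹ * permO F σ * g) (mul_mem (mul_mem (inv_mem hg) hσG) hg) i hi
          (Or.inl (by rw [mul_smul, mul_smul, ← hu, hσu, hu, inv_smul_smul]))
        have himg : ∀ x y : ι, σ x = y → T y = (T x).image π := by
          intro x y hxy
          have hv : (g⁻¹ * permO F σ * g) • v x = v y := by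
            simp only [v, mul_smul, smul_inv_smul, permO_ee, hxy]
          ext l
          obtain ⟨k, rfl⟩ := π.surjective l
          simp only [T, Finset.mem_filter, Finset.mem_univ, true_and, Finset.mem_image,
            EmbeddingLike.apply_eq_iff_eq, exists_eq_right]
          rw [← hv]
          rcases hπ.apply h2 (v x) k with e | e <;> rw [e] <;> simp
        have e1 := himg m m' c1
        have e2 := himg m' m'' c2
        rw [← heq] at e2 e1
        rw [← e1] at e2
        have hle := card_le_of_maps (g⁻¹ : OQ (fQ F ι)) (T := ({m, m', m''} : Finset ι))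
          (T' := T m) (fun j hj l hl => by
            have hTj : T j = T m := by
              simp at hj; rcases hj with rfl | rfl | rfl
              exacts [rfl, heq.symm, e2]
            rw [← hTj] at hl
            simpa [T, v] using hl)
        rw [(hT m hm).1, Finset.card_eq_three.2 ⟨m, m', m'', hne, h1.symm, h3.symm, rfl⟩] at hle
        omega
      have hsingle : ∀ y, y ∈ T m → y ∈ T m' → y = x := by
        intro y hy hy'
        by_contra hyx
        have p1 : ({x, y} : Finset ι) = T m := Finset.eq_of_subset_of_card_le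
          (by simp [Finset.insert_subset_iff, hx, hy])
          (by rw [(hT m hm).1, Finset.card_pair (Ne.symm hyx)])
        have p2 : ({x, y} : Finset ι) = T m' := Finset.eq_of_subset_of_card_le
          (by simp [Finset.insert_subset_iff, hx', hy'])
          (by rw [(hT m' hm').1, Finset.card_pair (Ne.symm hyx)])
        exact hne2 (p1.symm.trans p2)
      have h0 := hdot m m' hne
      rw [dotProduct, Finset.sum_eq_single x (fun y _ hy => ?_) (by simp)] at h0
      · simp only [T, Finset.mem_filter, Finset.mem_univ, true_and] at hx hx'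
        exact mul_ne_zero hx hx' h0
      · by_contra h
        refine hy (hsingle y ?_ ?_) <;>
          simp only [T, Finset.mem_filter, Finset.mem_univ, true_and]
        exacts [left_ne_zero_of_mul h, right_ne_zero_of_mul h]
    have hcnt := Finset.card_le_card (Finset.biUnion_subset.2 fun m hm => (hT m hm).2)
    rw [Finset.card_biUnion hdis, Finset.sum_congr rfl (fun m hm => (hT m hm).1),
      Finset.sum_const, smul_eq_mul, Finset.card_erase_of_mem hi, hM,
      Finset.card_erase_of_mem (Finset.mem_erase.2 ⟨hab.symm, hbS⟩),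
      Finset.card_erase_of_mem haS] at hcnt
    omega
  have B : ∀ g ∈ G, ∀ i ∈ S, ∀ j ∈ S, (g • ee i : ι → F) j = 0 → IsMon g := by
    intro g hg i hi j hj h0
    refine F1 g hg i hi (Hfix _ (mul_mem (mul_mem hg (hr i hi)) (inv_mem hg)) j hj (Or.inl ?_))
    rw [conj_flip_single h2, ee_dot, h0, mul_zero, zero_smul, sub_zero]
  have A : ∀ x ∈ G, ∀ a ∈ S, ∀ b ∈ S, Commute x (flipO (1 : ι → F) {a, b}) → IsMon x := by
    intro x hx a ha b hb hc
    obtain ⟨j, hj, hja, hjb⟩ := third a b
    exact B x hx a ha j hj (supp_of_commute h2 hc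
      (fun m hm => ee_ne fun e => hm (by simp [e])) j (by simp [hja, hjb]))
  intro g hg
  by_contra hgm
  obtain ⟨D, hDS, hD⟩ := Finset.exists_subset_card_eq (s := S) (n := 3) (by omega)
  obtain ⟨m1, m2, i, h12, h1i, h2i, rfl⟩ := Finset.card_eq_three.1 hD
  simp [Finset.insert_subset_iff] at hDS
  obtain ⟨h1S, h2S, hiS⟩ := hDS
  set u : ι → F := g • ee i with hu
  have hufull : ∀ l ∈ S, u l ≠ 0 := fun l hl h => hgm (B g hg i hiS l hl h)
  set q : OQ (fQ F ι) := flipO (1 : ι → F) {m1, m2} with hq
  set b : OQ (fQ F ι) := g * flipO (1 : ι → F) {i} * g⁻¹ with hb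
  have hqG : q ∈ G := by
    have : q = flipO (1 : ι → F) {m1} * flipO (1 : ι → F) {m2} := by
      rw [hq, flipO_mul]
      congr 1
      ext l
      by_cases a : l = m1 <;> by_cases c : l = m2 <;> simp [Finset.mem_symmDiff, a, c, h12, h12.symm]
    rw [this]
    exact mul_mem (hr _ h1S) (hr _ h2S)
  have hbG : b ∈ G := mul_mem (mul_mem hg (hr i hiS)) (inv_mem hg)
  have hbb : b * b = 1 := by
    rw [hb, show g * flipO (1 : ι → F) {i} * g⁻¹ * (g * flipO (1 : ι → F) {i} * g⁻¹) =
      g * (flipO (1 : ι → F) {i} * flipO (1 : ι → F) {i}) * g⁻¹ by group, flipO_sq]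
    group
  rcases dihedral_split (flipO_sq {m1, m2} : q * q = 1) hbb with ⟨j, hj⟩ | ⟨k, hz1, -, hzq, hzb, hcase⟩
  · -- `q` is not conjugate to a reflection
    set y := (q * b) ^ j
    have e : (g⁻¹ * y) * q * (g⁻¹ * y)⁻¹ = flipO (1 : ι → F) {i} := by
      rw [show (g⁻¹ * y) * q * (g⁻¹ * y)⁻¹ = g⁻¹ * (y * q * y⁻¹) * g by group, hj, hb]
      group
    have := card_eq_of_conj h2 _ e
    rw [Finset.card_pair h12, Finset.card_singleton] at this
    omega
  set z := (q * b) ^ k
  have hpow : ∀ n : ℕ, (q * b) ^ n ∈ G := fun n => pow_mem (mul_mem hqG hbG) n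
  have hzbb : Commute (z * b) b := hzb.mul_left (Commute.refl b)
  simp only [← hq] at hcase
  clear_value q b
  -- the conjugate of `z * b` is a sign change
  obtain ⟨T, hT⟩ : ∃ T, g⁻¹ * (z * b) * g = flipO (1 : ι → F) T := by
    rcases hcase with ⟨n, hn⟩ | ⟨n, hn⟩
    · set x := g⁻¹ * (q * b) ^ n * g with hx
      have hxG : x ∈ G := mul_mem (mul_mem (inv_mem hg) (hpow n)) hg
      have e : g⁻¹ * (z * b) * g = x * flipO (1 : ι → F) {i} * x⁻¹ := by
        have key : ∀ Y, g⁻¹ * (Y * b * Y⁻¹) * g = g⁻¹ * Y * g * flipO (1 : ι → F) {i} * (g⁻¹ * Y * g)⁻¹ :=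
          fun Y => by rw [hb]; group
        rw [← hn, hx]; exact key _
      suffices IsMon x by
        obtain ⟨π, hπ⟩ := this
        exact ⟨_, e.trans (hπ.conj_flip _)⟩
      have hc : Commute (x * flipO (1 : ι → F) {i} * x⁻¹) (flipO (1 : ι → F) {i}) := by
        rw [← e]
        have h1 := hzbb.eq
        show g⁻¹ * (z * b) * g * flipO (1 : ι → F) {i} = flipO (1 : ι → F) {i} * (g⁻¹ * (z * b) * g)
        have e' : flipO (1 : ι → F) {i} = g⁻¹ * b * g := by rw [hb]; group
        rw [e', show g⁻¹ * (z * b) * g * (g⁻¹ * b * g) = g⁻¹ * ((z * b) * b) * g by group, h1]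
        group
      have hsup := supp_of_commute h2 hc (x := (ee i : ι → F))
        (fun m hm => ee_ne fun e => hm (by simp [e]))
      by_cases h0 : (x • ee i : ι → F) i = 0
      · exact B x hxG i hiS i hiS h0
      refine Lax x hxG i hiS ⟨i, fun l hl => ?_⟩
      have := hsup l (by simpa using hl)
      rw [conj_flip_single h2, ee_dot] at this
      simp [hl, h2, h0] at this
      exact this
    · obtain ⟨y, hyG, hn⟩ : ∃ y ∈ G, y * q * y⁻¹ = z * b := ⟨_, hpow n, hn⟩
      have hcy : Commute (y⁻¹ * b * y) q := by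
        have e' : q = y⁻¹ * (z * b) * y := by rw [← hn]; group
        rw [e']
        show y⁻¹ * b * y * (y⁻¹ * (z * b) * y) = y⁻¹ * (z * b) * y * (y⁻¹ * b * y)
        rw [show y⁻¹ * b * y * (y⁻¹ * (z * b) * y) = y⁻¹ * (b * (z * b)) * y by group, ← hzbb.eq]
        group
      have hmx : IsMon ((y⁻¹ * g) * flipO (1 : ι → F) {i} * (y⁻¹ * g)⁻¹) := by
        rw [show (y⁻¹ * g) * flipO (1 : ι → F) {i} * (y⁻¹ * g)⁻¹ = y⁻¹ * b * y by rw [hb]; group]
        exact A _ (mul_mem (mul_mem (inv_mem hyG) hbG) hyG) m1 h1S m2 h2S (hq ▸ hcy)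
      obtain ⟨π, hπ⟩ := (F1 _ (mul_mem (inv_mem hyG) hg) i hiS hmx).inv
      refine ⟨({m1, m2} : Finset ι).image π, ?_⟩
      rw [← hπ.conj_flip, ← hn, ← hq]
      group
  have hz' : g⁻¹ * z * g = flipO (1 : ι → F) (symmDiff T {i}) := by
    rw [← flipO_mul, ← hT, hb]
    rw [show g⁻¹ * (z * (g * flipO (1 : ι → F) {i} * g⁻¹)) * g * flipO (1 : ι → F) {i} =
      g⁻¹ * z * g * (flipO (1 : ι → F) {i} * flipO (1 : ι → F) {i}) by group, flipO_sq, mul_one]
  obtain ⟨π, hπ⟩ := A z (hpow k) m1 h1S m2 h2S hzq
  -- elements of the dihedral group move vectors within a three-space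
  let W : Submodule F (ι → F) := Submodule.span F {ee m1, ee m2, u}
  have hW : ∀ n : ℕ, ∀ y : ι → F, (q * b) ^ n • y - y ∈ W := by
    intro n
    induction n with
    | zero => intro y; simp
    | succ n ih =>
      intro y
      rw [pow_succ, mul_smul]
      have e : ∀ a : ι → F, (q * b) • a - a ∈ W := by
        intro a
        rw [mul_smul]
        have h1 : ∀ c : ι → F, q • c - c ∈ W := fun c => by
          refine Submodule.mem_span_triple.2 ⟨-2 * c m1, -2 * c m2, 0, ?_⟩
          funext l
          simp only [hq, Pi.sub_apply, flipO_apply, Pi.add_apply, Pi.smul_apply, smul_eq_mul,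
            zero_mul, add_zero, Finset.mem_insert, Finset.mem_singleton]
          by_cases l1 : l = m1
          · subst l1; simp [h12]; ring
          by_cases l2 : l = m2
          · subst l2; simp [h12.symm]; ring
          simp [l1, l2]
        have h3 : b • a - a ∈ W := by
          rw [hb, conj_flip_single h2, sub_sub_cancel_left]
          exact W.neg_mem (W.smul_mem _ (Submodule.subset_span (by simp [hu])))
        simpa using W.add_mem (h1 (b • a)) h3
      simpa using W.add_mem (ih ((q * b) • y)) (e y)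
  obtain ⟨R, hR, hRc⟩ : ∃ R : Finset ι, (∀ c ∈ R, c ∈ S ∧ c ≠ m1 ∧ c ≠ m2) ∧ 3 ≤ R.card := by
    refine ⟨(S.erase m1).erase m2, fun c hc => ?_, ?_⟩
    · simp at hc; exact ⟨hc.2.2, hc.2.1, hc.1⟩
    · rw [Finset.card_erase_of_mem (Finset.mem_erase.2 ⟨h12.symm, h2S⟩),
        Finset.card_erase_of_mem h1S]
      omega
  have hzR : ∀ c ∈ R, z • (ee c : ι → F) = ee c := by
    intro c hc
    obtain ⟨α, β, γ, hγ⟩ := Submodule.mem_span_triple.1 (hW k (ee c))
    have hval : ∀ l ∈ R, (z • ee c - ee c : ι → F) l = γ * u l := fun l hl => by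
      rw [← hγ]; simp [(hR l hl).2.1, (hR l hl).2.2]
    have third' : ∀ x : ι, ∃ l ∈ R, l ≠ c ∧ l ≠ x := fun x => by
      obtain ⟨l, hl, hl'⟩ := Finset.exists_mem_notMem_of_card_lt_card (s := ({c, x} : Finset ι))
        (t := R) (Finset.card_le_two.trans_lt (by omega))
      simp at hl'
      exact ⟨l, hl, hl'.1, hl'.2⟩
    by_contra hne
    have hc0 : (z • ee c - ee c : ι → F) c ≠ 0 := by
      rcases hπ c with e | e
      · by_cases hcc : π c = c
        · exact absurd (e.trans (by rw [hcc])) hne
        · rw [e]; simp [Ne.symm hcc]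
      · by_cases hcc : π c = c
        · rw [e, hcc]; simp; exact fun h => h2 (by linear_combination -h)
        · rw [e]; simp [Ne.symm hcc]
    rw [hval c hc] at hc0
    obtain ⟨l, hl, hlc, hlπ⟩ := third' (π c)
    have hl0 := hval l hl
    rw [show (z • ee c - ee c : ι → F) l = 0 by
      rcases hπ c with e | e <;> rw [e] <;> simp [hlc, hlπ]] at hl0
    exact mul_ne_zero (left_ne_zero_of_mul hc0) (hufull l (hR l hl).1) hl0.symm
  obtain ⟨c, hc⟩ : R.Nonempty := Finset.card_pos.1 (by omega)
  have hvfull : ∀ l ∈ S, (g⁻¹ • ee c : ι → F) l ≠ 0 := fun l hl h => hgm (by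
    simpa using (B g⁻¹ (inv_mem hg) c (hR c hc).1 l hl h).inv)
  have hfixv : (g⁻¹ * z * g) • (g⁻¹ • ee c : ι → F) = g⁻¹ • ee c := by
    rw [mul_smul, mul_smul, smul_inv_smul, hzR c hc]
  have hTe : symmDiff T {i} = ∅ := by
    refine Finset.eq_empty_of_forall_notMem fun l hl => ?_
    by_cases hlS : l ∈ S
    · have h := congrFun hfixv l
      rw [hz', flipO_apply, if_pos hl] at h
      exact hvfull l hlS ((mul_eq_zero.1 (show (2 : F) * (g⁻¹ • ee c : ι → F) l = 0 by
        linear_combination -h)).resolve_left h2)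
    · -- outside `S` everything is fixed up to sign
      have hgl : ∀ x ∈ G, ∀ m ∈ S, (x • ee l : ι → F) m = 0 := fun x hx => (hfix x hx l hlS).2
      obtain ⟨a, ha⟩ := (hfix g hg l hlS).1.eq_ee (dot_smul_ee h2 g l)
      have haS : a ∉ S := fun h => by
        have := hgl g hg a h
        rcases ha with e | e <;> rw [e] at this <;> simp at this
      have hza : z • (ee a : ι → F) = ee a := by
        obtain ⟨α, β, γ, hγ⟩ := Submodule.mem_span_triple.1 (hW k (ee a))
        have hane : ∀ m ∈ S, a ≠ m := fun m hm e => haS (e ▸ hm)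
        have h0 : (z • ee a - ee a : ι → F) c = 0 := by
          simp [(hfix z (hpow k) a haS).2 c (hR c hc).1, (hane c (hR c hc).1).symm]
        rw [← hγ] at h0
        simp [(hR c hc).2.1, (hR c hc).2.2, hufull c (hR c hc).1] at h0
        rw [h0, zero_smul, add_zero] at hγ
        have h1 : (z • ee a - ee a : ι → F) m1 = 0 := by
          simp [(hfix z (hpow k) a haS).2 m1 h1S, (hane m1 h1S).symm]
        have h2' : (z • ee a - ee a : ι → F) m2 = 0 := by
          simp [(hfix z (hpow k) a haS).2 m2 h2S, (hane m2 h2S).symm]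
        rw [← hγ] at h1 h2'
        simp [h12, h12.symm] at h1 h2'
        rw [h1, h2', zero_smul, zero_smul, add_zero] at hγ
        exact (sub_eq_zero.1 hγ.symm)
      have h := congrFun (show (g⁻¹ * z * g) • (ee l : ι → F) = ee l by
        rw [mul_smul, mul_smul]
        rcases ha with e | e <;> rw [e]
        · rw [hza, ← e, inv_smul_smul]
        · rw [gsmul_neg, hza, ← e, inv_smul_smul]) l
      rw [hz', flipO_apply, if_pos hl, ee_self] at h
      exact h2 (by linear_combination -h)
  apply hz1
  rw [hTe, flipO_empty] at hz'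
  calc z = g * (g⁻¹ * z * g) * g⁻¹ := by group
    _ = 1 := by rw [hz']; group

end CfsgLib.Geo.Frame
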