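import Cfsg.Agent.Lib.Geo.Frame.Basic
import Cfsg.Agent.Lib.Classical.Quad.CommutatorIndex
import Cfsg.Agent.Lib.Geo.OrthMaximalBasic

/-!
Reflection vectors attached to a group containing the even monomial isometries.
-/

set_option autoImplicit false

namespace CfsgLib.Geo.Frame

open CfsgLib.Classical CfsgLib.Classical.Quad
open QuadraticMap (polar polarBilin)

variable {F : Type*} [Field F] {ι : Type*} [Fintype ι] [DecidableEq ι]

/-- The reflection in `u`, or the identity. -/
noncomputable def reflU (u : ι → F) : OQ (fQ F ι) :=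
  haveI : Decidable (fQ F ι u ≠ 0) := _root_.Classical.dec _
  if h : fQ F ι u ≠ 0 then Quad.refl h else 1

omit [DecidableEq ι] in
theorem reflU_eq {u : ι → F} (hu : u ⬝ᵥ u = 1) :
    reflU u = Quad.refl (v := u) (Q := fQ F ι) (by rw [fQ_apply, hu]; exact one_ne_zero) := by
  unfold reflU
  rw [dif_pos]

theorem reflU_smul {u : ι → F} (hu : u ⬝ᵥ u = 1) (y : ι → F) :
    reflU u • y = y - (2 * (y ⬝ᵥ u)) • u := by
  rw [reflU_eq hu, smul_def, refl_apply, fQ_apply, hu, polar_fQ, inv_one, one_mul]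

theorem reflU_sq {u : ι → F} (hu : u ⬝ᵥ u = 1) : reflU u * reflU u = 1 := by
  rw [reflU_eq hu, refl_mul_self]

theorem reflU_inv {u : ι → F} (hu : u ⬝ᵥ u = 1) : (reflU u)⁻¹ = reflU u :=
  inv_eq_of_mul_eq_one_right (reflU_sq hu)

theorem reflU_ee (i : ι) : reflU (ee i : ι → F) = flipO (1 : ι → F) {i} :=
  eq_of_smul fun y => funext fun j => by
    rw [reflU_smul (by rw [dot_ee, ee_self]), dot_ee, flipO_apply]
    rcases eq_or_ne j i with rfl | hj
    · simp; ring
    · simp [hj]

theorem reflU_conj (h2 : (2 : F) ≠ 0) (g : OQ (fQ F ι)) {u : ι → F} (hu : u ⬝ᵥ u = 1) :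
    g * reflU u * g⁻¹ = reflU (g • u) := by
  refine eq_of_smul fun y => ?_
  rw [mul_smul, mul_smul, reflU_smul hu, reflU_smul (by rw [dot_gsmul h2, hu]), gsmul_sub,
    gsmul_smul, smul_inv_smul, ← dot_gsmul h2 g (g⁻¹ • y) u, smul_inv_smul]

/-- A unit vector whose reflection lies in `K` up to a coordinate reflection. -/
def Root (K : Subgroup (OQ (fQ F ι))) (u : ι → F) : Prop :=
  u ⬝ᵥ u = 1 ∧ ∀ i, reflU u * flipO (1 : ι → F) {i} ∈ K

variable {K : Subgroup (OQ (fQ F ι))} (hK : IsFrame K)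
include hK

theorem root_ee (i : ι) : Root K (ee i) :=
  ⟨by rw [dot_ee, ee_self], fun j => by rw [reflU_ee]; exact hK.flip_single_mul i j⟩

theorem root_refl [Nonempty ι] (h2 : (2 : F) ≠ 0) {u v : ι → F} (hv : Root K v) (hu : Root K u) :
    Root K (reflU v • u) := by
  refine ⟨by rw [dot_gsmul h2, hu.1], fun i => ?_⟩
  obtain ⟨o⟩ := ‹Nonempty ι›
  rw [← reflU_conj h2 _ hu.1, reflU_inv hv.1]
  have e : reflU v * reflU u * reflU v * flipO (1 : ι → F) {i} =
      (reflU v * flipO (1 : ι → F) {o}) * (reflU u * flipO (1 : ι → F) {o})⁻¹ *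
        (reflU v * flipO (1 : ι → F) {i}) := by
    rw [_root_.mul_inv_rev, flipO_inv, reflU_inv hu.1]
    simp only [mul_assoc]
    rw [← mul_assoc (flipO (1 : ι → F) {o}) (flipO (1 : ι → F) {o}), flipO_sq, one_mul]
  rw [e]
  exact mul_mem (mul_mem (hv.2 o) (inv_mem (hu.2 o))) (hv.2 i)

theorem root_conj (h2 : (2 : F) ≠ 0) {g : OQ (fQ F ι)} (hg : g ∈ K) {o o' : ι}
    (ho : g * flipO (1 : ι → F) {o} * g⁻¹ = flipO (1 : ι → F) {o'}) {u : ι → F} (hu : Root K u) :
    Root K (g • u) := by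
  refine ⟨by rw [dot_gsmul h2, hu.1], fun i => ?_⟩
  have e : g * reflU u * g⁻¹ * flipO (1 : ι → F) {i} =
      g * (reflU u * flipO (1 : ι → F) {o}) * g⁻¹ *
        (flipO (1 : ι → F) {o'} * flipO (1 : ι → F) {i}) := by
    rw [← ho]
    simp only [mul_assoc]
    rw [inv_mul_cancel_left, ← mul_assoc (flipO (1 : ι → F) {o}) (flipO (1 : ι → F) {o}), flipO_sq, one_mul]
  rw [← reflU_conj h2 _ hu.1, e]
  exact mul_mem (mul_mem (mul_mem hg (hu.2 o)) (inv_mem hg)) (hK.flip_single_mul o' i)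

theorem root_fix (h2 : (2 : F) ≠ 0) {g : OQ (fQ F ι)} (hg : g ∈ K) {o : ι}
    (ho : g • (ee o : ι → F) = ee o) {u : ι → F} (hu : Root K u) : Root K (g • u) :=
  root_conj hK h2 hg (o := o) (o' := o) (eq_of_smul fun y => by
    rw [conj_flip_single h2, ho, ← reflU_ee, reflU_smul (by rw [dot_ee, ee_self])]) hu

theorem root_flip [Nonempty ι] (h2 : (2 : F) ≠ 0) {u : ι → F} (hu : Root K u) (T : Finset ι) :
    Root K (flipO (1 : ι → F) T • u) := by
  induction T using Finset.induction with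
  | empty => rwa [flipO_empty, one_smul]
  | insert a T ha ih =>
    have e : flipO (1 : ι → F) (insert a T) = flipO (1 : ι → F) {a} * flipO (1 : ι → F) T := by
      rw [flipO_mul]
      congr 1
      ext l
      by_cases hl : l = a <;> simp [Finset.mem_symmDiff, hl, ha]
    rw [e, mul_smul, ← reflU_ee]
    exact root_refl hK h2 (root_ee hK a) ih

theorem root_neg [Nonempty ι] (h2 : (2 : F) ≠ 0) {u : ι → F} (hu : Root K u) : Root K (-u) := by
  convert root_flip hK h2 hu Finset.univ using 1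
  funext i
  rw [flipO_apply, if_pos (Finset.mem_univ i)]
  rfl

/-- A unit vector with the same squares, coordinates permuted, as a root with two equal squares. -/
theorem root_of_sq (h2 : (2 : F) ≠ 0) {u w : ι → F} (hu : Root K u) {c d : ι} (hcd : c ≠ d)
    (hsq : u c ^ 2 = u d ^ 2) (π : Equiv.Perm ι) (h : ∀ i, w i ^ 2 = u (π i) ^ 2) :
    Root K w := by
  have : Nonempty ι := ⟨c⟩
  classical
  obtain ⟨ρ, hρ, hρw⟩ : ∃ ρ : Equiv.Perm ι, Equiv.Perm.sign ρ = 1 ∧ ∀ i, w i ^ 2 = u (ρ i) ^ 2 := by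
    rcases Int.units_eq_one_or (Equiv.Perm.sign π) with hs | hs
    · exact ⟨π, hs, h⟩
    · refine ⟨Equiv.swap c d * π, by rw [map_mul, Equiv.Perm.sign_swap hcd, hs]; decide, fun i => ?_⟩
      rw [Equiv.Perm.mul_apply, h]
      by_cases h1 : π i = c
      · rw [h1, Equiv.swap_apply_left, hsq]
      by_cases h3 : π i = d
      · rw [h3, Equiv.swap_apply_right, hsq]
      rw [Equiv.swap_apply_of_ne_of_ne h1 h3]
  have hperm : Root K (fun i => u (ρ i)) := by
    have hinv : Equiv.Perm.sign ρ⁻¹ = 1 := by rw [map_inv, hρ, inv_one]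
    have := root_conj hK h2 (hK.perm ρ⁻¹ hinv) (o := c) (o' := ρ⁻¹ c) (by
      rw [(monBy_perm ρ⁻¹).conj_flip, Finset.image_singleton]) hu
    convert this using 1
    funext i
    rw [permO_apply, Equiv.Perm.inv_def, Equiv.symm_symm]
  have hw := root_flip hK h2 hperm (Finset.univ.filter fun i => w i ≠ u (ρ i))
  convert hw using 1
  funext i
  rw [flipO_apply]
  simp only [Finset.mem_filter, Finset.mem_univ, true_and]
  split_ifs with hi
  · exact ((sq_eq_sq_iff_eq_or_eq_neg).1 (hρw i)).resolve_left hi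
  · exact not_not.1 hi

/-- If every unit vector is a root then `K` contains all Eichler transformations. -/
theorem le_of_all_root [Finite F] (h2 : (2 : F) ≠ 0) (hn : 6 ≤ Fintype.card ι)
    (hall : ∀ u : ι → F, u ⬝ᵥ u = 1 → Root K u) :
    eichGroup (fQ_nondegenerate (F := F) (ι := ι) h2) ≤ K := by
  classical
  have hfr : Module.finrank F (ι → F) = Fintype.card ι := Module.finrank_pi F
  set hQ := fQ_nondegenerate (F := F) (ι := ι) h2
  obtain ⟨o⟩ : Nonempty ι := Fintype.card_pos_iff.1 (by omega)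
  have pair : ∀ x y : ι → F, x ⬝ᵥ x = 1 → y ⬝ᵥ y = 1 → reflU x * reflU y ∈ K := by
    intro x y hx hy
    have e : reflU x * reflU y =
        reflU x * flipO (1 : ι → F) {o} * (reflU y * flipO (1 : ι → F) {o})⁻¹ := by
      rw [_root_.mul_inv_rev, flipO_inv, reflU_inv hy, mul_assoc,
        ← mul_assoc (flipO (1 : ι → F) {o}), flipO_sq, one_mul]
    rw [e]
    exact mul_mem ((hall x hx).2 o) (inv_mem ((hall y hy).2 o))
  refine OrthMax.le_of_has hQ (by omega) fun w a hw hqa hwa hw' ha' => ?_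
  obtain ⟨b, hb, hperp⟩ := exists_apply_eq_perp hQ (Submodule.span F ({w, a} : Set (ι → F))) (by
    have h := finrank_span_finset_le_card (R := F) ({w, a} : Finset (ι → F))
    have hle := h.trans (Finset.card_le_two (a := w) (b := a))
    rw [show (({w, a} : Finset (ι → F)) : Set (ι → F)) = ({w, a} : Set (ι → F)) by simp] at hle
    simp only [Set.finrank] at hle
    omega) one_ne_zero
  have hwb := hperp w (Submodule.subset_span (by simp))
  have hab := hperp a (Submodule.subset_span (by simp))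
  have key : ∀ c, fQ F ι c = 1 → ∀ hc : polar (fQ F ι) w c = 0, eich hQ hw hc ∈ K := by
    intro c hc1 hc
    obtain ⟨hc', e, he⟩ := eich_eq_refl_mul hQ hw hc (by rw [hc1]; exact one_ne_zero)
    rw [he]
    have h1 : c ⬝ᵥ c = 1 := by rw [← fQ_apply]; exact hc1
    have h1' : (c + (-fQ F ι c) • w) ⬝ᵥ (c + (-fQ F ι c) • w) = 1 := by
      rw [← fQ_apply, e, hc1]
    rw [← reflU_eq h1, ← reflU_eq h1']
    exact pair _ _ h1 h1'
  have hwab : polar (fQ F ι) w (a + b) = 0 := by rw [polar_add_right', hwa, hwb, add_zero]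
  have hwnb : polar (fQ F ι) w (-b) = 0 := by rw [QuadraticMap.polar_neg_right, hwb, neg_zero]
  have e : eich hQ hw' ha' = eich hQ hw hwab * eich hQ hw hwnb := by
    rw [eich_mul]
    exact eich_congr hQ rfl (by abel)
  rw [e]
  exact mul_mem (key _ (by rw [apply_add, hqa, hb, hab]; ring) _)
    (key _ (by rw [QuadraticMap.map_neg, hb]) _)

end CfsgLib.Geo.Frame
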