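import Cfsg.Agent.Lib.Geo.Frame.SixMain
import Cfsg.Agent.Lib.Geo.Frame.Five

/-!
# Frame groups on six axes over prime fields
-/

set_option autoImplicit false
set_option maxHeartbeats 800000

namespace CfsgLib.Geo.Frame

open CfsgLib.Classical CfsgLib.Classical.Quad

variable {F : Type*} [Field F] [Fintype F] {ι : Type*} [Fintype ι] [DecidableEq ι]
  {K : Subgroup (OQ (fQ F ι))}

/-- Everything is monomial, unless `K` contains `Ω`, in dimension six, in determinant one. -/
theorem mon_six (hK : IsFrame K) {p : ℕ} [Fact p.Prime] [CharP F p] (hF : Fintype.card F = p) (hp5 : 5 ≤ p)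
    (h2 : (2 : F) ≠ 0) (hn : Fintype.card ι = 6) (hdet : ∀ g ∈ K, dO g = 1)
    (hne : ¬ eichGroup (fQ_nondegenerate (F := F) (ι := ι) h2) ≤ K) : ∀ g ∈ K, IsMon g := by
  classical
  have h3 : (3 : F) ≠ 0 := by
    intro h
    have h' : ((3 : ℕ) : F) = 0 := by exact_mod_cast h
    rw [CharP.cast_eq_zero_iff F p] at h'
    exact absurd (Nat.le_of_dvd (by decide) h') (by omega)
  have h4 : MonUpTo K 4 := mon_of_good hK h2 (by omega)
    (good_of_not_all hK hF h2 (by omega) (fun hp => fourCases hK hp hF)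
      fun h => hne (le_of_all_root hK h2 (by omega) h))
  have h5 := monUpTo_succ hK h2 le_rfl (by omega) h4
  refine mon_six_of_axisMon hK h2 h3 hn ?_ hdet
  intro g hg i hi
  obtain ⟨j, hj⟩ := exists_avoid (s := {i}) (by rw [Finset.card_singleton]; omega)
  obtain ⟨T, -, hT, hTi⟩ := exists_fix_axis hK (by simpa using hj) hg hi
  refine IsMon.of_mul_right (isMon_flip T) (h5 _ hT (Finset.univ.erase i)
    (by rw [Finset.card_erase_of_mem (Finset.mem_univ i), Finset.card_univ]; omega) fun l hl => ?_)
  simp at hl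
  subst hl
  exact hTi

end CfsgLib.Geo.Frame
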