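import Cfsg.Agent.Lib.Geo.Frame.Refl
import Cfsg.Agent.Lib.Geo.Frame.Even

/-!
# Six axes: an element conjugating a pair sign change to a signed permutation

Everything is derived from the hypothesis that elements preserving an axis are monomial.
-/

set_option autoImplicit false
set_option maxHeartbeats 1000000

namespace CfsgLib.Geo.Frame

open CfsgLib.Classical CfsgLib.Classical.Quad

variable {F : Type*} [Field F] {ι : Type*} [Fintype ι] [DecidableEq ι] {K : Subgroup (OQ (fQ F ι))}

/-- Elements preserving an axis are monomial. -/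
def AxisMon (K : Subgroup (OQ (fQ F ι))) : Prop :=
  ∀ g ∈ K, ∀ i, (g • (ee i : ι → F) = ee i ∨ g • (ee i : ι → F) = -ee i) → IsMon g

theorem exists_avoid {s : Finset ι} (h : s.card < Fintype.card ι) : ∃ i, i ∉ s := by
  obtain ⟨i, -, hi⟩ := Finset.exists_mem_notMem_of_card_lt_card (s := s) (t := (Finset.univ : Finset ι))
    (by rwa [Finset.card_univ])
  exact ⟨i, hi⟩

theorem flip_smul_zero_off {T : Finset ι} {y : ι → F} (h : ∀ i ∉ T, y i = 0) : flipO (1 : ι → F) T • y = -y :=
  funext fun i => by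
    rw [flipO_apply]
    split_ifs with hi
    · rfl
    · simp [h i hi]

theorem flip_smul_zero_on {T : Finset ι} {y : ι → F} (h : ∀ i ∈ T, y i = 0) : flipO (1 : ι → F) T • y = y :=
  funext fun i => by
    rw [flipO_apply]
    split_ifs with hi
    · simp [h i hi]
    · rfl

theorem pre_neg (h2 : (2 : F) ≠ 0) {x : OQ (fQ F ι)} {T : Finset ι} {y : ι → F}
    (h : (x * flipO (1 : ι → F) T * x⁻¹) • y = -y) : ∀ i ∉ T, (x⁻¹ • y) i = 0 := by
  intro i hi
  rw [mul_smul, mul_smul] at h
  have e : flipO (1 : ι → F) T • x⁻¹ • y = -(x⁻¹ • y) := by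
    rw [← gsmul_neg, ← h, inv_smul_smul]
  have e' := congrFun e i
  rw [flipO_apply, if_neg hi] at e'
  exact (mul_eq_zero.1 (show (2 : F) * (x⁻¹ • y) i = 0 by
    simp only [Pi.neg_apply] at e'; linear_combination e')).resolve_left h2

theorem pre_pos (h2 : (2 : F) ≠ 0) {x : OQ (fQ F ι)} {T : Finset ι} {y : ι → F}
    (h : (x * flipO (1 : ι → F) T * x⁻¹) • y = y) : ∀ i ∈ T, (x⁻¹ • y) i = 0 := by
  intro i hi
  rw [mul_smul, mul_smul] at h
  have e : flipO (1 : ι → F) T • x⁻¹ • y = x⁻¹ • y := by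
    rw [eq_inv_smul_iff, h]
  have e' := congrFun e i
  rw [flipO_apply, if_pos hi] at e'
  exact (mul_eq_zero.1 (show (2 : F) * (x⁻¹ • y) i = 0 by linear_combination -e')).resolve_left h2

theorem two_supp {p q : ι} (hpq : p ≠ q) {z : ι → F} (h : ∀ i, i ≠ p → i ≠ q → z i = 0) :
    z = z p • ee p + z q • ee q := funext fun i => by
  by_cases hp : i = p
  · subst hp; simp [hpq]
  by_cases hq : i = q
  · subst hq; simp [hp]
  simp [hp, hq, h i hp hq]

theorem four_supp {a b c d : ι} (hab : a ≠ b) (hac : a ≠ c) (had : a ≠ d) (hbc : b ≠ c) (hbd : b ≠ d) (hcd : c ≠ d)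
    {z : ι → F} (h : ∀ i, i ≠ a → i ≠ b → i ≠ c → i ≠ d → z i = 0) :
    z = z a • ee a + z b • ee b + z c • ee c + z d • ee d := funext fun i => by
  by_cases ha : i = a
  · subst ha; simp [hab, hac, had]
  by_cases hb : i = b
  · subst hb; simp [ha, hbc, hbd]
  by_cases hc : i = c
  · subst hc; simp [ha, hb, hcd]
  by_cases hd : i = d
  · subst hd; simp [ha, hb, hc]
  simp [ha, hb, hc, hd, h i ha hb hc hd]

theorem dot_two {p q : ι} (hpq : p ≠ q) {z : ι → F} (h : ∀ i, i ≠ p → i ≠ q → z i = 0) (w : ι → F) :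
    z ⬝ᵥ w = z p * w p + z q * w q := by
  conv_lhs => rw [two_supp hpq h]
  simp [add_dotProduct, smul_dotProduct, ee_dot]

theorem flip_pair_apply {p q : ι} (hpq : p ≠ q) (y : ι → F) :
    flipO (1 : ι → F) {p, q} • y = y - (2 * y p) • ee p - (2 * y q) • ee q := funext fun i => by
  rw [flipO_apply]
  by_cases hp : i = p
  · subst hp; simp [hpq]; ring
  by_cases hq : i = q
  · subst hq; simp [hp]; ring
  simp [hp, hq]

theorem conj_flip_pair (h2 : (2 : F) ≠ 0) (x : OQ (fQ F ι)) {p q : ι} (hpq : p ≠ q) (y : ι → F) :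
    (x * flipO (1 : ι → F) {p, q} * x⁻¹) • y =
      y - (2 * (y ⬝ᵥ x • ee p)) • x • ee p - (2 * (y ⬝ᵥ x • ee q)) • x • ee q := by
  rw [mul_smul, mul_smul, flip_pair_apply hpq, gsmul_sub, gsmul_sub, gsmul_smul, gsmul_smul, smul_inv_smul]
  have e : ∀ i, (x⁻¹ • y) i = y ⬝ᵥ x • ee i := fun i => by
    rw [← dot_ee (x⁻¹ • y) i, ← dot_gsmul h2 x (x⁻¹ • y) (ee i), smul_inv_smul]
  rw [e, e]

theorem gsmul_add' (g : OQ (fQ F ι)) (x y : ι → F) : g • (x + y) = g • x + g • y :=
  map_add (g : (ι → F) ≃ₗ[F] (ι → F)) x y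

theorem perm_fix {a b c l : ι} (hab : a ≠ b) (hbc : b ≠ c) (hac : a ≠ c) (h1 : l ≠ a) (h2 : l ≠ b) (h3 : l ≠ c) :
    permO F (Equiv.swap a b * Equiv.swap b c) • (ee l : ι → F) = ee l := by
  rw [permO_ee, (cyc_apply hab hbc hac).2.2.2 l h1 h2 h3]

section

variable (hK : IsFrame K) (h2 : (2 : F) ≠ 0) (hn : Fintype.card ι = 6) (hL : AxisMon K)
include hK h2 hn hL

theorem mon_of_axis_six {g : OQ (fQ F ι)} (hg : g ∈ K) {i : ι} (hax : Axis (g • ee i : ι → F)) : IsMon g := by
  obtain ⟨b, hb⟩ := hax.eq_ee (dot_smul_ee h2 g i)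
  by_cases hbi : b = i
  · subst hbi; exact hL g hg b hb
  obtain ⟨c, hc⟩ := exists_avoid (s := {b, i}) (Finset.card_le_two.trans_lt (by omega))
  simp at hc
  obtain ⟨e1, -, -, -⟩ := cyc_apply hbi (Ne.symm hc.2) (Ne.symm hc.1)
  refine IsMon.of_mul_left (isMon_perm (Equiv.swap b i * Equiv.swap i c))
    (hL _ (mul_mem (hK.cyc hbi (Ne.symm hc.2)) hg) i ?_)
  rw [mul_smul]
  rcases hb with e | e <;> rw [e]
  · left; rw [permO_ee, e1]
  · right; rw [gsmul_neg, permO_ee, e1]

omit hK hn in
theorem mon_conj_fix {x h : OQ (fQ F ι)} (hx : x ∈ K) (hh : h ∈ K) {p : ι}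
    (e : h • x • (ee p : ι → F) = x • ee p) : IsMon (x⁻¹ * h * x) :=
  hL _ (mul_mem (mul_mem (inv_mem hx) hh) hx) p (Or.inl (by rw [mul_smul, mul_smul, e, inv_smul_smul]))

/-- The two negated lines of the image do not contain an axis beside a swapped pair. -/
theorem no_single {x : OQ (fQ F ι)} (hx : x ∈ K) {p q a b c : ι} (hpq : p ≠ q) (hab : a ≠ b) (hca : c ≠ a)
    (hcb : c ≠ b) {ε : F} (hε : ε * ε = 1)
    (hta : (x * flipO (1 : ι → F) {p, q} * x⁻¹) • (ee a : ι → F) = ε • ee b)
    (htb : (x * flipO (1 : ι → F) {p, q} * x⁻¹) • (ee b : ι → F) = ε • ee a)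
    (htc : (x * flipO (1 : ι → F) {p, q} * x⁻¹) • (ee c : ι → F) = -ee c) : False := by
  set t := x * flipO (1 : ι → F) {p, q} * x⁻¹
  set v : ι → F := ee a - ε • ee b with hv
  set vp : ι → F := ee a + ε • ee b with hvp
  have h1 : t • v = -v := by
    rw [hv, gsmul_sub, gsmul_smul, hta, htb, smul_smul, hε, one_smul]; abel
  have h1' : t • vp = vp := by
    rw [hvp, gsmul_add', gsmul_smul, hta, htb, smul_smul, hε, one_smul]; abel
  have hmem : ∀ i, i ∉ ({p, q} : Finset ι) ↔ i ≠ p ∧ i ≠ q := fun i => by simp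
  have zc := pre_neg h2 htc
  have zv := pre_neg h2 h1
  have w0 := pre_pos h2 h1'
  set w := x⁻¹ • vp with hw
  have hwp : w p = 0 := w0 p (by simp)
  have hwq : w q = 0 := w0 q (by simp)
  obtain ⟨i, hi⟩ : ∃ i, w i ≠ 0 := by
    by_contra! hc
    have : vp = 0 := by
      rw [← smul_inv_smul x vp, ← hw, show w = 0 from funext hc, smul_zero]
    have := congrFun this a
    simp [hvp, hab] at this
  have hip : i ≠ p := fun e => hi (e ▸ hwp)
  have hiq : i ≠ q := fun e => hi (e ▸ hwq)
  -- elements fixing the two axes send `w` to itself up to sign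
  have key : ∀ g ∈ K, g • (ee p : ι → F) = ee p → g • (ee q : ι → F) = ee q → g • w = w ∨ g • w = -w := by
    intro g hg gp gq
    have gfix : ∀ z : ι → F, (∀ l ∉ ({p, q} : Finset ι), z l = 0) → g • z = z := fun z hz => by
      rw [two_supp hpq (z := z) (fun l a b => hz l ((hmem l).2 ⟨a, b⟩)), gsmul_add', gsmul_smul, gsmul_smul, gp, gq]
    set m := x * g * x⁻¹ with hm
    have mc : m • (ee c : ι → F) = ee c := by rw [hm, mul_smul, mul_smul, gfix _ zc, smul_inv_smul]
    have mv : m • v = v := by rw [hm, mul_smul, mul_smul, gfix _ zv, smul_inv_smul]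
    have mK : m ∈ K := mul_mem (mul_mem hx hg) (inv_mem hx)
    obtain ⟨ρ, hρ⟩ := hL m mK c (Or.inl mc)
    obtain ⟨η, hη, ea⟩ : ∃ η : F, η * η = 1 ∧ m • (ee a : ι → F) = η • ee (ρ a) := by
      rcases hρ a with e | e
      · exact ⟨1, one_mul _, by rw [e, one_smul]⟩
      · exact ⟨-1, by ring, by rw [e, neg_one_smul]⟩
    obtain ⟨θ, hθ, eb⟩ : ∃ θ : F, θ * θ = 1 ∧ m • (ee b : ι → F) = θ • ee (ρ b) := by
      rcases hρ b with e | e
      · exact ⟨1, one_mul _, by rw [e, one_smul]⟩
      · exact ⟨-1, by ring, by rw [e, neg_one_smul]⟩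
    rw [hv, gsmul_sub, gsmul_smul, ea, eb] at mv
    have hne : ρ a ≠ ρ b := fun e => hab (ρ.injective e)
    have ha1 := congrFun mv (ρ a)
    have hb1 := congrFun mv (ρ b)
    simp [hne, hne.symm] at ha1 hb1
    have hη0 : η ≠ 0 := fun e => by rw [e] at hη; simp at hη
    have hθ0 : ε * θ ≠ 0 := fun e => by
      have : (ε * θ) * (ε * θ) = 1 := by linear_combination (θ * θ) * hε + hθ
      rw [e] at this; simp at this
    have hmp : m • vp = vp ∨ m • vp = -vp := by
      rcases (show ρ a = a ∨ ρ a = b by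
        by_contra hc
        push Not at hc
        simp [hc.1, hc.2] at ha1
        exact hη0 ha1) with e | e <;> rw [e] at ha1 hne ea
      · have hρb : ρ b = b := by
          by_contra hc
          simp [hc, hne.symm] at hb1
          exact hθ0 (by rw [mul_comm]; simpa [mul_comm] using hb1)
        rw [hρb] at hb1 eb
        simp [hab, hab.symm] at ha1 hb1
        left
        rw [hvp, gsmul_add', gsmul_smul, ea, eb, ha1, one_smul, smul_smul]
        congr 1
        rw [show ε * θ = ε by linear_combination hb1]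
      · have hρb : ρ b = a := by
          by_contra hc
          simp [hc, hne.symm] at hb1
          exact hθ0 (by rw [mul_comm]; simpa [mul_comm] using hb1)
        rw [hρb] at hb1 eb
        simp [hab, hab.symm] at ha1 hb1
        right
        rw [hvp, gsmul_add', gsmul_smul, ea, eb, ha1, smul_smul,
          show ε * θ = -1 by linear_combination -hb1]
        module
    have e1 : x⁻¹ • m • vp = g • w := by rw [hm, mul_smul, mul_smul, inv_smul_smul]
    rcases hmp with e | e <;> rw [e] at e1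
    · left; rw [← e1]
    · right; rw [← e1, gsmul_neg]
  obtain ⟨j, hj⟩ := exists_avoid (s := {p, q, i}) (Finset.card_le_three.trans_lt (by omega))
  obtain ⟨k, hk⟩ := exists_avoid (s := {p, q, i, j}) (Finset.card_le_four.trans_lt (by omega))
  simp at hj hk
  obtain ⟨hjp, hjq, hji⟩ := hj
  obtain ⟨hkp, hkq, hki, hkj⟩ := hk
  have flipz : ∀ l, l ≠ p → l ≠ q → l ≠ i → ∀ r, r ≠ i → r ≠ l → w r = 0 := by
    intro l hlp hlq hli r hri hrl
    have gK : flipO (1 : ι → F) {i, l} ∈ K := hK.flip_mem (by rw [Finset.card_pair (Ne.symm hli)]; decide)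
    rcases key _ gK (flipO_ee_notMem (by simp [Ne.symm hip, Ne.symm hlp]))
        (flipO_ee_notMem (by simp [Ne.symm hiq, Ne.symm hlq])) with e | e
    · have := congrFun e i
      rw [flipO_apply, if_pos (by simp)] at this
      exact absurd ((mul_eq_zero.1 (show (2 : F) * w i = 0 by linear_combination -this)).resolve_left h2) hi
    · have := congrFun e r
      rw [flipO_apply, if_neg (by simp [hri, hrl]), Pi.neg_apply] at this
      exact (mul_eq_zero.1 (show (2 : F) * w r = 0 by linear_combination this)).resolve_left h2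
  have hwj : w j = 0 := flipz k hkp hkq hki j hji (Ne.symm hkj)
  have hij : i ≠ j := Ne.symm hji
  have hjk : j ≠ k := Ne.symm hkj
  have hik : i ≠ k := Ne.symm hki
  obtain ⟨c1, -, -, -⟩ := cyc_apply hij hjk hik
  have hval : (permO F (Equiv.swap i j * Equiv.swap j k) • w) j = w i := by
    rw [permO_apply, show (Equiv.swap i j * Equiv.swap j k).symm j = i by rw [Equiv.symm_apply_eq, c1]]
  rcases key _ (hK.cyc hij hjk) (perm_fix hij hjk hik (Ne.symm hip) (Ne.symm hjp) (Ne.symm hkp))
      (perm_fix hij hjk hik (Ne.symm hiq) (Ne.symm hjq) (Ne.symm hkq)) with e | e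
  · exact hi (by rw [← hval, e, hwj])
  · exact hi (by rw [← hval, e, Pi.neg_apply, hwj, neg_zero])

/-- The two negated lines are not two scaled axes. -/
theorem no_root_two (h3 : (3 : F) ≠ 0) {x : OQ (fQ F ι)} (hx : x ∈ K) {p q a b c d : ι} (hab : a ≠ b)
    (hac : a ≠ c) (had : a ≠ d) (hbc : b ≠ c) (hbd : b ≠ d) (hcd : c ≠ d) {ε δ k l : F} (hδ : δ * δ = 1)
    (hl : 2 * (l * l) = 1) (ep : x • (ee p : ι → F) = k • (ee a - ε • ee b))
    (eq : x • (ee q : ι → F) = l • (ee c - δ • ee d)) : False := by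
  obtain ⟨i, hi⟩ := exists_avoid (s := {a, b, c, d}) (Finset.card_le_four.trans_lt (by omega))
  simp at hi
  obtain ⟨hia, hib, hic, hid⟩ := hi
  obtain ⟨c1, c2, -, -⟩ := cyc_apply hcd (Ne.symm hid) (Ne.symm hic)
  set h := permO F (Equiv.swap c d * Equiv.swap d i)
  have ha : h • (ee a : ι → F) = ee a := perm_fix hcd (Ne.symm hid) (Ne.symm hic) hac had (Ne.symm hia)
  have hb : h • (ee b : ι → F) = ee b := perm_fix hcd (Ne.symm hid) (Ne.symm hic) hbc hbd (Ne.symm hib)
  obtain ⟨ρ, hρ⟩ := mon_conj_fix h2 hL hx (hK.cyc hcd (Ne.symm hid)) (h := h) (p := p)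
    (by rw [ep, gsmul_smul, gsmul_sub, gsmul_smul, ha, hb])
  have hdot : ((x⁻¹ * h * x) • ee q : ι → F) q = -(δ * (l * l)) := by
    rw [← dot_ee ((x⁻¹ * h * x) • ee q : ι → F) q, ← dot_gsmul h2 x ((x⁻¹ * h * x) • ee q) (ee q), mul_smul, mul_smul,
      smul_inv_smul, eq, gsmul_smul, gsmul_sub, gsmul_smul, permO_ee, permO_ee, c1, c2]
    simp [smul_dotProduct, dotProduct_smul, sub_dotProduct, dotProduct_sub, hcd, hcd.symm, hic, hid,
      Ne.symm hic, Ne.symm hid]
    ring
  have hcase : -(δ * (l * l)) = 0 ∨ -(δ * (l * l)) = 1 ∨ -(δ * (l * l)) = -1 := by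
    rw [← hdot]
    by_cases hq : q = ρ q
    · rcases hρ q with e | e <;> rw [e, ← hq] <;> simp
    · left; rcases hρ q with e | e <;> simp [e, hq]
  have hk : 4 * ((δ * (l * l)) * (δ * (l * l))) = 1 := by
    linear_combination (2 * (l * l) + 1) * hl + 4 * (l * l) * (l * l) * hδ
  rcases hcase with e | e | e
  · rw [neg_eq_zero.1 e] at hk; simp at hk
  · rw [show δ * (l * l) = -1 by linear_combination -e] at hk
    exact h3 (by linear_combination hk)
  · rw [show δ * (l * l) = 1 by linear_combination -e] at hk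
    exact h3 (by linear_combination hk)

/-- The shape of an element carrying a pair sign change to a signed permutation with a swap. -/
theorem half_of_conj (h3 : (3 : F) ≠ 0) {x : OQ (fQ F ι)} (hx : x ∈ K) {p q : ι} (hpq : p ≠ q) {π : Equiv.Perm ι}
    (hπ : MonBy (x * flipO (1 : ι → F) {p, q} * x⁻¹) π) (hπ1 : π ≠ 1)
    (hf : ∀ a, π a ≠ a → IsMon (x⁻¹ * flipO (1 : ι → F) {a, π a} * x)) :
    ∃ a b c d : ι, (a ≠ b ∧ a ≠ c ∧ a ≠ d ∧ b ≠ c ∧ b ≠ d ∧ c ≠ d) ∧
      (∀ i, i ≠ a → i ≠ b → i ≠ c → i ≠ d → (x • ee p : ι → F) i = 0) ∧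
      (∀ i ∈ ({a, b, c, d} : Finset ι), 2 * (x • ee p : ι → F) i * (2 * (x • ee p : ι → F) i) = 1) ∧
      (x • (ee q : ι → F) = flipO (1 : ι → F) {c, d} • x • ee p ∨
        x • (ee q : ι → F) = -(flipO (1 : ι → F) {c, d} • x • ee p)) := by
  classical
  set t := x * flipO (1 : ι → F) {p, q} * x⁻¹ with ht
  have htt : t * t = 1 := by
    rw [ht, show x * flipO (1 : ι → F) {p, q} * x⁻¹ * (x * flipO (1 : ι → F) {p, q} * x⁻¹) =
      x * (flipO (1 : ι → F) {p, q} * flipO (1 : ι → F) {p, q}) * x⁻¹ by group, flipO_sq]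
    group
  have hπ2 : ∀ i, π (π i) = i := fun i => by
    have := hπ.mul hπ
    rw [htt] at this
    rw [← Equiv.Perm.mul_apply, this.unique monBy_one]; rfl
  have pair : ∀ a, π a ≠ a → ∃ ε : F, ε * ε = 1 ∧ t • (ee a : ι → F) = ε • ee (π a) ∧
      t • (ee (π a) : ι → F) = ε • ee a := by
    intro a _
    obtain ⟨ε, hε, e⟩ : ∃ ε : F, ε * ε = 1 ∧ t • (ee a : ι → F) = ε • ee (π a) := by
      rcases hπ a with e | e
      · exact ⟨1, one_mul _, by rw [e, one_smul]⟩
      · exact ⟨-1, by ring, by rw [e, neg_one_smul]⟩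
    refine ⟨ε, hε, e, ?_⟩
    have e' := congrArg (t • ·) e
    simp only [← mul_smul, htt, one_smul, gsmul_smul] at e'
    rw [e', smul_smul, hε, one_smul]
  obtain ⟨a, ha⟩ : ∃ a, π a ≠ a := by by_contra! h; exact hπ1 (Equiv.ext h)
  obtain ⟨ε, hε, hta, htb⟩ := pair a ha
  set b := π a with hb
  have hab : a ≠ b := Ne.symm ha
  by_cases hS : ∃ c, c ≠ a ∧ c ≠ b ∧ t • (ee c : ι → F) = -ee c
  · obtain ⟨c, hca, hcb, htc⟩ := hS
    exact (no_single hK h2 hn hL hx hpq hab hca hcb hε hta htb htc).elim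
  push Not at hS
  obtain ⟨c, hca, hcb, hc⟩ : ∃ c, c ≠ a ∧ c ≠ b ∧ π c ≠ c := by
    by_contra! hc
    have neg : ∀ r ∈ ({p, q} : Finset ι), t • x • (ee r : ι → F) = -(x • ee r) := fun r hr => by
      rw [ht, mul_smul, mul_smul, inv_smul_smul, flipO_ee_mem hr, gsmul_neg]
    have key : ∀ y : ι → F, t • y = -y → (∀ i, i ≠ a → i ≠ b → y i = 0) ∧ y a = -(ε * y b) := by
      intro y hy
      have d : ∀ i, (-y) ⬝ᵥ t • ee i = y i := fun i => by rw [← hy, dot_gsmul h2, dot_ee]
      refine ⟨fun i hia hib => ?_, ?_⟩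
      · have hi : t • (ee i : ι → F) = ee i := by
          have hii := hc i hia hib
          rcases hπ i with e | e <;> rw [hii] at e
          · exact e
          · exact absurd e (hS i hia hib)
        have := d i
        rw [hi, dot_ee, Pi.neg_apply] at this
        exact (mul_eq_zero.1 (show (2 : F) * y i = 0 by linear_combination -this)).resolve_left h2
      · have := d a
        rw [hta, dotProduct_smul, dot_ee, Pi.neg_apply, smul_eq_mul] at this
        linear_combination -this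
    obtain ⟨z1, e1⟩ := key _ (neg p (by simp))
    obtain ⟨z2, e2⟩ := key _ (neg q (by simp))
    have d1 : ∀ r r' : ι, (x • ee r : ι → F) ⬝ᵥ x • ee r' = (ee r : ι → F) r' := fun r r' => by
      rw [dot_gsmul h2, dot_ee]
    have p1 := d1 p p
    have q1 := d1 q q
    have p2 := d1 p q
    rw [dot_two hab z1, e1] at p1
    rw [dot_two hab z2, e2] at q1
    rw [dot_two hab z1, e1, e2, ee_ne hpq.symm] at p2
    rw [ee_self] at p1 q1
    set Y := (x • ee p : ι → F) b
    set Z := (x • ee q : ι → F) b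
    have h0 : Y * Z = 0 := (mul_eq_zero.1 (show (2 : F) * (Y * Z) = 0 by
      linear_combination p2 - Y * Z * hε)).resolve_left h2
    rcases mul_eq_zero.1 h0 with h | h
    · rw [h] at p1; simp at p1
    · rw [h] at q1; simp at q1
  obtain ⟨δ, hδ, htc, htd⟩ := pair c hc
  set d := π c with hd
  have hcd : c ≠ d := Ne.symm hc
  have hac : a ≠ c := Ne.symm hca
  have hbc : b ≠ c := Ne.symm hcb
  have had : a ≠ d := fun e => hbc (by rw [hb, e, hd, hπ2])
  have hbd : b ≠ d := fun e => hac (π.injective (by rw [← hb, e]))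
  set v1 : ι → F := ee a - ε • ee b with hv1
  set v2 : ι → F := ee c - δ • ee d with hv2
  have n1 : t • v1 = -v1 := by rw [hv1, gsmul_sub, gsmul_smul, hta, htb, smul_smul, hε, one_smul]; abel
  have n2 : t • v2 = -v2 := by rw [hv2, gsmul_sub, gsmul_smul, htc, htd, smul_smul, hδ, one_smul]; abel
  set z1 := x⁻¹ • v1 with hz1
  set z2 := x⁻¹ • v2 with hz2
  have s1 : ∀ i, i ≠ p → i ≠ q → z1 i = 0 := fun i hp hq => pre_neg h2 n1 i (by simp [hp, hq])
  have s2 : ∀ i, i ≠ p → i ≠ q → z2 i = 0 := fun i hp hq => pre_neg h2 n2 i (by simp [hp, hq])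
  have g11 : z1 ⬝ᵥ z1 = 2 := by
    rw [hz1, dot_gsmul h2, hv1]
    simp [sub_dotProduct, dotProduct_sub, smul_dotProduct, dotProduct_smul, hab, hab.symm]
    linear_combination hε
  have g22 : z2 ⬝ᵥ z2 = 2 := by
    rw [hz2, dot_gsmul h2, hv2]
    simp [sub_dotProduct, dotProduct_sub, smul_dotProduct, dotProduct_smul, hcd, hcd.symm]
    linear_combination hδ
  have g12 : z1 ⬝ᵥ z2 = 0 := by
    rw [hz1, hz2, dot_gsmul h2, hv1, hv2]
    simp [sub_dotProduct, dotProduct_sub, smul_dotProduct, dotProduct_smul, hac, had, hbc, hbd, hac.symm, had.symm,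
      hbc.symm, hbd.symm]
  rw [dot_two hpq s1] at g11 g12
  rw [dot_two hpq s2] at g22
  set s := z1 p
  set u := z1 q
  set s' := z2 p
  set u' := z2 q
  have hss : s * s + s' * s' = 2 := mul_left_cancel₀ h2 (by
    linear_combination (s * s' - u * u') * g12 + (2 - s' * s') * g11 + (u * u) * g22)
  have huu : u * u + u' * u' = 2 := by linear_combination g11 + g22 - hss
  have hsu : s * u + s' * u' = 0 := mul_self_eq_zero.1 (by
    linear_combination (s * s) * g11 + (s' * s') * g22 + (2 * (s * s') * g12) - (s * s + s' * s') * hss)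
  have lin : ∀ r, r = p ∨ r = q → (2 : F) • x • (ee r : ι → F) = z1 r • v1 + z2 r • v2 := by
    intro r hr
    have e : z1 r • z1 + z2 r • z2 = (2 : F) • ee r := funext fun i => by
      by_cases hp : i = p
      · subst hp
        rcases hr with rfl | rfl <;> simp [hpq, hpq.symm]
        · exact hss
        · linear_combination hsu
      by_cases hq : i = q
      · subst hq
        rcases hr with rfl | rfl <;> simp [hpq, hpq.symm]
        · linear_combination hsu
        · exact huu
      rcases hr with rfl | rfl <;> simp [s1 i hp hq, s2 i hp hq, hp, hq]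
    have e' := congrArg (x • ·) e
    simp only [gsmul_add', gsmul_smul, hz1, hz2, smul_inv_smul] at e'
    exact e'.symm
  have half : ∀ r (v : ι → F) (k : F), (2 : F) • x • (ee r : ι → F) = k • v →
      x • (ee r : ι → F) = (k * 2⁻¹) • v := fun r v k e => by
    rw [mul_comm, ← smul_smul, ← e, smul_smul, inv_mul_cancel₀ h2, one_smul]
  by_cases hu0 : u = 0
  · exfalso
    have hs : s * s = 2 := by rw [hu0] at g11; linear_combination g11
    have hs' : s' = 0 := by
      rw [hu0, zero_mul, add_zero] at g12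
      exact (mul_eq_zero.1 g12).resolve_left fun e => by rw [e, mul_zero] at hs; exact h2 hs.symm
    refine no_root_two hK h2 hn hL h3 hx hab hac had hbc hbd hcd hδ (k := s * 2⁻¹) (l := u' * 2⁻¹) (p := p) (q := q)
      (ε := ε) ?_ (half _ _ _ ?_) (half _ _ _ ?_)
    · rw [hu0] at huu; field_simp; linear_combination huu
    · rw [lin p (Or.inl rfl)]; show s • v1 + s' • v2 = _; rw [hs', zero_smul, add_zero]
    · rw [lin q (Or.inr rfl)]; show u • v1 + u' • v2 = _; rw [hu0, zero_smul, zero_add]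
  by_cases hs0 : s = 0
  · exfalso
    have hu : u * u = 2 := by rw [hs0] at g11; linear_combination g11
    have hu' : u' = 0 := by
      rw [hs0, zero_mul, zero_add] at g12
      exact (mul_eq_zero.1 g12).resolve_left hu0
    refine no_root_two hK h2 hn hL h3 hx hab hac had hbc hbd hcd hδ (k := u * 2⁻¹) (l := s' * 2⁻¹) (p := q) (q := p)
      (ε := ε) ?_ (half _ _ _ ?_) (half _ _ _ ?_)
    · rw [hs0] at hss; field_simp; linear_combination hss
    · rw [lin q (Or.inr rfl)]; show u • v1 + u' • v2 = _; rw [hu', zero_smul, add_zero]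
    · rw [lin p (Or.inl rfl)]; show s • v1 + s' • v2 = _; rw [hs0, zero_smul, zero_add]
  -- the monomial image of the sign change on the swapped pair
  obtain ⟨ρ, hρ⟩ := hf a ha
  set m := x⁻¹ * flipO (1 : ι → F) {a, b} * x with hm
  have m1 : m • z1 = -z1 := by
    have : flipO (1 : ι → F) {a, b} • v1 = -v1 := by
      rw [hv1, gsmul_sub, gsmul_smul, flipO_ee_mem (by simp), flipO_ee_mem (by simp)]; module
    rw [hm, mul_smul, mul_smul, hz1, smul_inv_smul, this, gsmul_neg]
  have m2 : m • z2 = z2 := by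
    have : flipO (1 : ι → F) {a, b} • v2 = v2 := by
      rw [hv2, gsmul_sub, gsmul_smul, flipO_ee_notMem (by simp [hca, hcb]),
        flipO_ee_notMem (by simp [had.symm, hbd.symm])]
    rw [hm, mul_smul, mul_smul, hz2, smul_inv_smul, this]
  obtain ⟨η, hη, ep⟩ : ∃ η : F, η * η = 1 ∧ m • (ee p : ι → F) = η • ee (ρ p) := by
    rcases hρ p with e | e
    · exact ⟨1, one_mul _, by rw [e, one_smul]⟩
    · exact ⟨-1, by ring, by rw [e, neg_one_smul]⟩
  have k1 : -(η * z1 (ρ p)) = s := by
    have := dot_gsmul h2 m z1 (ee p)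
    rw [m1, ep, dot_ee, dotProduct_smul, dot_ee, smul_eq_mul, Pi.neg_apply] at this
    linear_combination this
  have k2 : η * z2 (ρ p) = s' := by
    have := dot_gsmul h2 m z2 (ee p)
    rwa [m2, ep, dot_ee, dotProduct_smul, dot_ee, smul_eq_mul] at this
  have hρp : ρ p = q := by
    by_contra hne
    by_cases hpp : ρ p = p
    · rw [hpp] at k1 k2
      have hη1 : η = -1 := mul_right_cancel₀ hs0 (by linear_combination -k1)
      have hs' : s' = 0 := (mul_eq_zero.1 (show (2 : F) * s' = 0 by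
        rw [hη1] at k2; linear_combination -k2)).resolve_left h2
      have hu' : u' = 0 := by
        rw [hs', mul_zero, zero_add] at g12
        exact (mul_eq_zero.1 g12).resolve_left hu0
      rw [hs', hu'] at g22
      exact h2 (by linear_combination -g22)
    · rw [s1 _ hpp hne, mul_zero, neg_zero] at k1
      exact hs0 k1.symm
  rw [hρp] at k1 k2
  have hs1 : s * s = 1 := mul_left_cancel₀ h2 (by linear_combination g11 - (s - η * u) * k1 + u * u * hη)
  have hu1 : u * u = 1 := by linear_combination g11 - hs1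
  have hs'1 : s' * s' = 1 := by linear_combination hss - hs1
  have xp := half p (s • v1 + s' • v2) 1 (by rw [one_smul]; exact lin p (Or.inl rfl))
  have xq := half q (u • v1 + u' • v2) 1 (by rw [one_smul]; exact lin q (Or.inr rfl))
  rw [one_mul] at xp xq
  refine ⟨a, b, c, d, ⟨hab, hac, had, hbc, hbd, hcd⟩, fun i ia ib ic id => ?_, fun i hi => ?_, ?_⟩
  · rw [xp]; simp [hv1, hv2, ia, ib, ic, id]
  · rw [xp]
    simp only [Finset.mem_insert, Finset.mem_singleton] at hi
    rcases hi with rfl | rfl | rfl | rfl <;>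
      simp [hv1, hv2, hab, hac, had, hbc, hbd, hcd, hab.symm, hac.symm, had.symm, hbc.symm, hbd.symm, hcd.symm] <;>
      field_simp
    · linear_combination hs1
    · linear_combination (s * s) * hε + hs1
    · linear_combination hs'1
    · linear_combination (s' * s') * hδ + hs'1
  -- the second vector
  have hflip : flipO (1 : ι → F) {c, d} • (x • ee p : ι → F) = (2 : F)⁻¹ • (s • v1 - s' • v2) := by
    rw [xp]
    show flipO (1 : ι → F) {c, d} • (2 : F)⁻¹ • (s • v1 + s' • v2) = _
    rw [gsmul_smul, gsmul_add', gsmul_smul, gsmul_smul, hv1, hv2, gsmul_sub, gsmul_sub, gsmul_smul, gsmul_smul,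
      flipO_ee_notMem (by simp [hac, had]), flipO_ee_notMem (by simp [hbc, hbd]), flipO_ee_mem (by simp),
      flipO_ee_mem (by simp)]
    module
  rw [xq, hflip]
  show (2 : F)⁻¹ • (u • v1 + u' • v2) = _ ∨ _
  have hs'0 : s' ≠ 0 := fun e => by rw [e] at hs'1; simp at hs'1
  rcases mul_self_eq_one_iff.1 (show (s * u) * (s * u) = 1 by linear_combination (u * u) * hs1 + hu1) with e | e
  · left
    have eu : u = s := by linear_combination s * e - u * hs1
    have eu' : u' = -s' := mul_left_cancel₀ hs'0 (by linear_combination hsu - e + hs'1)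
    rw [eu, eu']; module
  · right
    have eu : u = -s := by linear_combination s * e - u * hs1
    have eu' : u' = s' := mul_left_cancel₀ hs'0 (by linear_combination hsu - e - hs'1)
    rw [eu, eu']; module

end

end CfsgLib.Geo.Frame
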