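import Cfsg.Agent.Lib.Geo.Frame.SixFusion
import Cfsg.Agent.Lib.Geo.Frame.Roots

/-!
# Six axes: a group containing the even monomial elements in which axis stabilisers are monomial

If moreover all its elements have determinant one then it is monomial.
-/

set_option autoImplicit false
set_option maxHeartbeats 1000000

namespace CfsgLib.Geo.Frame

open CfsgLib.Classical CfsgLib.Classical.Quad

variable {F : Type*} [Field F] {ι : Type*} [Fintype ι] [DecidableEq ι] {K : Subgroup (OQ (fQ F ι))}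

/-- The determinant. -/
noncomputable def dO : OQ (fQ F ι) →* Fˣ := LinearEquiv.det.comp (Subgroup.subtype _)

theorem dO_val (g : OQ (fQ F ι)) :
    (dO g : F) = LinearMap.det ((g : (ι → F) ≃ₗ[F] (ι → F)) : (ι → F) →ₗ[F] (ι → F)) := by
  rw [dO, MonoidHom.comp_apply, LinearEquiv.coe_det]; rfl

theorem dO_refl {v : ι → F} (hv : fQ F ι v ≠ 0) : dO (Quad.refl hv) = -1 :=
  Units.ext (by rw [dO_val, Units.val_neg, Units.val_one]; exact Quad.det_refl hv)

theorem dO_single (i : ι) : dO (flipO (1 : ι → F) {i}) = -1 := by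
  rw [← reflU_ee, reflU_eq (by rw [dot_ee, ee_self]), dO_refl]

theorem dO_flip (T : Finset ι) : dO (flipO (1 : ι → F) T) = (-1) ^ T.card := by
  induction T using Finset.induction with
  | empty => rw [flipO_empty, map_one, Finset.card_empty, pow_zero]
  | insert a T ha ih =>
    have e : flipO (1 : ι → F) (insert a T) = flipO (1 : ι → F) {a} * flipO (1 : ι → F) T := by
      rw [flipO_mul]
      congr 1
      ext l
      by_cases hl : l = a <;> simp [Finset.mem_symmDiff, hl, ha]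
    rw [e, map_mul, dO_single, ih, Finset.card_insert_of_notMem ha, pow_succ']

theorem dO_swap (h2 : (2 : F) ≠ 0) {a b : ι} (hab : a ≠ b) : dO (permO F (Equiv.swap a b)) = -1 := by
  set v : ι → F := ee a - ee b with hv
  have hvv : fQ F ι v = 2 := by
    rw [fQ_apply, hv]; simp [sub_dotProduct, dotProduct_sub, hab, hab.symm]; ring
  have hv0 : fQ F ι v ≠ 0 := by rw [hvv]; exact h2
  have e : permO F (Equiv.swap a b) = Quad.refl hv0 := eq_of_smul fun y => funext fun i => by
    show (permO F (Equiv.swap a b) • y) i = ((Quad.refl hv0 : (ι → F) ≃ₗ[F] (ι → F)) y) i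
    rw [refl_apply, permO_apply, Equiv.symm_swap, polar_fQ, hvv, inv_mul_cancel_left₀ h2, hv]
    rcases eq_or_ne i a with rfl | hia
    · simp [dotProduct_sub, hab]
    rcases eq_or_ne i b with rfl | hib
    · simp [dotProduct_sub, hia]
    · simp [Equiv.swap_apply_of_ne_of_ne hia hib, hia, hib]
  rw [e, dO_refl]

theorem neg_one_units_ne (h2 : (2 : F) ≠ 0) : (-1 : Fˣ) ≠ 1 := fun e => h2 (by
  have := congrArg Units.val e
  simp only [Units.val_neg, Units.val_one] at this
  linear_combination -this)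

/-- A set kept by an involution without fixed points in it has even size. -/
theorem even_card_of_involution {π : Equiv.Perm ι} {T : Finset ι} (hinv : ∀ i, π (π i) = i)
    (hT : ∀ i ∈ T, π i ∈ T) (hfp : ∀ i ∈ T, π i ≠ i) : Even T.card := by
  have h : (∑ _i ∈ T, (1 : ZMod 2)) = 0 :=
    Finset.sum_involution (fun i _ => π i) (fun _ _ => by decide) (fun i hi _ => hfp i hi) (fun i hi => hT i hi)
      (fun i _ => hinv i)
  rw [Finset.sum_const, nsmul_one] at h
  exact (ZMod.natCast_eq_zero_iff_even).1 h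

theorem compl_conj (g : OQ (fQ F ι)) {T T' : Finset ι}
    (h : g * flipO (1 : ι → F) T * g⁻¹ = flipO (1 : ι → F) T') :
    g * flipO (1 : ι → F) Tᶜ * g⁻¹ = flipO (1 : ι → F) T'ᶜ := by
  have e : ∀ S : Finset ι, flipO (1 : ι → F) Sᶜ = flipO (1 : ι → F) Finset.univ * flipO (1 : ι → F) S := fun S => by
    rw [flipO_mul]
    congr 1
    ext l
    simp [Finset.mem_symmDiff]
  rw [e T, e T', show g * (flipO (1 : ι → F) Finset.univ * flipO (1 : ι → F) T) * g⁻¹ =
    g * flipO (1 : ι → F) Finset.univ * g⁻¹ * (g * flipO (1 : ι → F) T * g⁻¹) by group, h,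
    (commute_univ g).eq, mul_inv_cancel_right]

theorem flip_four_apply {p q r s : ι} (hpq : p ≠ q) (hpr : p ≠ r) (hps : p ≠ s) (hqr : q ≠ r) (hqs : q ≠ s)
    (hrs : r ≠ s) (y : ι → F) : flipO (1 : ι → F) {p, q, r, s} • y =
      y - (2 * y p) • ee p - (2 * y q) • ee q - (2 * y r) • ee r - (2 * y s) • ee s := funext fun i => by
  rw [flipO_apply]
  by_cases hp : i = p
  · subst hp; simp [hpq, hpr, hps]; ring
  by_cases hq : i = q
  · subst hq; simp [hp, hqr, hqs]; ring
  by_cases hr : i = r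
  · subst hr; simp [hp, hq, hrs]; ring
  by_cases hs : i = s
  · subst hs; simp [hp, hq, hr]; ring
  simp [hp, hq, hr, hs]

section

variable (hK : IsFrame K) (h2 : (2 : F) ≠ 0) (h3 : (3 : F) ≠ 0) (hn : Fintype.card ι = 6) (hL : AxisMon K)
include hK h2 h3 hn hL

/-- An element carrying two axes to half vectors carries a four-axis sign change to one. -/
theorem half_flip {x : OQ (fQ F ι)} (hx : x ∈ K) {p q a b c d : ι} (hab : a ≠ b) (hac : a ≠ c) (had : a ≠ d)
    (hbc : b ≠ c) (hbd : b ≠ d) (hcd : c ≠ d)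
    (hz : ∀ i, i ≠ a → i ≠ b → i ≠ c → i ≠ d → (x • ee p : ι → F) i = 0)
    (hsq : ∀ i ∈ ({a, b, c, d} : Finset ι), 2 * (x • ee p : ι → F) i * (2 * (x • ee p : ι → F) i) = 1)
    (hq : x • (ee q : ι → F) = flipO (1 : ι → F) {c, d} • x • ee p ∨
      x • (ee q : ι → F) = -(flipO (1 : ι → F) {c, d} • x • ee p)) :
    ∃ S : Finset ι, S.card = 4 ∧ x * flipO (1 : ι → F) S * x⁻¹ = flipO (1 : ι → F) {a, b, c, d} := by
  classical
  set u : ι → F := x • ee p with hu
  have sa := hsq a (by simp)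
  have sb := hsq b (by simp)
  have sc := hsq c (by simp)
  have sd := hsq d (by simp)
  set D : Finset ι := Finset.univ.filter fun i => 2 * u i = -1 with hD
  set π : Equiv.Perm ι := Equiv.swap b c * Equiv.swap c d with hπ
  set h := flipO (1 : ι → F) D * permO F π * flipO (1 : ι → F) D with hh
  have hhK : h ∈ K := by
    have e : h = flipO (1 : ι → F) (symmDiff D (D.image π)) * permO F π := by
      rw [hh, ← flipO_mul, ← (monBy_perm π).conj_flip]; group
    rw [e]
    refine mul_mem (hK.flip_mem ?_) (hK.cyc hbc hcd)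
    rw [symmDiff_def, Finset.sup_eq_union, Finset.card_union_of_disjoint disjoint_sdiff_sdiff]
    have e1 := Finset.card_sdiff_add_card_inter D (D.image π)
    have e2 := Finset.card_sdiff_add_card_inter (D.image π) D
    rw [Finset.inter_comm] at e2
    rw [Finset.card_image_of_injective _ π.injective] at e2
    exact ⟨(D \ D.image π).card, by omega⟩
  obtain ⟨c1, c2, c3, cfix⟩ := cyc_apply hbc hcd hbd
  have hDsm : ∀ i ∈ ({a, b, c, d} : Finset ι), flipO (1 : ι → F) D • (ee i : ι → F) = (2 * u i) • ee i := by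
    intro i hi
    by_cases hiD : i ∈ D
    · have e : 2 * u i = -1 := (Finset.mem_filter.1 hiD).2
      rw [flipO_ee_mem hiD, e, neg_one_smul]
    · have e : 2 * u i = 1 := (mul_self_eq_one_iff.1 (hsq i hi)).resolve_right fun e => hiD (by simp [hD, e])
      rw [flipO_ee_notMem hiD, e, one_smul]
  have hstep : ∀ i ∈ ({a, b, c, d} : Finset ι), π i ∈ ({a, b, c, d} : Finset ι) →
      h • (ee i : ι → F) = (2 * u i * (2 * u (π i))) • ee (π i) := by
    intro i hi hj
    rw [hh, mul_smul, mul_smul, hDsm i hi, gsmul_smul, gsmul_smul, permO_ee, hDsm _ hj, smul_smul]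
  have πa : π a = a := cfix a hab hac had
  have ha : h • (ee a : ι → F) = ee a := by
    rw [hstep a (by simp) (by rw [πa]; simp), πa, sa, one_smul]
  have hb : h • (ee b : ι → F) = (2 * u b * (2 * u c)) • ee c := by rw [hstep b (by simp) (by rw [c1]; simp), c1]
  have hc : h • (ee c : ι → F) = (2 * u c * (2 * u d)) • ee d := by rw [hstep c (by simp) (by rw [c2]; simp), c2]
  have hd : h • (ee d : ι → F) = (2 * u d * (2 * u b)) • ee b := by rw [hstep d (by simp) (by rw [c3]; simp), c3]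
  have hcomb : ∀ ka kb kc kd : F, h • (ka • ee a + kb • ee b + kc • ee c + kd • ee d : ι → F) =
      ka • ee a + (kd * (2 * u d * (2 * u b))) • ee b + (kb * (2 * u b * (2 * u c))) • ee c +
        (kc * (2 * u c * (2 * u d))) • ee d := by
    intro ka kb kc kd
    rw [gsmul_add', gsmul_add', gsmul_add', gsmul_smul, gsmul_smul, gsmul_smul, gsmul_smul, ha, hb, hc, hd,
      smul_smul, smul_smul, smul_smul]
    abel
  have hu4 : u = u a • ee a + u b • ee b + u c • ee c + u d • ee d := four_supp hab hac had hbc hbd hcd hz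
  have hfix : h • u = u := by
    nth_rewrite 1 [hu4]
    rw [hcomb]
    conv_rhs => rw [hu4]
    rw [show u d * (2 * u d * (2 * u b)) = u b by linear_combination (u b) * sd,
      show u b * (2 * u b * (2 * u c)) = u c by linear_combination (u c) * sb,
      show u c * (2 * u c * (2 * u d)) = u d by linear_combination (u d) * sc]
  set u2 : ι → F := u a • ee a + u b • ee b + (-u c) • ee c + (-u d) • ee d with hu2
  set w1 : ι → F := u a • ee a + (-u b) • ee b + u c • ee c + (-u d) • ee d with hw1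
  set w2 : ι → F := u a • ee a + (-u b) • ee b + (-u c) • ee c + u d • ee d with hw2
  have hflip : flipO (1 : ι → F) {c, d} • u = u2 := by
    conv_lhs => rw [hu4]
    rw [gsmul_add', gsmul_add', gsmul_add', gsmul_smul, gsmul_smul, gsmul_smul, gsmul_smul,
      flipO_ee_notMem (by simp [hac, had]), flipO_ee_notMem (by simp [hbc, hbd]), flipO_ee_mem (by simp),
      flipO_ee_mem (by simp), hu2]
    module
  have h1 : h • u2 = w1 := by
    rw [hu2, hcomb, hw1, show -u d * (2 * u d * (2 * u b)) = -u b by linear_combination (-u b) * sd,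
      show u b * (2 * u b * (2 * u c)) = u c by linear_combination (u c) * sb,
      show -u c * (2 * u c * (2 * u d)) = -u d by linear_combination (-u d) * sc]
  have h2' : h • w1 = w2 := by
    rw [hw1, hcomb, hw2, show -u d * (2 * u d * (2 * u b)) = -u b by linear_combination (-u b) * sd,
      show -u b * (2 * u b * (2 * u c)) = -u c by linear_combination (-u c) * sb,
      show u c * (2 * u c * (2 * u d)) = u d by linear_combination (u d) * sc]
  obtain ⟨ρ, hρ⟩ := mon_conj_fix h2 hL hx hhK (h := h) (p := p) hfix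
  set m := x⁻¹ * h * x with hm
  have img : ∀ r, x • m • (ee r : ι → F) = h • x • ee r := fun r => by rw [hm, mul_smul, mul_smul, smul_inv_smul]
  rw [hflip] at hq
  obtain ⟨r0, hr0⟩ : ∃ r0, x • (ee r0 : ι → F) = w1 ∨ x • (ee r0 : ι → F) = -w1 := by
    refine ⟨ρ q, ?_⟩
    have := img q
    rcases hρ q with e | e <;> rcases hq with e' | e' <;> rw [e, e'] at this <;>
      simp only [gsmul_neg, h1, neg_inj] at this <;> first
        | exact Or.inl this
        | exact Or.inr this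
        | exact Or.inl (neg_eq_iff_eq_neg.1 this |>.trans (neg_neg _))
        | exact Or.inr (neg_eq_iff_eq_neg.1 this)
  obtain ⟨r1, hr1⟩ : ∃ r1, x • (ee r1 : ι → F) = w2 ∨ x • (ee r1 : ι → F) = -w2 := by
    refine ⟨ρ r0, ?_⟩
    have := img r0
    rcases hρ r0 with e | e <;> rcases hr0 with e' | e' <;> rw [e, e'] at this <;>
      simp only [gsmul_neg, h2', neg_inj] at this <;> first
        | exact Or.inl this
        | exact Or.inr this
        | exact Or.inl (neg_eq_iff_eq_neg.1 this |>.trans (neg_neg _))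
        | exact Or.inr (neg_eq_iff_eq_neg.1 this)
  -- the four axes are distinct
  have dvals : u ⬝ᵥ u2 = 0 ∧ u ⬝ᵥ w1 = 0 ∧ u ⬝ᵥ w2 = 0 ∧ u2 ⬝ᵥ w1 = 0 ∧ u2 ⬝ᵥ w2 = 0 ∧ w1 ⬝ᵥ w2 = 0 := by
    have qa : u a * u a = (2 : F)⁻¹ * (2 : F)⁻¹ := by field_simp; linear_combination sa
    have qb : u b * u b = (2 : F)⁻¹ * (2 : F)⁻¹ := by field_simp; linear_combination sb
    have qc : u c * u c = (2 : F)⁻¹ * (2 : F)⁻¹ := by field_simp; linear_combination sc
    have qd : u d * u d = (2 : F)⁻¹ * (2 : F)⁻¹ := by field_simp; linear_combination sd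
    rw [hu2, hw1, hw2]
    refine ⟨?_, ?_, ?_, ?_, ?_, ?_⟩ <;> (try nth_rewrite 1 [hu4]) <;>
      simp [add_dotProduct, dotProduct_add, hab, hac, had, hbc, hbd, hcd, hab.symm, hac.symm,
        had.symm, hbc.symm, hbd.symm, hcd.symm, qa, qb, qc, qd]
  obtain ⟨d1, d2, d3, d4, d5, d6⟩ := dvals
  have dist : ∀ {r r' : ι} {v v' : ι → F}, (x • (ee r : ι → F) = v ∨ x • (ee r : ι → F) = -v) →
      (x • (ee r' : ι → F) = v' ∨ x • (ee r' : ι → F) = -v') → v ⬝ᵥ v' = 0 → r ≠ r' := by
    intro r r' v v' e e' d e0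
    subst e0
    have h1 := dot_smul_ee h2 x r
    rcases e with e | e <;> rcases e' with e' | e' <;> nth_rewrite 1 [e] at h1 <;> rw [e'] at h1 <;>
      simp [d] at h1
  have hp' : x • (ee p : ι → F) = u ∨ x • (ee p : ι → F) = -u := Or.inl rfl
  have npq := dist hp' hq d1
  have npr := dist hp' hr0 d2
  have nps := dist hp' hr1 d3
  have nqr := dist hq hr0 d4
  have nqs := dist hq hr1 d5
  have nrs := dist hr0 hr1 d6
  refine ⟨{p, q, r0, r1}, by simp [npq, npr, nps, nqr, nqs, nrs], eq_of_smul fun y => ?_⟩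
  have coef : ∀ i, (x⁻¹ • y) i = y ⬝ᵥ x • ee i := fun i => by
    rw [← dot_ee (x⁻¹ • y) i, ← dot_gsmul h2 x (x⁻¹ • y) (ee i), smul_inv_smul]
  have even : ∀ {r : ι} {v : ι → F}, (x • (ee r : ι → F) = v ∨ x • (ee r : ι → F) = -v) →
      (2 * (y ⬝ᵥ x • ee r)) • x • (ee r : ι → F) = (2 * (y ⬝ᵥ v)) • v := by
    intro r v e
    rcases e with e | e <;> rw [e]
    rw [dotProduct_neg]; module
  rw [mul_smul, mul_smul, flip_four_apply npq npr nps nqr nqs nrs, gsmul_sub, gsmul_sub, gsmul_sub, gsmul_sub,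
    gsmul_smul, gsmul_smul, gsmul_smul, gsmul_smul, smul_inv_smul, coef, coef, coef, coef, even hp', even hq,
    even hr0, even hr1, flip_four_apply hab hac had hbc hbd hcd, hu2, hw1, hw2]
  have du : y ⬝ᵥ u = u a * y a + u b * y b + u c * y c + u d * y d := by
    conv_lhs => rw [hu4]
    simp [dotProduct_add]
  rw [du]
  simp only [dotProduct_add, dotProduct_smul, dotProduct_neg, dot_ee, smul_eq_mul]
  funext i
  have hui := congrFun hu4 i
  simp only [Pi.sub_apply, Pi.add_apply, Pi.smul_apply, smul_eq_mul] at hui ⊢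
  rw [hui]
  linear_combination (-2 * y a * (ee a : ι → F) i) * sa + (-2 * y b * (ee b : ι → F) i) * sb +
    (-2 * y c * (ee c : ι → F) i) * sc + (-2 * y d * (ee d : ι → F) i) * sd

/-- The centraliser of a pair sign change is monomial. -/
theorem cent_flip {x : OQ (fQ F ι)} (hx : x ∈ K) {a₀ b₀ : ι} (h0 : a₀ ≠ b₀)
    (hc : Commute x (flipO (1 : ι → F) {a₀, b₀})) : IsMon x := by
  classical
  have sup : ∀ i, i ≠ a₀ → i ≠ b₀ → ∀ m ∈ ({a₀, b₀} : Finset ι), (x • ee i : ι → F) m = 0 :=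
    fun i hia hib => supp_compl_of_commute h2 hc fun m hm => ee_ne fun e => by subst e; simp [hia, hib] at hm
  have supi : ∀ r ∈ ({a₀, b₀} : Finset ι), ∀ m ∉ ({a₀, b₀} : Finset ι), (x • ee r : ι → F) m = 0 :=
    fun r hr => supp_of_commute h2 hc fun m hm => ee_ne fun e => hm (e ▸ hr)
  have supv : ∀ r ∈ ({a₀, b₀} : Finset ι), ∀ m ∉ ({a₀, b₀} : Finset ι), (x⁻¹ • ee r : ι → F) m = 0 :=
    fun r hr => supp_of_commute h2 hc.inv_left fun m hm => ee_ne fun e => hm (e ▸ hr)
  have fix : ∀ c d, c ≠ a₀ → c ≠ b₀ → d ≠ a₀ → d ≠ b₀ → ∀ r ∈ ({a₀, b₀} : Finset ι),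
      (x * flipO (1 : ι → F) {c, d} * x⁻¹) • (ee r : ι → F) = ee r := by
    intro c d hca hcb hda hdb r hr
    rw [mul_smul, mul_smul, flip_smul_zero_on (T := {c, d}) (fun m hm => supv r hr m (by
      simp at hm ⊢; rcases hm with rfl | rfl <;> simp [*])), smul_inv_smul]
  have monT : ∀ c d, c ≠ a₀ → c ≠ b₀ → d ≠ a₀ → d ≠ b₀ → c ≠ d → IsMon (x * flipO (1 : ι → F) {c, d} * x⁻¹) :=
    fun c d hca hcb hda hdb hcd => hL _ (mul_mem (mul_mem hx (hK.flip_mem (by rw [Finset.card_pair hcd]; decide)))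
      (inv_mem hx)) a₀ (Or.inl (fix c d hca hcb hda hdb a₀ (by simp)))
  by_cases hall : ∀ c d, c ≠ a₀ → c ≠ b₀ → d ≠ a₀ → d ≠ b₀ → c ≠ d →
      ∃ T, x * flipO (1 : ι → F) {c, d} * x⁻¹ = flipO (1 : ι → F) T
  · obtain ⟨c, hc0⟩ := exists_avoid (s := {a₀, b₀}) (Finset.card_le_two.trans_lt (by omega))
    obtain ⟨d, hd0⟩ := exists_avoid (s := {a₀, b₀, c}) (Finset.card_le_three.trans_lt (by omega))
    obtain ⟨e, he0⟩ := exists_avoid (s := {a₀, b₀, c, d}) (Finset.card_le_four.trans_lt (by omega))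
    simp at hc0 hd0 he0
    obtain ⟨T1, hT1⟩ := hall c d hc0.1 hc0.2 hd0.1 hd0.2.1 (Ne.symm hd0.2.2)
    obtain ⟨T2, hT2⟩ := hall c e hc0.1 hc0.2 he0.1 he0.2.1 (Ne.symm he0.2.2.1)
    have k1 := card_eq_of_conj h2 x hT1
    have k2 := card_eq_of_conj h2 x hT2
    rw [Finset.card_pair (Ne.symm hd0.2.2)] at k1
    rw [Finset.card_pair (Ne.symm he0.2.2.1)] at k2
    have zero : ∀ T e', x * flipO (1 : ι → F) {c, e'} * x⁻¹ = flipO (1 : ι → F) T →
        ∀ m ∉ T, (x • ee c : ι → F) m = 0 := by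
      intro T e' he' m hm
      have h := congrArg (fun g : OQ (fQ F ι) => (g • x • (ee c : ι → F)) m) he'
      simp only [mul_smul, inv_smul_smul, flipO_ee_mem (show c ∈ ({c, e'} : Finset ι) by simp), gsmul_neg,
        Pi.neg_apply, flipO_apply, if_neg hm] at h
      exact (mul_eq_zero.1 (show (2 : F) * (x • ee c : ι → F) m = 0 by linear_combination -h)).resolve_left h2
    have hne : T1 ≠ T2 := fun ee' => by
      subst ee'
      have := flipO_injective h2 (mul_left_cancel (mul_right_cancel (hT1.trans hT2.symm)))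
      have hmem : d ∈ ({c, e} : Finset ι) := this ▸ (by simp)
      simp at hmem
      rcases hmem with h | h
      · exact hd0.2.2 h
      · exact he0.2.2.2 h.symm
    have hone : (T1 ∩ T2).card ≤ 1 := by
      by_contra hc'
      exact hne ((Finset.eq_of_subset_of_card_le Finset.inter_subset_left (by omega)).symm.trans
        (Finset.eq_of_subset_of_card_le Finset.inter_subset_right (by omega)))
    have hzero : ∀ m ∉ T1 ∩ T2, (x • ee c : ι → F) m = 0 := fun m hm => by
      by_cases h0 : m ∈ T1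
      · exact zero T2 e hT2 m fun h => hm (Finset.mem_inter.2 ⟨h0, h⟩)
      · exact zero T1 d hT1 m h0
    refine mon_of_axis_six hK h2 hn hL hx (i := c) ?_
    rcases (T1 ∩ T2).eq_empty_or_nonempty with he | ⟨l, hl⟩
    · exact ⟨c, fun m _ => hzero m (by simp [he])⟩
    · exact ⟨l, fun m hm => hzero m fun h => hm (Finset.card_le_one.1 hone m h l hl)⟩
  exfalso
  push Not at hall
  obtain ⟨p, q, hpa, hpb, hqa, hqb, hpq, hno⟩ := hall
  obtain ⟨π, hπ⟩ := monT p q hpa hpb hqa hqb hpq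
  have hπ1 : π ≠ 1 := fun e => by
    obtain ⟨T, hT⟩ := eq_flip_of_monBy_one h2 (e ▸ hπ)
    exact hno T hT
  have pfix : ∀ r ∈ ({a₀, b₀} : Finset ι), π r = r := fun r hr => by
    by_contra hne
    have h1 := fix p q hpa hpb hqa hqb r hr
    rcases hπ r with e | e <;> rw [h1] at e <;> have := congrFun e r <;> simp [Ne.symm hne] at this
  obtain ⟨a, b, c, d, ⟨hab, hac, had, hbc, hbd, hcd⟩, hz, hsq, -⟩ :=
    half_of_conj hK h2 hn hL h3 hx hpq hπ hπ1 fun r hr => by
      have hr' : r ≠ a₀ ∧ r ≠ b₀ := ⟨fun e => hr (e ▸ pfix a₀ (by simp)), fun e => hr (e ▸ pfix b₀ (by simp))⟩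
      have hπr : π r ≠ a₀ ∧ π r ≠ b₀ :=
        ⟨fun e => hr'.1 (π.injective (e.trans (pfix a₀ (by simp)).symm)),
          fun e => hr'.2 (π.injective (e.trans (pfix b₀ (by simp)).symm))⟩
      refine mon_conj_fix h2 hL hx (hK.flip_mem (by rw [Finset.card_pair (Ne.symm hr)]; decide)) (p := a₀) ?_
      exact flip_smul_zero_on fun m hm => supi a₀ (by simp) m (by
        simp at hm ⊢; rcases hm with rfl | rfl <;> simp [*])
  set u : ι → F := x • ee p with hu
  have hne0 : ∀ i ∈ ({a, b, c, d} : Finset ι), i ≠ a₀ ∧ i ≠ b₀ := fun i hi => by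
    constructor <;> intro e <;> have := hsq i hi <;> rw [e] at this
    · rw [show u a₀ = 0 from sup p hpa hpb a₀ (by simp)] at this; simp at this
    · rw [show u b₀ = 0 from sup p hpa hpb b₀ (by simp)] at this; simp at this
  obtain ⟨haa, hab0⟩ := hne0 a (by simp)
  obtain ⟨hba, hbb0⟩ := hne0 b (by simp)
  obtain ⟨hca, hcb0⟩ := hne0 c (by simp)
  obtain ⟨hda, hdb0⟩ := hne0 d (by simp)
  have hu4 : u = u a • ee a + u b • ee b + u c • ee c + u d • ee d := four_supp hab hac had hbc hbd hcd hz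
  set v : ι → F := x • ee a₀ with hv
  have hv2 : v = v a₀ • ee a₀ + v b₀ • ee b₀ :=
    two_supp h0 fun i hia hib => supi a₀ (by simp) i (by simp [hia, hib])
  have hvv : v a₀ * v a₀ + v b₀ * v b₀ = 1 := by
    rw [← dot_two h0 (fun i hia hib => supi a₀ (by simp) i (by simp [hia, hib])) v]
    exact dot_smul_ee h2 x a₀
  set z := x * flipO (1 : ι → F) {a₀, p} * x⁻¹ with hzdef
  have hzK : z ∈ K := mul_mem (mul_mem hx (hK.flip_mem (by rw [Finset.card_pair (Ne.symm hpa)]; decide)))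
    (inv_mem hx)
  have zapp : ∀ y : ι → F, z • y = y - (2 * (y ⬝ᵥ v)) • v - (2 * (y ⬝ᵥ u)) • u := fun y =>
    conj_flip_pair h2 x (Ne.symm hpa) y
  set w := flipO (1 : ι → F) {a₀, c} * permO F (Equiv.swap a₀ b₀ * Equiv.swap c d) with hw
  have hwK : w ∈ K := mul_mem (hK.flip_mem (by rw [Finset.card_pair (Ne.symm hca)]; decide))
    (hK.perm _ (sign_swap_swap h0 hcd))
  have wa0 : w • (ee a₀ : ι → F) = ee b₀ := by
    rw [hw, mul_smul, permO_ee, Equiv.Perm.mul_apply, Equiv.swap_apply_of_ne_of_ne (Ne.symm hca) (Ne.symm hda),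
      Equiv.swap_apply_left, flipO_ee_notMem (by simp [h0.symm, hcb0.symm])]
  have wb0 : w • (ee b₀ : ι → F) = -ee a₀ := by
    rw [hw, mul_smul, permO_ee, Equiv.Perm.mul_apply, Equiv.swap_apply_of_ne_of_ne (Ne.symm hcb0) (Ne.symm hdb0),
      Equiv.swap_apply_right, flipO_ee_mem (by simp)]
  have wa : w • (ee a : ι → F) = ee a := by
    rw [hw, mul_smul, permO_ee, Equiv.Perm.mul_apply, Equiv.swap_apply_of_ne_of_ne hac had,
      Equiv.swap_apply_of_ne_of_ne haa hab0, flipO_ee_notMem (by simp [haa, hac])]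
  have wb : w • (ee b : ι → F) = ee b := by
    rw [hw, mul_smul, permO_ee, Equiv.Perm.mul_apply, Equiv.swap_apply_of_ne_of_ne hbc hbd,
      Equiv.swap_apply_of_ne_of_ne hba hbb0, flipO_ee_notMem (by simp [hba, hbc])]
  have wc : w • (ee c : ι → F) = ee d := by
    rw [hw, mul_smul, permO_ee, Equiv.Perm.mul_apply, Equiv.swap_apply_left,
      Equiv.swap_apply_of_ne_of_ne hda hdb0, flipO_ee_notMem (by simp [hda, hcd.symm])]
  have wd : w • (ee d : ι → F) = -ee c := by
    rw [hw, mul_smul, permO_ee, Equiv.Perm.mul_apply, Equiv.swap_apply_right,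
      Equiv.swap_apply_of_ne_of_ne hca hcb0, flipO_ee_mem (by simp)]
  have ua0 : u a₀ = 0 := sup p hpa hpb a₀ (by simp)
  have ub0 : u b₀ = 0 := sup p hpa hpb b₀ (by simp)
  have va : v a = 0 := supi a₀ (by simp) a (by simp [haa, hab0])
  have vz : v b = 0 ∧ v c = 0 ∧ v d = 0 := ⟨supi a₀ (by simp) b (by simp [hba, hbb0]),
    supi a₀ (by simp) c (by simp [hca, hcb0]), supi a₀ (by simp) d (by simp [hda, hdb0])⟩
  -- an element fixing an axis
  have fix0 : (z * w * z * w) • (ee a₀ : ι → F) = ee a₀ := by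
    have e1 : w • z • (ee b₀ : ι → F) =
        (-(1 : F) + 2 * (v b₀ * v b₀)) • ee a₀ + (-(2 * (v b₀ * v a₀))) • ee b₀ := by
      rw [zapp, ee_dot, ee_dot, ub0, mul_zero, zero_smul, sub_zero, gsmul_sub, gsmul_smul, wb0]
      conv_lhs => arg 2; arg 2; rw [hv2]
      rw [gsmul_add', gsmul_smul, gsmul_smul, wa0, wb0]
      module
    rw [mul_smul, mul_smul, mul_smul, wa0, e1, zapp]
    simp only [add_dotProduct, smul_dotProduct, ee_dot, ua0, ub0, smul_eq_mul, mul_zero, add_zero, zero_smul,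
      sub_zero]
    funext i
    have := congrFun hv2 i
    simp only [Pi.add_apply, Pi.sub_apply, Pi.smul_apply, smul_eq_mul] at this ⊢
    linear_combination (2 * v a₀) * this + (2 * (ee a₀ : ι → F) i - 0) * hvv +
      (4 * v b₀ * v b₀ * v a₀ - 4 * v b₀ * v b₀ * v a₀) * this
  obtain ⟨σ, hσ⟩ := hL (z * w * z * w) (mul_mem (mul_mem (mul_mem hzK hwK) hzK) hwK) a₀ (Or.inl fix0)
  -- its image of `a` has support at least two
  have ea : (z * w * z * w) • (ee a : ι → F) = (1 - 2 * (u a * u a)) • ee a + (-(2 * (u a * u b))) • ee b +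
      (2 * (u a * u d)) • ee c + (-(2 * (u a * u c))) • ee d := by
    have e1 : w • z • (ee a : ι → F) = (1 - 2 * (u a * u a)) • ee a + (-(2 * (u a * u b))) • ee b +
        (2 * (u a * u d)) • ee c + (-(2 * (u a * u c))) • ee d := by
      rw [zapp, ee_dot, ee_dot, va, mul_zero, zero_smul, sub_zero, gsmul_sub, gsmul_smul, wa]
      conv_lhs => arg 2; arg 2; rw [hu4]
      rw [gsmul_add', gsmul_add', gsmul_add', gsmul_smul, gsmul_smul, gsmul_smul, gsmul_smul, wa, wb, wc, wd]
      module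
    rw [mul_smul, mul_smul, mul_smul, wa, e1, zapp]
    have d1 : ((1 - 2 * (u a * u a)) • ee a + (-(2 * (u a * u b))) • ee b +
        (2 * (u a * u d)) • ee c + (-(2 * (u a * u c))) • ee d : ι → F) ⬝ᵥ v = 0 := by
      simp [add_dotProduct, smul_dotProduct, ee_dot, va, vz]
    have d2 : ((1 - 2 * (u a * u a)) • ee a + (-(2 * (u a * u b))) • ee b +
        (2 * (u a * u d)) • ee c + (-(2 * (u a * u c))) • ee d : ι → F) ⬝ᵥ u = 0 := by
      simp only [add_dotProduct, smul_dotProduct, ee_dot, smul_eq_mul]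
      refine mul_left_cancel₀ h2 ?_
      linear_combination -(u a) * hsq a (by simp) - (u a) * hsq b (by simp)
    rw [d1, d2]
    simp
  obtain ⟨l, hl⟩ := hσ.axis a
  rw [ea] at hl
  have la : l = a := by
    by_contra hla
    have := hl a (Ne.symm hla)
    simp [hab, hac, had] at this
    refine h2 ?_
    linear_combination 4 * this + 2 * hsq a (by simp) - 0
  have := hl b (by rw [la]; exact hab.symm)
  simp [hab.symm, hbc, hbd, h2] at this
  rcases this with e | e
  · have := hsq a (by simp); rw [e] at this; simp at this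
  · have := hsq b (by simp); rw [e] at this; simp at this

/-- An element mapping a pair sign change to a sign change is monomial. -/
theorem conj_flip_mon {g : OQ (fQ F ι)} (hg : g ∈ K) {a b : ι} (hab : a ≠ b) {T : Finset ι}
    (e : g * flipO (1 : ι → F) {a, b} * g⁻¹ = flipO (1 : ι → F) T) : IsMon g := by
  classical
  have hcard := card_eq_of_conj h2 g e
  rw [Finset.card_pair hab] at hcard
  obtain ⟨c, d, hcd, rfl⟩ := Finset.card_eq_two.1 hcard.symm
  obtain ⟨π₀, hc, hd⟩ : ∃ π : Equiv.Perm ι, π c = a ∧ π d = b := by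
    refine ⟨Equiv.swap (Equiv.swap c a d) b * Equiv.swap c a, ?_, ?_⟩
    · have h1 : Equiv.swap c a d ≠ a := fun e => hcd ((Equiv.swap c a).injective (by rw [e, Equiv.swap_apply_left])).symm
      rw [Equiv.Perm.mul_apply, Equiv.swap_apply_left, Equiv.swap_apply_of_ne_of_ne h1.symm hab]
    · rw [Equiv.Perm.mul_apply, Equiv.swap_apply_left]
  obtain ⟨π, hπ, hs⟩ : ∃ π : Equiv.Perm ι, ({c, d} : Finset ι).image π = {a, b} ∧ Equiv.Perm.sign π = 1 := by
    rcases Int.units_eq_one_or (Equiv.Perm.sign π₀) with hs | hs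
    · exact ⟨π₀, by rw [Finset.image_insert, Finset.image_singleton, hc, hd], hs⟩
    · refine ⟨Equiv.swap a b * π₀, ?_, by rw [map_mul, Equiv.Perm.sign_swap hab, hs]; decide⟩
      rw [Finset.image_insert, Finset.image_singleton, Equiv.Perm.mul_apply, Equiv.Perm.mul_apply, hc, hd,
        Equiv.swap_apply_left, Equiv.swap_apply_right, Finset.pair_comm]
  refine IsMon.of_mul_left (isMon_perm π) (cent_flip hK h2 h3 hn hL (mul_mem (hK.perm π hs) hg) hab ?_)
  refine mul_inv_eq_iff_eq_mul.1 ?_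
  rw [show permO F π * g * flipO (1 : ι → F) {a, b} * (permO F π * g)⁻¹ =
    permO F π * (g * flipO (1 : ι → F) {a, b} * g⁻¹) * (permO F π)⁻¹ by group, e, (monBy_perm π).conj_flip, hπ]

/-- Fusion. -/
theorem fusion {x : OQ (fQ F ι)} (hx : x ∈ K) {T : Finset ι} (hT : T.card = 2)
    (hm : IsMon (x * flipO (1 : ι → F) T * x⁻¹)) : IsMon x := by
  classical
  obtain ⟨p, q, hpq, rfl⟩ := Finset.card_eq_two.1 hT
  obtain ⟨π, hπ⟩ := hm
  by_cases hπ1 : π = 1
  · obtain ⟨T, hT⟩ := eq_flip_of_monBy_one h2 (hπ1 ▸ hπ)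
    exact conj_flip_mon hK h2 h3 hn hL hx hpq hT
  have htt := hπ.mul hπ
  rw [show x * flipO (1 : ι → F) {p, q} * x⁻¹ * (x * flipO (1 : ι → F) {p, q} * x⁻¹) =
    x * (flipO (1 : ι → F) {p, q} * flipO (1 : ι → F) {p, q}) * x⁻¹ by group, flipO_sq, mul_one, mul_inv_cancel] at htt
  have hinv : ∀ i, π (π i) = i := fun i => by rw [← Equiv.Perm.mul_apply, htt.unique monBy_one]; rfl
  obtain ⟨a, b, c, d, ⟨hab, hac, had, hbc, hbd, hcd⟩, hz, hsq, hq⟩ :=
    half_of_conj hK h2 hn hL h3 hx hpq hπ hπ1 fun a ha => by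
      refine cent_flip hK h2 h3 hn hL
        (mul_mem (mul_mem (inv_mem hx) (hK.flip_mem (by rw [Finset.card_pair (Ne.symm ha)]; decide))) hx) hpq ?_
      have hcomm : Commute (x * flipO (1 : ι → F) {p, q} * x⁻¹) (flipO (1 : ι → F) {a, π a}) := by
        have := hπ.conj_flip {a, π a}
        rw [Finset.image_insert, Finset.image_singleton, hinv,
          show ({π a, a} : Finset ι) = {a, π a} from Finset.pair_comm _ _] at this
        exact mul_inv_eq_iff_eq_mul.1 this
      show _ * _ = _ * _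
      calc x⁻¹ * flipO (1 : ι → F) {a, π a} * x * flipO (1 : ι → F) {p, q}
          = x⁻¹ * (flipO (1 : ι → F) {a, π a} * (x * flipO (1 : ι → F) {p, q} * x⁻¹)) * x := by group
        _ = _ := by rw [← hcomm.eq]; group
  obtain ⟨S, hS, e⟩ := half_flip hK h2 h3 hn hL hx hab hac had hbc hbd hcd hz hsq hq
  obtain ⟨r, s, hrs, hc⟩ := Finset.card_eq_two.1 (show Sᶜ.card = 2 by rw [Finset.card_compl, hS, hn])
  exact conj_flip_mon hK h2 h3 hn hL hx hrs (hc ▸ compl_conj x e)

variable [Finite F]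

/-- Either monomial, or every pair sign change is conjugate to the given conjugate by the group they
generate. -/
theorem mon_or_conj {x : OQ (fQ F ι)} (hx : x ∈ K) {p q r s : ι} (hpq : p ≠ q) (hrs : r ≠ s) :
    IsMon x ∨ ∃ j : ℕ,
      let d := flipO (1 : ι → F) {r, s} * (x * flipO (1 : ι → F) {p, q} * x⁻¹)
      d ^ j * flipO (1 : ι → F) {r, s} * (d ^ j)⁻¹ = x * flipO (1 : ι → F) {p, q} * x⁻¹ := by
  classical
  set e := flipO (1 : ι → F) {p, q} with he
  set e' := flipO (1 : ι → F) {r, s} with he'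
  have heK : e ∈ K := hK.flip_mem (by rw [Finset.card_pair hpq]; decide)
  have he'K : e' ∈ K := hK.flip_mem (by rw [Finset.card_pair hrs]; decide)
  set b := x * e * x⁻¹ with hb
  have hbK : b ∈ K := mul_mem (mul_mem hx heK) (inv_mem hx)
  have hbb : b * b = 1 := by
    rw [hb, show x * e * x⁻¹ * (x * e * x⁻¹) = x * (e * e) * x⁻¹ by group, he, flipO_sq]; group
  rcases dihedral_split (flipO_sq {r, s} : e' * e' = 1) hbb with h | ⟨k, hz1, hzz, hzq, hzb, hcase⟩
  · exact Or.inr h
  left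
  set z := (e' * b) ^ k with hz
  have hdK : ∀ i : ℕ, (e' * b) ^ i ∈ K := fun i => pow_mem (mul_mem he'K hbK) i
  obtain ⟨π, hπ⟩ := cent_flip hK h2 h3 hn hL (hdK k) hrs hzq
  -- the conjugate back
  set w := x⁻¹ * z * x with hw
  have hwe : Commute w e := by
    show w * e = e * w
    rw [hw, show x⁻¹ * z * x * e = x⁻¹ * (z * b) * x by rw [hb]; group, hzb.eq, hb]; group
  have hwM : IsMon w := cent_flip hK h2 h3 hn hL (mul_mem (mul_mem (inv_mem hx) (hdK k)) hx) hpq hwe
  obtain ⟨T, hT⟩ : ∃ T : Finset ι, w * e = flipO (1 : ι → F) T ∧ T.card = 2 := by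
    have main : ∀ g ∈ K, ∀ U : Finset ι, U.card = 2 → g * flipO (1 : ι → F) U * g⁻¹ = w * e →
        ∃ T : Finset ι, w * e = flipO (1 : ι → F) T ∧ T.card = 2 := by
      intro g hg U hU eg
      obtain ⟨ρ, hρ⟩ := fusion hK h2 h3 hn hL hg hU (eg ▸ hwM.mul (isMon_flip _))
      exact ⟨U.image ρ, by rw [← eg, hρ.conj_flip], by rw [Finset.card_image_of_injective _ ρ.injective, hU]⟩
    rcases hcase with ⟨i, hi⟩ | ⟨i, hi⟩
    · refine main (x⁻¹ * (e' * b) ^ i * x) (mul_mem (mul_mem (inv_mem hx) (hdK i)) hx) {p, q} (Finset.card_pair hpq) ?_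
      calc x⁻¹ * (e' * b) ^ i * x * e * (x⁻¹ * (e' * b) ^ i * x)⁻¹
          = x⁻¹ * ((e' * b) ^ i * (x * e * x⁻¹) * ((e' * b) ^ i)⁻¹) * x := by group
        _ = w * e := by rw [← hb, hi, hw, hb]; group
    · refine main (x⁻¹ * (e' * b) ^ i) (mul_mem (inv_mem hx) (hdK i)) {r, s} (Finset.card_pair hrs) ?_
      calc x⁻¹ * (e' * b) ^ i * e' * (x⁻¹ * (e' * b) ^ i)⁻¹
          = x⁻¹ * ((e' * b) ^ i * e' * ((e' * b) ^ i)⁻¹) * x := by group
        _ = w * e := by rw [hi, hw, hb]; group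
  obtain ⟨hT, hT2⟩ := hT
  set U := symmDiff T {p, q} with hU
  have hwU : w = flipO (1 : ι → F) U := by
    rw [hU, ← flipO_mul, ← hT, mul_assoc, he, flipO_sq, mul_one]
  have hzU : x * flipO (1 : ι → F) U * x⁻¹ = z := by rw [← hwU, hw]; group
  have hUc : U.card = 2 ∨ U.card = 4 ∨ U.card = 0 := by
    have e1 := Finset.card_sdiff_add_card_inter T {p, q}
    have e2 := Finset.card_sdiff_add_card_inter ({p, q} : Finset ι) T
    rw [Finset.inter_comm] at e2
    rw [Finset.card_pair hpq] at e2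
    rw [hU, symmDiff_def, Finset.sup_eq_union, Finset.card_union_of_disjoint disjoint_sdiff_sdiff]
    omega
  rcases hUc with hc | hc | hc
  · exact fusion hK h2 h3 hn hL hx hc (hzU ▸ ⟨π, hπ⟩)
  · refine fusion hK h2 h3 hn hL hx (T := Uᶜ) (by rw [Finset.card_compl, hc, hn]) ?_
    have e1 : flipO (1 : ι → F) Uᶜ = flipO (1 : ι → F) Finset.univ * flipO (1 : ι → F) U := by
      rw [flipO_mul]; congr 1; ext l; simp [Finset.mem_symmDiff]
    rw [e1, ← mul_assoc x, (commute_univ x).eq, mul_assoc (flipO (1 : ι → F) Finset.univ),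
      mul_assoc (flipO (1 : ι → F) Finset.univ), hzU]
    exact (isMon_flip _).mul ⟨π, hπ⟩
  · exact absurd (by rw [← hzU, Finset.card_eq_zero.1 hc, flipO_empty, mul_one, mul_inv_cancel]) hz1

/-- The centraliser of a monomial involution separating two pairs is monomial. -/
theorem cent_mon {x z : OQ (fQ F ι)} (hx : x ∈ K) (hxz : Commute x z) {π : Equiv.Perm ι} (hz : MonBy z π)
    {p q r : ι} (hpq : p ≠ q) (hp : π p = p) (hq : π q = q) (hr : π r ≠ r) (hr2 : π (π r) = r) : IsMon x := by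
  classical
  have he : Commute z (flipO (1 : ι → F) {p, q}) := by
    have := hz.conj_flip {p, q}
    rw [Finset.image_insert, Finset.image_singleton, hp, hq] at this
    exact mul_inv_eq_iff_eq_mul.1 this
  have he' : Commute z (flipO (1 : ι → F) {r, π r}) := by
    have := hz.conj_flip {r, π r}
    rw [Finset.image_insert, Finset.image_singleton, hr2,
      show ({π r, r} : Finset ι) = {r, π r} from Finset.pair_comm _ _] at this
    exact mul_inv_eq_iff_eq_mul.1 this
  rcases mon_or_conj hK h2 h3 hn hL hx hpq (Ne.symm hr) with h | ⟨j, hj⟩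
  · exact h
  exfalso
  have hbK : x * flipO (1 : ι → F) {p, q} * x⁻¹ ∈ K :=
    mul_mem (mul_mem hx (hK.flip_mem (by rw [Finset.card_pair hpq]; decide))) (inv_mem hx)
  set y := (flipO (1 : ι → F) {r, π r} * (x * flipO (1 : ι → F) {p, q} * x⁻¹)) ^ j with hy
  have hyK : y ∈ K := pow_mem (mul_mem (hK.flip_mem (by rw [Finset.card_pair (Ne.symm hr)]; decide)) hbK) j
  have hyz : Commute y z := Commute.pow_left (he'.symm.mul_left ((hxz.mul_left he.symm).mul_left hxz.inv_left)) j
  have hg : y⁻¹ * x * flipO (1 : ι → F) {p, q} * (y⁻¹ * x)⁻¹ = flipO (1 : ι → F) {r, π r} := by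
    rw [show y⁻¹ * x * flipO (1 : ι → F) {p, q} * (y⁻¹ * x)⁻¹ =
      y⁻¹ * (x * flipO (1 : ι → F) {p, q} * x⁻¹) * y by group]
    calc y⁻¹ * (x * flipO (1 : ι → F) {p, q} * x⁻¹) * y
        = y⁻¹ * (y * flipO (1 : ι → F) {r, π r} * y⁻¹) * y := congrArg (fun v => y⁻¹ * v * y) hj.symm
      _ = _ := by group
  obtain ⟨ρ, hρ⟩ := conj_flip_mon hK h2 h3 hn hL (mul_mem (inv_mem hyK) hx) hpq hg
  have hcomm : ρ * π = π * ρ := by
    have e := hρ.mul hz
    rw [(hyz.inv_left.mul_left hxz).eq] at e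
    exact e.unique (hz.mul hρ)
  have himg := flipO_injective h2 ((hρ.conj_flip {p, q}).symm.trans hg)
  have hmem : ρ p ∈ ({r, π r} : Finset ι) := himg ▸ Finset.mem_image_of_mem ρ (by simp)
  have hfix : π (ρ p) = ρ p := by
    rw [← Equiv.Perm.mul_apply, ← hcomm, Equiv.Perm.mul_apply, hp]
  simp only [Finset.mem_insert, Finset.mem_singleton] at hmem
  rcases hmem with e | e <;> rw [e] at hfix
  · exact hr hfix
  · exact hr (by rw [hr2] at hfix; exact hfix.symm)

variable (hdet : ∀ g ∈ K, dO g = 1)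
include hdet

omit hL in
/-- An involution of determinant one that is no sign change fixes two axes up to sign. -/
theorem two_fixed {z : OQ (fQ F ι)} (hzK : z ∈ K) (hzz : z * z = 1) {π : Equiv.Perm ι} (hz : MonBy z π)
    (hπ : π ≠ 1) : ∃ p q r, p ≠ q ∧ π p = p ∧ π q = q ∧ π r ≠ r ∧ π (π r) = r := by
  classical
  have hinv : ∀ i, π (π i) = i := fun i => by
    have := hz.mul hz
    rw [hzz] at this
    rw [← Equiv.Perm.mul_apply, this.unique monBy_one]; rfl
  obtain ⟨r, hr⟩ : ∃ r, π r ≠ r := by by_contra! h; exact hπ (Equiv.ext h)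
  by_cases hp : ∃ p, π p = p
  · obtain ⟨p, hp⟩ := hp
    by_cases hq : ∃ q, q ≠ p ∧ π q = q
    · obtain ⟨q, hqp, hq⟩ := hq
      exact ⟨p, q, r, hqp.symm, hp, hq, hr, hinv r⟩
    push Not at hq
    exfalso
    have := even_card_of_involution (T := Finset.univ.erase p) hinv
      (fun i hi => Finset.mem_erase.2 ⟨fun e => (Finset.mem_erase.1 hi).1 (π.injective (e.trans hp.symm)),
        Finset.mem_univ _⟩) (fun i hi => hq i (Finset.mem_erase.1 hi).1)
    rw [Finset.card_erase_of_mem (Finset.mem_univ _), Finset.card_univ, hn] at this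
    exact absurd this (by decide)
  push Not at hp
  exfalso
  obtain ⟨s, hs⟩ := exists_avoid (s := {r, π r}) (Finset.card_le_two.trans_lt (by omega))
  simp at hs
  have hs' : π s ≠ r ∧ π s ≠ π r :=
    ⟨fun e => hs.2 (by rw [← e, hinv]), fun e => hs.1 (π.injective e)⟩
  obtain ⟨t, ht⟩ := exists_avoid (s := {r, π r, s, π s}) (Finset.card_le_four.trans_lt (by omega))
  simp at ht
  obtain ⟨ht1, ht2, ht3, ht4⟩ := ht
  have ht' : π t ≠ r ∧ π t ≠ π r ∧ π t ≠ s ∧ π t ≠ π s :=
    ⟨fun e => ht2 (by rw [← e, hinv]), fun e => ht1 (π.injective e), fun e => ht4 (by rw [← e, hinv]),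
      fun e => ht3 (π.injective e)⟩
  have hsum : π = Equiv.swap r (π r) * Equiv.swap s (π s) * Equiv.swap t (π t) := by
    have hall : ({r, π r, s, π s, t, π t} : Finset ι) = Finset.univ := Finset.eq_univ_of_card _ (by
      rw [hn]
      simp [Ne.symm hr, Ne.symm hs.1, Ne.symm hs'.1, Ne.symm ht1, Ne.symm ht'.1, Ne.symm hs.2, Ne.symm hs'.2,
        Ne.symm ht2, Ne.symm ht'.2.1, Ne.symm (hp s), Ne.symm ht3, Ne.symm ht'.2.2.1, Ne.symm ht4,
        Ne.symm ht'.2.2.2, Ne.symm (hp t)])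
    ext i
    have hi : i ∈ ({r, π r, s, π s, t, π t} : Finset ι) := hall ▸ Finset.mem_univ i
    simp only [Finset.mem_insert, Finset.mem_singleton] at hi
    rcases hi with e | e | e | e | e | e <;> rw [e] <;>
      simp [Equiv.Perm.mul_apply, Equiv.swap_apply_def, hinv, hr, Ne.symm hr, hs.1, Ne.symm hs.1, hs'.1,
        Ne.symm hs'.1, hs.2, Ne.symm hs.2, hs'.2, Ne.symm hs'.2, ht1, Ne.symm ht1, ht2, Ne.symm ht2, ht3,
        Ne.symm ht3, ht4, Ne.symm ht4, ht'.1, Ne.symm ht'.1, ht'.2.1, Ne.symm ht'.2.1, ht'.2.2.1,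
        Ne.symm ht'.2.2.1, ht'.2.2.2, Ne.symm ht'.2.2.2, hp s, Ne.symm (hp s), hp t, Ne.symm (hp t)]
  obtain ⟨T, hT⟩ : ∃ T, z * (permO F π)⁻¹ = flipO (1 : ι → F) T := by
    refine eq_flip_of_monBy_one h2 ?_
    simpa using hz.mul (monBy_perm π).inv
  have hzT : z = flipO (1 : ι → F) T * permO F π := by rw [← hT, inv_mul_cancel_right]
  have hTπ : T.image π = T := by
    have e : flipO (1 : ι → F) T * flipO (1 : ι → F) (T.image π) * (permO F π * permO F π) = 1 := by
      rw [← (monBy_perm π).conj_flip, ← hzz, hzT]; group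
    rw [← map_mul, show π * π = 1 from Equiv.ext hinv, map_one, mul_one, mul_eq_one_iff_eq_inv, flipO_inv] at e
    exact (flipO_injective h2 e).symm
  have hev : Even T.card := even_card_of_involution hinv
    (fun i hi => hTπ ▸ Finset.mem_image_of_mem π hi) (fun i _ => hp i)
  have := hdet z hzK
  rw [hzT, map_mul, dO_flip, hev.neg_one_pow, one_mul, hsum, map_mul, map_mul, map_mul, map_mul,
    dO_swap h2 (Ne.symm hr), dO_swap h2 (Ne.symm (hp s)), dO_swap h2 (Ne.symm (hp t))] at this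
  exact neg_one_units_ne h2 (by simpa using this)

/-- Conjugates of a monomial involution with a swap are monomial. -/
theorem conj_mon {t : OQ (fQ F ι)} (htK : t ∈ K) (htt : t * t = 1) {τ : Equiv.Perm ι} (ht : MonBy t τ)
    (hτ : τ ≠ 1) {g : OQ (fQ F ι)} (hg : g ∈ K) : IsMon (g⁻¹ * t * g) := by
  classical
  obtain ⟨p, q, hpq⟩ : ∃ p q : ι, p ≠ q :=
    Fintype.exists_pair_of_one_lt_card (by rw [hn]; decide)
  set u := g⁻¹ * t * g with hu
  have huK : u ∈ K := mul_mem (mul_mem (inv_mem hg) htK) hg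
  have huu : u * u = 1 := by
    rw [hu, show g⁻¹ * t * g * (g⁻¹ * t * g) = g⁻¹ * (t * t) * g by group, htt]; group
  have heK : flipO (1 : ι → F) {p, q} ∈ K := hK.flip_mem (by rw [Finset.card_pair hpq]; decide)
  have noflip : ∀ T, t ≠ flipO (1 : ι → F) T := fun T e => hτ (ht.unique (e ▸ monBy_flip T))
  rcases dihedral_split huu (flipO_sq {p, q}) with ⟨j, hj⟩ | ⟨k, hz1, hzz, hzu, hze, hcase⟩
  · exfalso
    set y := (u * flipO (1 : ι → F) {p, q}) ^ j
    have e : g * y⁻¹ * flipO (1 : ι → F) {p, q} * (g * y⁻¹)⁻¹ = t := by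
      rw [← hj, hu]; group
    obtain ⟨ρ, hρ⟩ := fusion hK h2 h3 hn hL
      (mul_mem hg (inv_mem (pow_mem (mul_mem huK heK) j))) (Finset.card_pair hpq) (e ▸ ⟨τ, ht⟩)
    exact noflip _ (e.symm.trans (hρ.conj_flip _))
  have hdK : ∀ i : ℕ, (u * flipO (1 : ι → F) {p, q}) ^ i ∈ K := fun i => pow_mem (mul_mem huK heK) i
  set z := (u * flipO (1 : ι → F) {p, q}) ^ k
  have hzK : z ∈ K := hdK k
  obtain ⟨π, hπ⟩ := cent_flip hK h2 h3 hn hL hzK hpq hze
  by_cases hπ1 : π = 1
  · subst hπ1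
    obtain ⟨T, hT⟩ := eq_flip_of_monBy_one h2 hπ
    have hev : Even T.card := by
      have := hdet z hzK
      rw [hT, dO_flip] at this
      rcases Nat.even_or_odd T.card with h | h
      · exact h
      · rw [h.neg_one_pow] at this; exact absurd this (neg_one_units_ne h2)
    obtain ⟨m, hm⟩ := hev
    have hle : T.card ≤ 6 := hn ▸ Finset.card_le_univ T
    have hc : T.card = 2 ∨ T.card = 4 ∨ T.card = 0 ∨ T.card = 6 := by omega
    rcases hc with hc | hc | hc | hc
    · obtain ⟨r, s, hrs, rfl⟩ := Finset.card_eq_two.1 hc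
      exact cent_flip hK h2 h3 hn hL huK hrs (hT ▸ hzu.symm)
    · obtain ⟨r, s, hrs, hcs⟩ := Finset.card_eq_two.1 (show Tᶜ.card = 2 by rw [Finset.card_compl, hc, hn])
      exact cent_flip hK h2 h3 hn hL huK hrs (hcs ▸ commute_compl (hT ▸ hzu.symm))
    · exact absurd (by rw [hT, Finset.card_eq_zero.1 hc, flipO_empty]) hz1
    · exfalso
      rw [Finset.eq_univ_of_card T (hc.trans hn.symm)] at hT
      have e1 : flipO (1 : ι → F) ({p, q} : Finset ι)ᶜ = z * flipO (1 : ι → F) {p, q} := by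
        rw [hT, flipO_mul]; congr 1; ext l; simp [Finset.mem_symmDiff]
      rcases hcase with ⟨i, hi⟩ | ⟨i, hi⟩ <;> rw [← e1] at hi
      · have := card_eq_of_conj h2 _ hi
        rw [Finset.card_compl, Finset.card_pair hpq, hn] at this
        exact absurd this (by decide)
      · set y := (u * flipO (1 : ι → F) {p, q}) ^ i with hy
        have e2 : g * y⁻¹ * flipO (1 : ι → F) {p, q} * (g * y⁻¹)⁻¹ = flipO (1 : ι → F) Finset.univ * t := by
          have e3 : flipO (1 : ι → F) {p, q} = flipO (1 : ι → F) Finset.univ * (y * u * y⁻¹) := by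
            rw [hi, flipO_mul]; congr 1; ext l; simp [Finset.mem_symmDiff]; tauto
          conv_lhs => rw [e3]
          rw [← mul_assoc (g * y⁻¹), (commute_univ (g * y⁻¹)).eq, hu]
          group
        obtain ⟨ρ, hρ⟩ := fusion hK h2 h3 hn hL (mul_mem hg (inv_mem (hdK i))) (Finset.card_pair hpq)
          (e2 ▸ (isMon_flip _).mul ⟨τ, ht⟩)
        have e4 := e2.symm.trans (hρ.conj_flip _)
        refine noflip (symmDiff Finset.univ (({p, q} : Finset ι).image ρ)) ?_
        rw [← flipO_mul, ← e4, ← mul_assoc, flipO_sq, one_mul]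
  · obtain ⟨a, b, c, hab, ha, hb, hc, hc2⟩ := two_fixed hK h2 h3 hn hdet hzK hzz hπ hπ1
    exact cent_mon hK h2 h3 hn hL huK hzu.symm hπ hab ha hb hc hc2

/-- On six axes everything is monomial. -/
theorem mon_six_of_axisMon : ∀ g ∈ K, IsMon g := by
  classical
  intro g hg
  obtain ⟨a, -⟩ := exists_avoid (s := (∅ : Finset ι)) (by simp [hn])
  obtain ⟨b, hb⟩ := exists_avoid (s := {a}) (by simp [hn])
  obtain ⟨c, hc⟩ := exists_avoid (s := {a, b}) (Finset.card_le_two.trans_lt (by omega))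
  obtain ⟨d, hd⟩ := exists_avoid (s := {a, b, c}) (Finset.card_le_three.trans_lt (by omega))
  obtain ⟨e, he⟩ := exists_avoid (s := {a, b, c, d}) (Finset.card_le_four.trans_lt (by omega))
  obtain ⟨f, hf⟩ := exists_avoid (s := {a, b, c, d, e}) (by
    refine lt_of_le_of_lt (Finset.card_insert_le _ _) ?_
    have := Finset.card_le_four (a := b) (b := c) (c := d) (d := e)
    omega)
  simp at hb hc hd he hf
  set τ := Equiv.swap a b * Equiv.swap c d with hτdef
  have hτ : τ ≠ 1 := fun e' => by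
    have := congrArg (fun π : Equiv.Perm ι => π a) e'
    simp [hτdef, Equiv.swap_apply_of_ne_of_ne (Ne.symm hc.1) (Ne.symm hd.1)] at this
    exact hb this
  have htK : permO F τ ∈ K := hK.perm τ (sign_swap_swap (Ne.symm hb) (Ne.symm hd.2.2))
  have hττ : τ * τ = 1 := Equiv.ext fun i => by
    simp only [hτdef, Equiv.Perm.mul_apply, Equiv.Perm.one_apply]
    by_cases i1 : i = a
    · subst i1; simp [Equiv.swap_apply_of_ne_of_ne (Ne.symm hc.1) (Ne.symm hd.1),
        Equiv.swap_apply_of_ne_of_ne (Ne.symm hc.2) (Ne.symm hd.2.1)]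
    by_cases i2 : i = b
    · subst i2; simp [Equiv.swap_apply_of_ne_of_ne (Ne.symm hc.1) (Ne.symm hd.1),
        Equiv.swap_apply_of_ne_of_ne (Ne.symm hc.2) (Ne.symm hd.2.1)]
    by_cases i3 : i = c
    · subst i3; simp [Equiv.swap_apply_of_ne_of_ne hd.1 hd.2.1, Equiv.swap_apply_of_ne_of_ne hc.1 hc.2]
    by_cases i4 : i = d
    · subst i4; simp [Equiv.swap_apply_of_ne_of_ne hd.1 hd.2.1, Equiv.swap_apply_of_ne_of_ne hc.1 hc.2]
    simp [Equiv.swap_apply_of_ne_of_ne i3 i4, Equiv.swap_apply_of_ne_of_ne i1 i2]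
  have hef : flipO (1 : ι → F) {e, f} ∈ K := hK.flip_mem (by rw [Finset.card_pair (Ne.symm hf.2.2.2.2)]; decide)
  set t := permO F τ with ht
  have htt : t * t = 1 := by rw [ht, ← map_mul, hττ, map_one]
  have hτef : ({e, f} : Finset ι).image τ = {e, f} := by
    rw [Finset.image_insert, Finset.image_singleton, hτdef, Equiv.Perm.mul_apply, Equiv.Perm.mul_apply,
      Equiv.swap_apply_of_ne_of_ne he.2.2.1 he.2.2.2, Equiv.swap_apply_of_ne_of_ne he.1 he.2.1,
      Equiv.swap_apply_of_ne_of_ne hf.2.2.1 hf.2.2.2.1, Equiv.swap_apply_of_ne_of_ne hf.1 hf.2.1]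
  have htc : Commute t (flipO (1 : ι → F) {e, f}) := by
    have := (monBy_perm (F := F) τ).conj_flip {e, f}
    rw [hτef] at this
    exact mul_inv_eq_iff_eq_mul.1 this
  set t' := t * flipO (1 : ι → F) {e, f} with ht'
  have htt' : t' * t' = 1 := by
    rw [ht', mul_assoc, ← mul_assoc (flipO (1 : ι → F) {e, f}) t, ← htc.eq, mul_assoc t, flipO_sq, mul_one, htt]
  have m1 := conj_mon hK h2 h3 hn hL hdet htK htt (monBy_perm τ) hτ hg
  have m2 := conj_mon hK h2 h3 hn hL hdet (mul_mem htK hef) htt'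
    (show MonBy t' τ by simpa using (monBy_perm τ).mul (monBy_flip {e, f})) hτ hg
  have m3 : IsMon (g⁻¹ * flipO (1 : ι → F) {e, f} * g⁻¹⁻¹) := by
    have := m1.mul m2
    rwa [show g⁻¹ * t * g * (g⁻¹ * t' * g) = g⁻¹ * (t * t') * g by group, ht', ← mul_assoc t, htt, one_mul,
      ← inv_inv g, inv_inv g⁻¹] at this
  simpa using (fusion hK h2 h3 hn hL (inv_mem hg) (Finset.card_pair (Ne.symm hf.2.2.2.2)) m3).inv

end

end CfsgLib.Geo.Frame
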