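import Cfsg.Agent.Lib.Geo.Frame.Basic
import Cfsg.Agent.Lib.Classical.Quad.ClassReflections
import Cfsg.Agent.Lib.Char.HalfDegree.Conic
import Cfsg.Agent.Lib.Classical.Dickson.Subfield
import Cfsg.Agent.Lib.Geo.OrthFieldExt.Type

/-!
A group of isometries of a three-space containing a dihedral group of order eight and a reflection
in general position is everything up to index two.
-/

set_option autoImplicit false
set_option maxHeartbeats 800000

namespace CfsgLib.Geo.Frame

open CfsgLib.Classical CfsgLib.Classical.Quad CfsgLib.Classical.Dickson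
open QuadraticMap (polar polarBilin)

universe u

variable {F : Type u} [Field F] [Fintype F]

section Index

variable {V : Type*} [AddCommGroup V] [Module F V] [FiniteDimensional F V] {Q : QuadraticForm F V}

/-- A subgroup of index at most two is transitive on vectors with universal orthogonal space. -/
theorem exists_mem_map_of_index (hQ : (polarBilin Q).Nondegenerate) (hR : reflGroup Q = ⊤)
    {N : Subgroup (OQ Q)} (hidx : N.index = 1 ∨ N.index = 2) {x y : V} (hx : Q x ≠ 0)
    (h : Q x = Q y) (hperp : ∀ c : F, c ≠ 0 → ∃ v, Q v = c ∧ polar Q y v = 0) :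
    ∃ g ∈ N, g • x = y := by
  obtain ⟨g, hg⟩ := exists_map_vector hQ (fun e => hx (by rw [e, QuadraticMap.map_zero]))
    (fun e => hx (by rw [h, e, QuadraticMap.map_zero])) h
  rcases hidx with h1 | h2
  · exact ⟨g, by rw [Subgroup.index_eq_one.1 h1]; exact Subgroup.mem_top g, hg⟩
  by_cases hgN : g ∈ N
  · exact ⟨g, hgN, hg⟩
  have hN : N.Normal := Subgroup.normal_of_index_eq_two h2
  obtain ⟨w, hw, hwN⟩ : ∃ (w : V) (hw : Q w ≠ 0), refl hw ∉ N := by
    by_contra! hc
    have hle : reflGroup Q ≤ N := (Subgroup.closure_le _).2 (by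
      rintro _ ⟨v, hv, rfl⟩; exact hc v hv)
    exact hgN (hle (hR ▸ Subgroup.mem_top g))
  obtain ⟨v, hv, hvy⟩ := hperp _ hw
  have hv0 : Q v ≠ 0 := by rw [hv]; exact hw
  obtain ⟨a, ha⟩ := exists_conj_refl hQ hw hv0 (by rw [hv])
  have hvN : refl hv0 ∉ N := fun hm => hwN (by
    have := hN.conj_mem _ hm a⁻¹
    rw [ha] at this
    simpa [mul_assoc] using this)
  refine ⟨refl hv0 * g, (Subgroup.mul_mem_iff_of_index_two h2).2 (iff_of_false hvN hgN), ?_⟩
  rw [mul_smul, show g • x = y from hg, smul_def, refl_apply, hvy, mul_zero, zero_smul, sub_zero]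

end Index

/-- The weights of the three-space. -/
abbrev w3 (σ : F) : Fin 3 → F := ![1, 1, σ]

omit [Fintype F] in
theorem w3_ne {σ : F} (hσ : σ ≠ 0) : ∀ i, w3 σ i ≠ 0 := fun i => by
  fin_cases i <;> simp [w3, hσ]

omit [Fintype F] in
theorem wQ3_apply (σ : F) (x : Fin 3 → F) :
    wQ (w3 σ) x = x 0 * x 0 + x 1 * x 1 + σ * (x 2 * x 2) := by
  rw [wQ_apply, Fin.sum_univ_three]
  simp [w3]

omit [Fintype F] in
theorem polar_wQ3 (σ : F) (x y : Fin 3 → F) :
    polar (wQ (w3 σ)) x y = 2 * (x 0 * y 0 + x 1 * y 1 + σ * (x 2 * y 2)) := by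
  rw [polar_wQ, Fin.sum_univ_three]
  simp [w3]

theorem perp_universal (h2 : (2 : F) ≠ 0) {σ : F} (hσ : σ ≠ 0) {y : Fin 3 → F} (hy : y 2 = 0)
    (hy' : y 0 * y 0 + y 1 * y 1 ≠ 0) (c : F) :
    ∃ v, wQ (w3 σ) v = c ∧ polar (wQ (w3 σ)) y v = 0 := by
  obtain ⟨a, b, hab⟩ := exists_sum_two_squares h2 hy' hσ c
  refine ⟨![-(y 1) * a, y 0 * a, b], ?_, ?_⟩
  · rw [wQ3_apply]; simp; linear_combination hab
  · rw [polar_wQ3]; simp [hy]; right; ring

theorem reflGroup_wQ3 (h2 : (2 : F) ≠ 0) {σ : F} (hσ : σ ≠ 0) :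
    reflGroup (wQ (w3 σ)) = ⊤ :=
  reflGroup_pi_eq_top (wQ_nondegenerate h2 (w3_ne hσ)) (hex_of_two_ne_zero h2)

/-- The position of a reflection vector that gives only a small group. -/
def Narrow (σ : F) (u : Fin 3 → F) : Prop :=
  2 * σ * u 2 ^ 2 = 1 ∧ (u 0 = 0 ∨ u 1 = 0 ∨ (4 * u 0 ^ 2 = 1 ∧ 4 * u 1 ^ 2 = 1))

set_option maxRecDepth 100000 in
set_option maxHeartbeats 4000000 in
theorem perm_four_fact : ∀ r : Equiv.Perm (Fin 4), r ^ 4 = 1 → r ^ 2 ≠ 1 →
    ∀ s : Equiv.Perm (Fin 4), s * s = 1 → s * r * s = r⁻¹ → ∀ g : Equiv.Perm (Fin 4),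
      g * r ^ 2 * g⁻¹ = r ^ 2 ∨ g * r ^ 2 * g⁻¹ = s ∨ g * r ^ 2 * g⁻¹ = s * r ∨
        g * r ^ 2 * g⁻¹ = s * r ^ 2 ∨ g * r ^ 2 * g⁻¹ = s * r ^ 3 := by decide

set_option maxRecDepth 100000 in
theorem alt_four_fact : ∀ g : alternatingGroup (Fin 4), g ^ 4 = 1 → g ^ 2 = 1 := by decide

set_option maxRecDepth 100000 in
theorem alt_five_fact : ∀ g : alternatingGroup (Fin 5), g ^ 4 = 1 → g ^ 2 = 1 := by decide

theorem dihedral_fact {n : ℕ} (r : DihedralGroup n) (h4 : r ^ 4 = 1) (h2 : r ^ 2 ≠ 1)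
    (g : DihedralGroup n) : g * r ^ 2 * g⁻¹ = r ^ 2 := by
  cases r with
  | sr i => exact absurd (by rw [pow_two, DihedralGroup.sr_mul_self]) h2
  | r i =>
    rw [pow_succ, pow_succ, pow_succ, pow_one, DihedralGroup.r_mul_r, DihedralGroup.r_mul_r,
      DihedralGroup.r_mul_r, DihedralGroup.one_def] at h4
    have h : i + i + (i + i) = 0 := by
      have := DihedralGroup.r.inj h4
      rw [← this]; ring
    rw [pow_two, DihedralGroup.r_mul_r]
    cases g with
    | r k => rw [DihedralGroup.r_mul_r, DihedralGroup.inv_r, DihedralGroup.r_mul_r]; congr 1; ring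
    | sr k =>
      rw [DihedralGroup.sr_mul_r, DihedralGroup.inv_sr, DihedralGroup.sr_mul_sr]
      congr 1
      linear_combination -h

/-- The linear action over a larger field. -/
noncomputable def extHom {L : Type*} [Field L] (f : F →+* L) {Q : QuadraticForm F (Fin 3 → F)} :
    OQ Q →* Module.End L (Fin 3 → L) where
  toFun g := Matrix.toLin' ((LinearMap.toMatrix' ((g : (Fin 3 → F) ≃ₗ[F] (Fin 3 → F)) :
    (Fin 3 → F) →ₗ[F] (Fin 3 → F))).map f)
  map_one' := by
    rw [show (((1 : OQ Q) : (Fin 3 → F) ≃ₗ[F] (Fin 3 → F)) : (Fin 3 → F) →ₗ[F] (Fin 3 → F)) =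
      LinearMap.id from rfl, LinearMap.toMatrix'_id, Matrix.map_one f (map_zero f) (map_one f),
      Matrix.toLin'_one]
    rfl
  map_mul' g h := by
    rw [show (((g * h : OQ Q) : (Fin 3 → F) ≃ₗ[F] (Fin 3 → F)) : (Fin 3 → F) →ₗ[F] (Fin 3 → F)) =
      ((g : (Fin 3 → F) ≃ₗ[F] (Fin 3 → F)) : (Fin 3 → F) →ₗ[F] (Fin 3 → F)) ∘ₗ
        ((h : (Fin 3 → F) ≃ₗ[F] (Fin 3 → F)) : (Fin 3 → F) →ₗ[F] (Fin 3 → F)) from rfl,
      LinearMap.toMatrix'_comp, Matrix.map_mul, Matrix.toLin'_mul]
    rfl

omit [Fintype F] in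
theorem extHom_ee {L : Type*} [Field L] (f : F →+* L) {Q : QuadraticForm F (Fin 3 → F)} (g : OQ Q)
    (i j : Fin 3) : extHom f g (Pi.single j 1) i = f ((g • ee j : Fin 3 → F) i) := by
  show Matrix.toLin' _ (Pi.single j 1) i = _
  rw [Matrix.toLin'_apply, Matrix.mulVec_single_one]
  simp [LinearMap.toMatrix'_apply, smul_def, ee, Pi.single_apply]

/-- A dichotomy for the set of vectors preserved by a group of isometries. -/
theorem big_or_narrow {p : ℕ} [Fact p.Prime] [CharP F p] (hp5 : 5 ≤ p)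
    (hF : Fintype.card F = p) {σ : F} (hσ : σ ≠ 0) (P : (Fin 3 → F) → Prop)
    (hneg : ∀ x, P x → P (-x))
    (hrefl : ∀ v, P v → ∀ h : wQ (w3 σ) v ≠ 0, ∀ x, P x → P (refl h • x))
    (h0 : P (ee 0)) (h1 : P (ee 1)) (hswap : ∀ x, P x → P ![x 1, x 0, x 2])
    {u : Fin 3 → F} (hu : P u) (huQ : wQ (w3 σ) u = 1) (hu2 : u 2 ≠ 0)
    (hu01 : u 0 ≠ 0 ∨ u 1 ≠ 0) :
    (∀ x, wQ (w3 σ) x = 1 → P x) ∨ Narrow σ u := by
  classical
  haveI : Finite ((Fin 3 → F) ≃ₗ[F] (Fin 3 → F)) :=
    Finite.of_injective (fun e => (⇑e : (Fin 3 → F) → (Fin 3 → F))) DFunLike.coe_injective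
  have hpr : p.Prime := Fact.out
  have h2 : (2 : F) ≠ 0 := fun h => by
    rw [show (2 : F) = ((2 : ℕ) : F) from rfl, CharP.cast_eq_zero_iff F p] at h
    have := Nat.le_of_dvd two_pos h; omega
  set Q := wQ (w3 σ) with hQdef
  have hQx : ∀ x, Q x = x 0 * x 0 + x 1 * x 1 + σ * (x 2 * x 2) := wQ3_apply σ
  have hQp : ∀ x y, polar Q x y = 2 * (x 0 * y 0 + x 1 * y 1 + σ * (x 2 * y 2)) := polar_wQ3 σ
  have hQnd : (polarBilin Q).Nondegenerate := wQ_nondegenerate h2 (w3_ne hσ)
  let H : Subgroup (OQ Q) :=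
    { carrier := {g | ∀ x, P x ↔ P (g • x)}
      one_mem' := fun x => by rw [one_smul]
      mul_mem' := fun {a b} ha hb x => by rw [hb x, ha (b • x), mul_smul]
      inv_mem' := fun {a} ha x => by rw [ha (a⁻¹ • x), smul_inv_smul] }
  have memH : ∀ g : OQ Q, g * g = 1 → (∀ x, P x → P (g • x)) → g ∈ H := fun g hg hP x =>
    ⟨hP x, fun h => by have := hP _ h; rwa [← mul_smul, hg, one_smul] at this⟩
  -- the elements
  set Z : OQ Q := flipO (w3 σ) Finset.univ with hZ
  have hZx : ∀ x : Fin 3 → F, Z • x = -x := fun x => funext fun i => by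
    rw [hZ, flipO_apply, if_pos (Finset.mem_univ i)]; rfl
  have hZH : Z ∈ H := memH _ (flipO_sq _) fun x hx => by rw [hZx]; exact hneg x hx
  have hq0 : Q (ee 0) = 1 := by rw [hQx]; simp
  have hq1 : Q (ee 1) = 1 := by rw [hQx]; simp
  have hn0 : Q (ee 0) ≠ 0 := by rw [hq0]; exact one_ne_zero
  have hn1 : Q (ee 1) ≠ 0 := by rw [hq1]; exact one_ne_zero
  have hnu : Q u ≠ 0 := by rw [huQ]; exact one_ne_zero
  have hqP : Q ![1, -1, 0] = 2 := by rw [hQx]; simp [Matrix.cons_val_two, Matrix.vecHead, Matrix.vecTail]; norm_num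
  have hqP' : Q ![1, 1, 0] = 2 := by rw [hQx]; simp [Matrix.cons_val_two, Matrix.vecHead, Matrix.vecTail]; norm_num
  have hnP : Q ![1, -1, 0] ≠ 0 := by rw [hqP]; exact h2
  have hnP' : Q ![1, 1, 0] ≠ 0 := by rw [hqP']; exact h2
  set R0 : OQ Q := refl hn0 with hR0
  set R1 : OQ Q := refl hn1 with hR1
  set S : OQ Q := refl hnP with hS
  set S' : OQ Q := refl hnP' with hS'
  set U : OQ Q := refl hnu with hU
  have R0x : ∀ x : Fin 3 → F, R0 • x = ![-x 0, x 1, x 2] := fun x => funext fun i => by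
    rw [hR0, smul_def, refl_apply, hq0, hQp]
    fin_cases i <;> simp <;> ring
  have R1x : ∀ x : Fin 3 → F, R1 • x = ![x 0, -x 1, x 2] := fun x => funext fun i => by
    rw [hR1, smul_def, refl_apply, hq1, hQp]
    fin_cases i <;> simp <;> ring
  have Sx : ∀ x : Fin 3 → F, S • x = ![x 1, x 0, x 2] := fun x => funext fun i => by
    rw [hS, smul_def, refl_apply, hqP, hQp]
    fin_cases i <;> simp [h2] <;> field_simp <;> ring
  have S'x : ∀ x : Fin 3 → F, S' • x = ![-x 1, -x 0, x 2] := fun x => funext fun i => by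
    rw [hS', smul_def, refl_apply, hqP', hQp]
    fin_cases i <;> simp [h2] <;> field_simp <;> ring
  have hR0H : R0 ∈ H := memH _ (refl_mul_self _) (hrefl _ h0 hn0)
  have hR1H : R1 ∈ H := memH _ (refl_mul_self _) (hrefl _ h1 hn1)
  have hSH : S ∈ H := memH _ (refl_mul_self _) fun x hx => by rw [Sx]; exact hswap x hx
  have hUH : U ∈ H := memH _ (refl_mul_self _) (hrefl _ hu hnu)
  set C : OQ Q := R0 * R1 with hC
  set ρ : OQ Q := S * R0 with hρ
  have hCH : C ∈ H := mul_mem hR0H hR1H
  have hρH : ρ ∈ H := mul_mem hSH hR0H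
  have Cx : ∀ x : Fin 3 → F, C • x = ![-x 0, -x 1, x 2] := fun x => by
    rw [hC, mul_smul, R1x, R0x]; simp
  have hρ2 : ρ ^ 2 = C := eq_of_smul fun x => by
    rw [pow_two, hρ, mul_smul, mul_smul, mul_smul, R0x, Sx, R0x, Sx, Cx]; simp
  have hρ4 : ρ ^ 4 = 1 := by
    rw [(pow_add ρ 2 2 : ρ ^ 4 = _), hρ2]
    exact eq_of_smul fun x => by rw [mul_smul, Cx, Cx, one_smul]; ext i; fin_cases i <;> simp
  have hsr : R0 * ρ = S' := eq_of_smul fun x => by
    rw [hρ, mul_smul, mul_smul, R0x, Sx, R0x, S'x]; simp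
  have hsr2 : R0 * ρ ^ 2 = R1 := by rw [hρ2, hC, ← mul_assoc, refl_mul_self, one_mul]
  have hsr3 : R0 * ρ ^ 3 = S := by
    rw [pow_succ, ← mul_assoc, hsr2]
    refine eq_of_smul fun x => ?_
    rw [hρ, mul_smul, mul_smul, R0x, Sx, R1x, Sx]
    simp
  have hsrs : R0 * ρ * R0 = ρ⁻¹ := by
    rw [hρ, _root_.mul_inv_rev, ← mul_assoc, mul_assoc (R0 * S), refl_mul_self, mul_one,
      inv_eq_of_mul_eq_one_right (refl_mul_self hn0), inv_eq_of_mul_eq_one_right (refl_mul_self hnP)]
  -- determinants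
  let δ : OQ Q →* Fˣ := LinearEquiv.det.comp (OQ Q).subtype
  have hδ : ∀ (v : Fin 3 → F) (hv : Q v ≠ 0), δ (refl hv) = -1 := fun v hv => Units.ext (by
    rw [show ((δ (refl hv) : Fˣ) : F) = LinearMap.det (reflMap Q v) from LinearEquiv.coe_det _,
      det_refl hv]; rfl)
  have hδZ : δ Z = -1 := by
    have h2n : Q (ee 2) ≠ 0 := by rw [hQx]; simp [hσ]
    have : Z = R0 * R1 * Quad.refl h2n := eq_of_smul fun x => by
      rw [mul_smul, hZx, show Quad.refl h2n • x = ![x 0, x 1, -x 2] from funext fun i => by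
        rw [smul_def, refl_apply, hQx, hQp]
        fin_cases i <;> simp <;> field_simp <;> ring, ← hC, Cx]
      ext i; fin_cases i <;> simp
    rw [this, map_mul, map_mul, hδ, hδ, hδ]; simp
  have hne1 : (-1 : Fˣ) ≠ 1 := fun h => h2 (by
    have := congrArg (fun z : Fˣ => (z : F)) h
    simp at this; linear_combination -this)
  -- the map to the Möbius group
  let L := AlgebraicClosure F
  let f : F →+* L := algebraMap F L
  haveI : CharP L p := charP_of_injective_algebraMap f.injective p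
  have hL2 : (2 : L) ≠ 0 := by rw [← map_ofNat f 2]; exact (map_ne_zero f).2 h2
  let B : LinearMap.BilinForm L (Fin 3 → L) :=
    Matrix.toBilin' (Matrix.diagonal fun i => f (w3 σ i))
  have hB : ∀ a b : Fin 3 → L, B a b = ∑ i, f (w3 σ i) * (a i * b i) := fun a b => by
    simp only [B, Matrix.toBilin'_apply', Matrix.mulVec_diagonal, dotProduct]
    exact Finset.sum_congr rfl fun i _ => by ring
  have hBinv : ∀ (g : H) (a b : Fin 3 → L),
      B (extHom f (g : OQ Q) a) (extHom f (g : OQ Q) b) = B a b := by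
    intro g a b
    have hB' : B.compl₁₂ (extHom f (g : OQ Q)) (extHom f (g : OQ Q)) = B := by
      refine LinearMap.BilinForm.ext_basis (Pi.basisFun L (Fin 3)) fun i j => ?_
      rw [Pi.basisFun_apply, Pi.basisFun_apply, LinearMap.compl₁₂_apply, hB, hB]
      have key := OQ.map_polar (g : OQ Q) (ee i) (ee j)
      simp only [← smul_def] at key
      rw [show ∀ x y, polar Q x y = 2 * ∑ k, w3 σ k * (x k * y k) from polar_wQ (w3 σ)] at key
      rw [show ∀ x y, polar Q x y = 2 * ∑ k, w3 σ k * (x k * y k) from polar_wQ (w3 σ)] at key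
      have key' := congrArg f (mul_left_cancel₀ h2 key)
      simp only [map_sum, map_mul] at key'
      simp only [extHom_ee]
      rw [key']
      refine Finset.sum_congr rfl fun k _ => ?_
      simp only [ee, Pi.single_apply]
      split_ifs <;> simp
    exact congrArg (fun M : LinearMap.BilinForm L (Fin 3 → L) => M a b) hB'
  obtain ⟨i₀, hi₀⟩ := IsAlgClosed.exists_pow_nat_eq (-1 : L) (n := 2) two_pos
  obtain ⟨φ, hφ⟩ := CfsgLib.Char.HalfDegree.exists_mob_hom hL2 ((extHom f).comp H.subtype) B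
    (fun a b => by rw [hB, hB]; exact Finset.sum_congr rfl fun i _ => by ring)
    (fun a ha => funext fun i => by
      have := ha (Pi.single i 1)
      rw [hB, Finset.sum_eq_single i (fun j _ hj => by simp [hj]) (by simp)] at this
      simpa [(map_ne_zero f).2 (w3_ne hσ i)] using this)
    hBinv (v := ![1, i₀, 0])
    (fun h => (one_ne_zero : (1 : L) ≠ 0) (by simpa using congrFun h 0))
    (by rw [hB, Fin.sum_univ_three]; simp [w3]; linear_combination hi₀)
  have hker : ∀ g : H, φ g = 1 → (g : OQ Q) = 1 ∨ (g : OQ Q) = Z := by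
    intro g hg
    rcases (hφ g).1 hg with h | h
    · left
      refine eq_of_smul_ee (w := w3 σ) fun j => funext fun i => f.injective ?_
      rw [one_smul, ← extHom_ee f (g : OQ Q) i j, show extHom f (g : OQ Q) = 1 from h,
        Module.End.one_apply]
      simp [Pi.single_apply, apply_ite f]
    · right
      refine eq_of_smul_ee (w := w3 σ) fun j => funext fun i => f.injective ?_
      rw [hZx, ← extHom_ee f (g : OQ Q) i j, show extHom f (g : OQ Q) = -1 from h,
        LinearMap.neg_apply, Module.End.one_apply]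
      simp [Pi.single_apply, apply_ite f]
  have hCne : φ ⟨C, hCH⟩ ≠ 1 := by
    intro h
    rcases hker _ h with e | e <;> dsimp only at e
    · have := congrArg (fun g : OQ Q => (g • (ee 0 : Fin 3 → F)) 0) e
      simp [Cx] at this
      exact h2 (by linear_combination -this)
    · have := congrArg (fun g : OQ Q => (g • (ee 2 : Fin 3 → F)) 2) e
      simp [Cx, hZx] at this
      exact h2 (by linear_combination this)
  set G := φ.range
  haveI : Finite G := Finite.of_surjective _ φ.rangeRestrict_surjective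
  set r : H := ⟨ρ, hρH⟩
  set s : H := ⟨R0, hR0H⟩
  set t : H := ⟨U, hUH⟩
  have hr2 : r ^ 2 = ⟨C, hCH⟩ := Subtype.ext (by rw [Subgroup.coe_pow]; exact hρ2)
  have hr4 : r ^ 4 = 1 := Subtype.ext (by rw [Subgroup.coe_pow]; exact hρ4)
  have r4 : φ.rangeRestrict r ^ 4 = 1 := by rw [← map_pow, hr4, map_one]
  have r2 : φ.rangeRestrict r ^ 2 ≠ 1 := fun h => hCne (by
    rw [← map_pow, hr2] at h; exact congrArg Subtype.val h)
  -- the conclusion from the image of the conjugate half-turn
  have hne : ∀ X : H, φ.rangeRestrict (t * r ^ 2 * t⁻¹) = φ.rangeRestrict X →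
      U * C * U = (X : OQ Q) ∨ U * C * U = (X : OQ Q) * Z := by
    intro X hX
    have hX' : φ ((X)⁻¹ * (t * r ^ 2 * t⁻¹)) = 1 := by
      rw [map_mul, map_inv, inv_mul_eq_one]; exact (congrArg Subtype.val hX).symm
    have hv : ((t * r ^ 2 * t⁻¹ : H) : OQ Q) = U * C * U := by
      rw [hr2, Subgroup.coe_mul, Subgroup.coe_mul, Subgroup.coe_inv]
      show U * C * U⁻¹ = _
      rw [inv_eq_of_mul_eq_one_right (refl_mul_self hnu)]
    rcases hker _ hX' with e | e <;> rw [Subgroup.coe_mul, Subgroup.coe_inv, hv] at e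
    · exact Or.inl (inv_mul_eq_one.1 e).symm
    · exact Or.inr (inv_mul_eq_iff_eq_mul.1 e)
  set v : Fin 3 → F := U • ee 2 with hv
  have hv' : ∀ i, v i = (ee 2 : Fin 3 → F) i - 2 * σ * u 2 * u i := fun i => by
    rw [hv, hU, smul_def, refl_apply, huQ, hQp]
    simp; left; ring
  have hcv : (U * C * U) • v = v := by
    rw [hv, ← mul_smul, mul_assoc _ U U, refl_mul_self, mul_one, mul_smul]
    congr 1
    rw [Cx]; ext i; fin_cases i <;> simp
  have hδc : δ (U * C * U) = 1 := by
    rw [map_mul, map_mul, hC, map_mul, hδ, hδ, hδ]; simp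
  have hv0 : v 0 = -(2 * σ * u 2 * u 0) := by rw [hv']; simp
  have hv1 : v 1 = -(2 * σ * u 2 * u 1) := by rw [hv']; simp
  have hv2 : v 2 = 1 - 2 * σ * u 2 ^ 2 := by rw [hv']; simp; ring
  have hu' : u 0 * u 0 + u 1 * u 1 + σ * (u 2 * u 2) = 1 := by rw [← huQ, hQx]
  have h2su : 2 * σ * u 2 ≠ 0 := mul_ne_zero (mul_ne_zero h2 hσ) hu2
  have hcase : ∀ X : OQ Q, X = C ∨ X = R0 ∨ X = S' ∨ X = R1 ∨ X = S →
      (U * C * U = X ∨ U * C * U = X * Z) → Narrow σ u := by
    intro X hX hc
    have half : ∀ e : F, v 0 = e * v 1 → e * e = 1 → v 2 = 0 → Narrow σ u := by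
      intro e h01 he h20
      rw [hv2] at h20
      rw [hv0, hv1] at h01
      have h : u 0 = e * u 1 := mul_left_cancel₀ h2su (by linear_combination -h01)
      have hsum : u 0 * u 0 + u 1 * u 1 = 1 - σ * (u 2 * u 2) := by linear_combination hu'
      refine ⟨by linear_combination -h20, Or.inr (Or.inr ⟨?_, ?_⟩)⟩
      · linear_combination (2 : F) * hsum + h20 + (2 * (u 0 + e * u 1)) * h +
          2 * u 1 ^ 2 * he
      · linear_combination (2 : F) * hsum + h20 - (2 * (u 0 + e * u 1)) * h -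
          2 * u 1 ^ 2 * he
    rcases hc with hc | hc
    · rcases hX with rfl | rfl | rfl | rfl | rfl
      · exfalso
        rw [hc, Cx] at hcv
        have e0 := congrFun hcv 0
        have e1 := congrFun hcv 1
        simp [hv0, hv1] at e0 e1
        rcases hu01 with h | h
        · exact h ((mul_eq_zero.1 ((mul_eq_zero.1 (show (2 : F) * ((2 * σ * u 2) * u 0) = 0 by
            linear_combination e0)).resolve_left h2)).resolve_left h2su)
        · exact h ((mul_eq_zero.1 ((mul_eq_zero.1 (show (2 : F) * ((2 * σ * u 2) * u 1) = 0 by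
            linear_combination e1)).resolve_left h2)).resolve_left h2su)
      all_goals
        rw [hc, hδ] at hδc
        exact absurd hδc hne1
    · rcases hX with rfl | rfl | rfl | rfl | rfl
      · rw [hc, map_mul, hδZ, hC, map_mul, hδ, hδ] at hδc
        simp at hδc
        exact absurd hδc hne1
      · rw [hc, mul_smul, hZx, R0x] at hcv
        have e1 := congrFun hcv 1
        have e2 := congrFun hcv 2
        simp at e1 e2
        have a1 : v 1 = 0 := (mul_eq_zero.1 (show (2 : F) * v 1 = 0 by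
          linear_combination -e1)).resolve_left h2
        have a2 : v 2 = 0 := (mul_eq_zero.1 (show (2 : F) * v 2 = 0 by
          linear_combination -e2)).resolve_left h2
        rw [hv2] at a2
        rw [hv1, neg_eq_zero] at a1
        exact ⟨by linear_combination -a2, Or.inr (Or.inl ((mul_eq_zero.1 a1).resolve_left h2su))⟩
      · rw [hc, mul_smul, hZx, S'x] at hcv
        have e0 := congrFun hcv 0
        have e2 := congrFun hcv 2
        simp at e0 e2
        exact half 1 (by linear_combination -e0) (one_mul _)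
          ((mul_eq_zero.1 (show (2 : F) * v 2 = 0 by linear_combination -e2)).resolve_left h2)
      · rw [hc, mul_smul, hZx, R1x] at hcv
        have e0 := congrFun hcv 0
        have e2 := congrFun hcv 2
        simp at e0 e2
        have a0 : v 0 = 0 := (mul_eq_zero.1 (show (2 : F) * v 0 = 0 by
          linear_combination -e0)).resolve_left h2
        have a2 : v 2 = 0 := (mul_eq_zero.1 (show (2 : F) * v 2 = 0 by
          linear_combination -e2)).resolve_left h2
        rw [hv2] at a2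
        rw [hv0, neg_eq_zero] at a0
        exact ⟨by linear_combination -a2, Or.inl ((mul_eq_zero.1 a0).resolve_left h2su)⟩
      · rw [hc, mul_smul, hZx, Sx] at hcv
        have e0 := congrFun hcv 0
        have e2 := congrFun hcv 2
        simp at e0 e2
        exact half (-1) (by linear_combination -e0) (by ring)
          ((mul_eq_zero.1 (show (2 : F) * v 2 = 0 by linear_combination -e2)).resolve_left h2)
  rcases structure_cases (p := p) (G := G) with h | h | h | h | h | h | h
  · exfalso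
    obtain ⟨gen, hgen⟩ := h.1.exists_generator
    have hc : φ.rangeRestrict ⟨S, hSH⟩ * φ.rangeRestrict s =
        φ.rangeRestrict s * φ.rangeRestrict ⟨S, hSH⟩ := by
      obtain ⟨a, ha⟩ := hgen (φ.rangeRestrict ⟨S, hSH⟩)
      obtain ⟨b, hb⟩ := hgen (φ.rangeRestrict s)
      rw [← ha, ← hb]
      exact (Commute.zpow_zpow_self gen a b).eq
    apply r2
    have hrs : r = ⟨S, hSH⟩ * s := rfl
    rw [hrs, map_mul, pow_two]
    nth_rewrite 2 [hc]
    rw [← mul_assoc, mul_assoc (φ.rangeRestrict ⟨S, hSH⟩), ← map_mul,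
      show s * s = 1 from Subtype.ext (refl_mul_self hn0), map_one, mul_one, ← map_mul,
      show (⟨S, hSH⟩ : H) * ⟨S, hSH⟩ = 1 from Subtype.ext (refl_mul_self hnP), map_one]
  · obtain ⟨-, x, hx⟩ := h
    exfalso
    obtain ⟨μ, hμ, -, -⟩ := exists_stab_hom (p := p) (G := G) x
    let S₀ : MulAction.stabilizer G x := ⟨φ.rangeRestrict ⟨S, hSH⟩, hx _⟩
    let s₀ : MulAction.stabilizer G x := ⟨φ.rangeRestrict s, hx _⟩
    have hμC : μ ((S₀ * s₀) ^ 2) = 1 := by
      have hS : μ S₀ * μ S₀ = 1 := by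
        rw [← map_mul, show S₀ * S₀ = 1 from Subtype.ext (by
          show φ.rangeRestrict _ * φ.rangeRestrict _ = 1
          rw [← map_mul, show (⟨S, hSH⟩ : H) * ⟨S, hSH⟩ = 1 from Subtype.ext (refl_mul_self hnP),
            map_one]), map_one]
      have hs : μ s₀ * μ s₀ = 1 := by
        rw [← map_mul, show s₀ * s₀ = 1 from Subtype.ext (by
          show φ.rangeRestrict _ * φ.rangeRestrict _ = 1
          rw [← map_mul, show s * s = 1 from Subtype.ext (refl_mul_self hn0), map_one]), map_one]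
      rw [map_pow, map_mul, pow_two, mul_mul_mul_comm, hS, hs, one_mul]
    have hp := (hμ _).1 hμC
    have hrr : (((S₀ * s₀) ^ 2 : MulAction.stabilizer G x) : G) = φ.rangeRestrict r ^ 2 := by
      rw [Subgroup.coe_pow]
      congr 1
      exact (map_mul φ.rangeRestrict ⟨S, hSH⟩ s).symm
    rw [hrr, ← pow_mul] at hp
    have h4 : orderOf (φ.rangeRestrict r) ∣ 4 := orderOf_dvd_of_pow_eq_one r4
    have h2p : orderOf (φ.rangeRestrict r) ∣ 2 * p := orderOf_dvd_of_pow_eq_one hp
    have hodd : p % 2 = 1 := (Nat.Prime.eq_two_or_odd hpr).resolve_left (by omega)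
    have hg : Nat.gcd 4 (2 * p) = 2 := by
      rw [show Nat.gcd 4 (2 * p) = Nat.gcd (2 * 2) (2 * p) from rfl, Nat.gcd_mul_left, Nat.Coprime.gcd_eq_one
        ((Nat.coprime_primes Nat.prime_two hpr).2 (by omega)), mul_one]
    have hd := Nat.dvd_gcd h4 h2p
    rw [hg] at hd
    exact r2 (orderOf_dvd_iff_pow_eq_one.1 hd)
  · obtain ⟨n, -, -, -, ⟨e⟩⟩ := h
    right
    refine hcase C (Or.inl rfl) (hne ⟨C, hCH⟩ ?_)
    apply e.injective
    rw [← hr2]
    simp only [map_mul, map_inv, map_pow]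
    exact dihedral_fact (e (φ.rangeRestrict r)) (by rw [← map_pow, r4, map_one])
      (fun hh => r2 (e.injective (by rw [map_pow, hh, map_one]))) _
  · obtain ⟨e⟩ := h
    exact absurd (e.injective (by
      rw [map_pow, map_one]; exact alt_four_fact _ (by rw [← map_pow, r4, map_one]))) r2
  · obtain ⟨e⟩ := h
    right
    have hss : e (φ.rangeRestrict s) * e (φ.rangeRestrict s) = 1 := by
      rw [← map_mul, ← map_mul, show s * s = 1 from Subtype.ext (refl_mul_self hn0), map_one,
        map_one]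
    have hsrs' : e (φ.rangeRestrict s) * e (φ.rangeRestrict r) * e (φ.rangeRestrict s) =
        (e (φ.rangeRestrict r))⁻¹ := by
      simp only [← map_mul, ← map_inv]
      congr 2
      exact Subtype.ext hsrs
    have key := perm_four_fact _ (by rw [← map_pow, r4, map_one])
      (fun hh => r2 (e.injective (by rw [map_pow, hh, map_one]))) _ hss hsrs'
      (e (φ.rangeRestrict t))
    simp only [← map_pow, ← map_mul, ← map_inv] at key
    rcases key with k | k | k | k | k
    · exact hcase C (Or.inl rfl) (hne ⟨C, hCH⟩ (by rw [← hr2]; exact e.injective k))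
    · exact hcase R0 (Or.inr (Or.inl rfl)) (hne _ (e.injective k))
    · refine hcase S' (Or.inr (Or.inr (Or.inl rfl))) ?_
      have := hne _ (e.injective k)
      rwa [Subgroup.coe_mul, show (s : OQ Q) * (r : OQ Q) = S' from hsr] at this
    · refine hcase R1 (Or.inr (Or.inr (Or.inr (Or.inl rfl)))) ?_
      have := hne _ (e.injective k)
      rwa [Subgroup.coe_mul, Subgroup.coe_pow, show (s : OQ Q) * (r : OQ Q) ^ 2 = R1 from hsr2] at this
    · refine hcase S (Or.inr (Or.inr (Or.inr (Or.inr rfl)))) ?_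
      have := hne _ (e.injective k)
      rwa [Subgroup.coe_mul, Subgroup.coe_pow, show (s : OQ Q) * (r : OQ Q) ^ 3 = S from hsr3] at this
  · obtain ⟨e⟩ := h
    exact absurd (e.injective (by
      rw [map_pow, map_one]; exact alt_five_fact _ (by rw [← map_pow, r4, map_one]))) r2
  · left
    obtain ⟨K, h, hK, hKG⟩ := exists_subfield h
    haveI : Finite K := hK
    letI : Fintype K := Fintype.ofFinite K
    haveI : CharP K p := (K.subtype.charP_iff K.subtype.injective p).2 inferInstance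
    obtain ⟨n, hn⟩ : ∃ n : ℕ+, Fintype.card K = p ^ (n : ℕ) := by
      obtain ⟨m, -, hm⟩ := FiniteField.card K p
      exact ⟨m, hm⟩
    have hq : p ≤ Fintype.card K := by
      rw [hn]; exact Nat.le_self_pow n.ne_zero p
    have hpsl : Nat.card (Matrix.ProjectiveSpecialLinearGroup (Fin 2) K) ≤ Nat.card G := by
      rw [Nat.card_congr (G.equivMapOfInjective (MulAut.conj h).toMonoidHom
        (MulAut.conj h).injective).toEquiv]
      haveI : Finite (G.map (MulAut.conj h).toMonoidHom) :=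
        Finite.of_equiv _ (G.equivMapOfInjective (MulAut.conj h).toMonoidHom
          (MulAut.conj h).injective).toEquiv
      rcases hKG with e | ⟨-, e⟩
      · refine le_trans (le_of_eq
          (Nat.card_congr (MonoidHom.ofInjective (mapPSL_injective K)).toEquiv))
          (Subgroup.card_le_of_le ?_)
        rw [e]
        rintro _ ⟨a, rfl⟩
        exact ⟨_, rfl⟩
      · rw [e]
        exact le_of_eq (Nat.card_congr (MonoidHom.ofInjective (mapPSL_injective K)).toEquiv)
    have hG : p * (p ^ 2 - 1) ≤ 2 * Nat.card G := by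
      calc p * (p ^ 2 - 1) ≤ Fintype.card K * (Fintype.card K ^ 2 - 1) :=
            Nat.mul_le_mul hq (Nat.sub_le_sub_right (Nat.pow_le_pow_left hq 2) 1)
        _ = Nat.gcd 2 (Fintype.card K - 1) *
              Nat.card (Matrix.ProjectiveSpecialLinearGroup (Fin 2) K) := Two.card_PSL_two.symm
        _ ≤ 2 * Nat.card G := Nat.mul_le_mul (Nat.le_of_dvd two_pos (Nat.gcd_dvd_left _ _)) hpsl
    have hHcard : 2 * Nat.card G ≤ Nat.card H := by
      rw [← Subgroup.card_mul_index φ.ker, Subgroup.index_ker]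
      refine Nat.mul_le_mul_right _ ?_
      haveI : Nontrivial φ.ker := ⟨⟨1, one_mem _⟩, ⟨⟨Z, hZH⟩, (hφ _).2 (Or.inr (by
        refine (Pi.basisFun L (Fin 3)).ext fun j => funext fun i => ?_
        show extHom f Z (Pi.basisFun L (Fin 3) j) i = -(Pi.basisFun L (Fin 3) j) i
        rw [Pi.basisFun_apply, extHom_ee, hZx, Pi.neg_apply, map_neg]
        simp [Pi.single_apply, apply_ite f]))⟩, fun e => h2 (by
          have := congrArg (fun g : φ.ker => (((g : H) : OQ Q) • (ee 0 : Fin 3 → F)) 0) e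
          simp [hZx] at this
          linear_combination this)⟩
      exact Finite.one_lt_card
    have hO : Nat.card (OQ Q) = 2 * p ^ 1 * (p ^ 2 - 1) := by
      have := OrthFieldExt.card_OQ_odd h2 hQnd (k := 1) (by rw [Module.finrank_pi, Fintype.card_fin])
      simpa [hF] using this
    have hidx : H.index = 1 ∨ H.index = 2 := by
      have e := H.card_mul_index
      rw [hO, pow_one] at e
      have hpos : 0 < p * (p ^ 2 - 1) := Nat.mul_pos hpr.pos (by
        have := Nat.pow_le_pow_left hp5 2; omega)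
      have hHi : (p * (p ^ 2 - 1)) * H.index ≤ 2 * (p * (p ^ 2 - 1)) := by
        calc (p * (p ^ 2 - 1)) * H.index ≤ Nat.card H * H.index :=
              Nat.mul_le_mul_right _ (hG.trans hHcard)
          _ = _ := by rw [e]; ring
      have hle : H.index ≤ 2 := Nat.le_of_mul_le_mul_left (by linarith) hpos
      have : H.index ≠ 0 := Subgroup.index_ne_zero_of_finite
      omega
    intro x hx
    obtain ⟨g, hgH, hg⟩ := exists_mem_map_of_index hQnd (reflGroup_wQ3 h2 hσ) hidx (x := x)
      (y := ee 0) (by rw [hx]; exact one_ne_zero) (by rw [hx, hq0])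
      fun c _ => perp_universal h2 hσ (by simp) (by simp) c
    exact (hgH x).2 (hg ▸ h0)

end CfsgLib.Geo.Frame
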