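import Cfsg.Agent.Lib.Geo.Frame.Roots
import Cfsg.Agent.Lib.Geo.Frame.Three

/-!
Roots of small support: either all unit vectors are roots, or the small ones are monomial.
-/

set_option autoImplicit false
set_option maxHeartbeats 800000

namespace CfsgLib.Geo.Frame

open CfsgLib.Classical CfsgLib.Classical.Quad
open QuadraticMap (polar polarBilin)

universe u

variable {F : Type u} [Field F] {ι : Type*} [Fintype ι] [DecidableEq ι]
  {K : Subgroup (OQ (fQ F ι))}

/-- Some three-set supports only roots. -/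
def Big (K : Subgroup (OQ (fQ F ι))) : Prop :=
  ∃ T : Finset ι, T.card = 3 ∧ ∀ u : ι → F, u ⬝ᵥ u = 1 → (∀ i ∉ T, u i = 0) → Root K u

/-- All small roots are of monomial shape. -/
def Good (K : Subgroup (OQ (fQ F ι))) : Prop :=
  ∀ u : ι → F, Root K u → ∀ T : Finset ι, T.card ≤ 4 → (∀ i ∉ T, u i = 0) → Shape u

omit [Fintype ι] in
theorem not_shape_three {u : ι → F} {a b c : ι} (hab : a ≠ b) (hac : a ≠ c) (hbc : b ≠ c)
    (ha : u a ≠ 0) (hb : u b ≠ 0) (hc : u c ≠ 0) : ¬ Shape u := by
  rintro (⟨z, hz⟩ | ⟨x, y, -, hz, -, -⟩)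
  · have h1 : a = z := by by_contra h; exact ha (hz a h)
    have h2 : b = z := by by_contra h; exact hb (hz b h)
    exact hab (h1.trans h2.symm)
  · have key : ∀ l, u l ≠ 0 → l = x ∨ l = y := fun l hl => by
      by_contra! h; exact hl (hz l h.1 h.2)
    rcases key a ha with rfl | rfl <;> rcases key b hb with rfl | rfl <;>
      rcases key c hc with rfl | rfl <;> simp_all

theorem exists_perm_finset {S T : Finset ι} (h : S.card = T.card) :
    ∃ π : Equiv.Perm ι, ∀ i, π i ∈ T ↔ i ∈ S := by
  classical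
  refine ⟨(Finset.equivOfCardEq h).extendSubtype, fun i => ⟨fun hi => ?_, fun hi => ?_⟩⟩
  · by_contra hS
    exact Equiv.extendSubtype_not_mem _ i hS hi
  · exact Equiv.extendSubtype_mem _ i hi

theorem exists_two_zero {u : ι → F} {T : Finset ι} (hT : ∀ i ∉ T, u i = 0)
    (hn : T.card + 2 ≤ Fintype.card ι) : ∃ c d, c ≠ d ∧ u c = 0 ∧ u d = 0 := by
  obtain ⟨c, hc, d, hd, hcd⟩ := Finset.one_lt_card.1
    (show 1 < (Finset.univ \ T).card by rw [Finset.card_univ_diff]; omega)
  exact ⟨c, d, hcd, hT c (Finset.mem_sdiff.1 hc).2, hT d (Finset.mem_sdiff.1 hd).2⟩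

theorem root_perm_supp (hK : IsFrame K) (h2 : (2 : F) ≠ 0) {u w : ι → F} (hu : Root K u)
    {T : Finset ι} (hT : ∀ i ∉ T, u i = 0) (hn : T.card + 2 ≤ Fintype.card ι)
    (π : Equiv.Perm ι) (h : ∀ i, w i ^ 2 = u (π i) ^ 2) : Root K w := by
  obtain ⟨c, d, hcd, hc, hd⟩ := exists_two_zero hT hn
  exact root_of_sq hK h2 hu hcd (by rw [hc, hd]) π h

/-- A vector of the three-space inside the whole space. -/
def emb (a b : ι) (f : ι → F) (x : Fin 3 → F) : ι → F := x 0 • ee a + x 1 • ee b + x 2 • f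

omit [Fintype ι] in
theorem emb_apply_a {a b : ι} (hab : a ≠ b) {f : ι → F} (hfa : f a = 0) (x : Fin 3 → F) :
    emb a b f x a = x 0 := by
  simp [emb, hab, hfa]

omit [Fintype ι] in
theorem emb_apply_b {a b : ι} (hab : a ≠ b) {f : ι → F} (hfb : f b = 0) (x : Fin 3 → F) :
    emb a b f x b = x 1 := by
  simp [emb, hab.symm, hfb]

omit [Fintype ι] in
theorem emb_apply_of_ne {a b i : ι} (hia : i ≠ a) (hib : i ≠ b) (f : ι → F) (x : Fin 3 → F) :
    emb a b f x i = x 2 * f i := by
  simp [emb, hia, hib]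

theorem dot_emb {a b : ι} (hab : a ≠ b) {f : ι → F} (hfa : f a = 0) (hfb : f b = 0)
    (x y : Fin 3 → F) : emb a b f x ⬝ᵥ emb a b f y = x 0 * y 0 + x 1 * y 1 + (f ⬝ᵥ f) * (x 2 * y 2) := by
  simp only [emb, add_dotProduct, dotProduct_add, smul_dotProduct, dotProduct_smul, smul_eq_mul,
    dot_ee, ee_dot, ee_self, ee_ne hab, ee_ne hab.symm, hfa, hfb, Pi.add_apply, Pi.smul_apply]
  ring

variable [Fintype F] {p : ℕ} [Fact p.Prime] [CharP F p]

/-- The abstract dichotomy on a three-space spanned by two axes and an orthogonal vector. -/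
theorem three_space (hK : IsFrame K) (hp5 : 5 ≤ p) (hF : Fintype.card F = p) {a b : ι}
    (hab : a ≠ b) {f : ι → F} (hfa : f a = 0) (hfb : f b = 0) (hσ : f ⬝ᵥ f ≠ 0) {c d : ι}
    (hcd : c ≠ d) (hca : c ≠ a) (hcb : c ≠ b) (hda : d ≠ a) (hdb : d ≠ b) (hfcd : f c ^ 2 = f d ^ 2) {x : Fin 3 → F} (hx : Root K (emb a b f x)) (hx2 : x 2 ≠ 0)
    (hx01 : x 0 ≠ 0 ∨ x 1 ≠ 0) :
    (∀ y, wQ (w3 (f ⬝ᵥ f)) y = 1 → Root K (emb a b f y)) ∨ Narrow (f ⬝ᵥ f) x := by
  have : Nonempty ι := ⟨a⟩
  have h2 : (2 : F) ≠ 0 := fun h => by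
    rw [show (2 : F) = ((2 : ℕ) : F) from rfl, CharP.cast_eq_zero_iff F p] at h
    have := Nat.le_of_dvd two_pos h; omega
  have hQ : ∀ y, emb a b f y ⬝ᵥ emb a b f y = wQ (w3 (f ⬝ᵥ f)) y := fun y => by
    rw [dot_emb hab hfa hfb, wQ3_apply]
  refine big_or_narrow hp5 hF hσ (fun y => Root K (emb a b f y)) (fun y hy => ?_)
    (fun v hv hv0 y hy => ?_) ?_ ?_ (fun y hy => ?_) hx ((hQ x).symm.trans hx.1) hx2 hx01
  · convert root_neg hK h2 hy using 1
    simp [emb]
    module
  · have hv1 : wQ (w3 (f ⬝ᵥ f)) v = 1 := (hQ v).symm.trans hv.1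
    convert root_refl hK h2 hv hy using 1
    rw [reflU_smul hv.1, dot_emb hab hfa hfb, smul_def, refl_apply, hv1, polar_wQ3, inv_one, one_mul]
    simp [emb]
    module
  · convert root_ee hK a using 1; simp [emb]
  · convert root_ee hK b using 1; simp [emb]
  · refine root_of_sq hK h2 hy hcd ?_ (Equiv.swap a b) fun i => ?_
    · rw [emb_apply_of_ne hca hcb, emb_apply_of_ne hda hdb, mul_pow, mul_pow, hfcd]
    · by_cases hia : i = a
      · subst hia
        rw [Equiv.swap_apply_left, emb_apply_a hab hfa, emb_apply_b hab hfb]; simp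
      by_cases hib : i = b
      · subst hib
        rw [Equiv.swap_apply_right, emb_apply_a hab hfa, emb_apply_b hab hfb]; simp
      rw [Equiv.swap_apply_of_ne_of_ne hia hib, emb_apply_of_ne hia hib, emb_apply_of_ne hia hib]
      simp

theorem big_of_forall {a b c : ι} (hab : a ≠ b) (hac : a ≠ c) (hbc : b ≠ c)
    (h : ∀ y, wQ (w3 ((ee c : ι → F) ⬝ᵥ ee c)) y = 1 → Root K (emb a b (ee c) y)) : Big K := by
  refine ⟨{a, b, c}, by rw [Finset.card_eq_three]; exact ⟨a, b, c, hab, hac, hbc, rfl⟩,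
    fun u hu hsupp => ?_⟩
  have e : u = emb a b (ee c) ![u a, u b, u c] := by
    funext i
    by_cases hia : i = a
    · subst hia; simp [emb, hab, hac]
    by_cases hib : i = b
    · subst hib; simp [emb, hab.symm, hbc]
    by_cases hic : i = c
    · subst hic; simp [emb, hac.symm, hbc.symm]
    simp [emb, hia, hib, hic, hsupp i (by simp [hia, hib, hic])]
  rw [e]
  refine h _ ?_
  rw [wQ3_apply, ← dot_emb hab (ee_ne hac) (ee_ne hbc), ← e, hu]

theorem big_triple (hK : IsFrame K) (hp5 : 5 ≤ p) (hF : Fintype.card F = p)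
    (hn : 5 ≤ Fintype.card ι) {u : ι → F} (hu : Root K u) {T : Finset ι} (hT : T.card ≤ 3)
    (hsupp : ∀ i ∉ T, u i = 0) (hs : ¬ Shape u) : Big K := by
  have h2 : (2 : F) ≠ 0 := fun h => by
    rw [show (2 : F) = ((2 : ℕ) : F) from rfl, CharP.cast_eq_zero_iff F p] at h
    have := Nat.le_of_dvd two_pos h; omega
  classical
  set S := T.filter fun i => u i ≠ 0 with hSdef
  have hS : ∀ i, i ∈ S ↔ u i ≠ 0 := fun i => by
    rw [hSdef, Finset.mem_filter]
    exact ⟨fun h => h.2, fun h => ⟨by_contra fun hi => h (hsupp i hi), h⟩⟩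
  have hz : ∀ i ∉ S, u i = 0 := fun i hi => by_contra fun h => hi ((hS i).2 h)
  have hcard : S.card ≤ 3 := (Finset.card_filter_le _ _).trans hT
  have outside : ∀ x y z : ι, ∃ c d, c ≠ d ∧ (c ≠ x ∧ c ≠ y ∧ c ≠ z) ∧ (d ≠ x ∧ d ≠ y ∧ d ≠ z) := by
    intro x y z
    obtain ⟨c, hc, d, hd, hcd⟩ := Finset.one_lt_card.1
      (show 1 < (Finset.univ \ ({x, y, z} : Finset ι)).card by
        rw [Finset.card_univ_diff]
        have := Finset.card_le_three (a := x) (b := y) (c := z)
        omega)
    simp at hc hd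
    exact ⟨c, d, hcd, hc, hd⟩
  -- the three-space through three coordinates
  have narrow : ∀ x y z : ι, x ≠ y → x ≠ z → y ≠ z → (∀ i, i ≠ x → i ≠ y → i ≠ z → u i = 0) →
      u x ≠ 0 → u z ≠ 0 → Big K ∨ Narrow (1 : F) ![u x, u y, u z] := by
    intro x y z hxy hxz hyz hz0 hx hz'
    obtain ⟨c, d, hcd, ⟨hcx, hcy, hcz⟩, ⟨hdx, hdy, hdz⟩⟩ := outside x y z
    have hσ : (ee z : ι → F) ⬝ᵥ ee z = 1 := by rw [dot_ee, ee_self]
    have e : u = emb x y (ee z) ![u x, u y, u z] := by
      funext i
      by_cases hia : i = x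
      · subst hia; simp [emb, hxy, hxz]
      by_cases hib : i = y
      · subst hib; simp [emb, hxy.symm, hyz]
      by_cases hic : i = z
      · subst hic; simp [emb, hxz.symm, hyz.symm]
      simp [emb, hia, hib, hic, hz0 i hia hib hic]
    rcases three_space hK hp5 hF hxy (ee_ne hxz) (ee_ne hyz) (by rw [hσ]; exact one_ne_zero) hcd
      hcx hcy hdx hdy (by rw [ee_ne hcz, ee_ne hdz]) (x := ![u x, u y, u z]) (e ▸ hu) (by simpa using hz')
      (by simp [hx]) with h | h
    · exact Or.inl (big_of_forall hxy hxz hyz h)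
    · rw [hσ] at h; exact Or.inr h
  rcases Nat.lt_or_ge S.card 2 with h1 | h1
  · exfalso
    apply hs
    left
    rcases S.eq_empty_or_nonempty with h0 | ⟨a, ha⟩
    · obtain ⟨a⟩ : Nonempty ι := Fintype.card_pos_iff.1 (by omega)
      exact ⟨a, fun l _ => hz l (by simp [h0])⟩
    · exact ⟨a, fun l hl => hz l fun hlS => hl (Finset.card_le_one.1 (by omega) l hlS a ha)⟩
  rcases Nat.lt_or_ge S.card 3 with h3 | h3
  · obtain ⟨a, b, hab, hSab⟩ := Finset.card_eq_two.1 (show S.card = 2 by omega)
    obtain ⟨c, -, -, ⟨hca, hcb, -⟩, -⟩ := outside a b b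
    have ha : u a ≠ 0 := (hS a).1 (by simp [hSab])
    have hb : u b ≠ 0 := (hS b).1 (by simp [hSab])
    rcases narrow a c b hca.symm hab hcb (fun i h1 _ h3 => hz i (by simp [hSab, h1, h3])) ha hb
      with h | ⟨h, -⟩
    · exact h
    exfalso
    apply hs
    refine Or.inr ⟨a, b, hab, fun l h1 h3 => hz l (by simp [hSab, h1, h3]), ?_, by simpa using h⟩
    have hsum : u a * u a + u b * u b = 1 := by
      rw [← hu.1, dotProduct, ← Finset.sum_subset (Finset.subset_univ S)
        (fun i _ hi => by rw [hz i hi, mul_zero]), hSab, Finset.sum_pair hab]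
    simp at h
    linear_combination (2 : F) * hsum - h
  · obtain ⟨a, b, c, hab, hac, hbc, hSabc⟩ := Finset.card_eq_three.1 (show S.card = 3 by omega)
    have ha : u a ≠ 0 := (hS a).1 (by simp [hSabc])
    have hb : u b ≠ 0 := (hS b).1 (by simp [hSabc])
    have hc : u c ≠ 0 := (hS c).1 (by simp [hSabc])
    have hz0 : ∀ i, i ≠ a → i ≠ b → i ≠ c → u i = 0 := fun i h1 h3 h4 =>
      hz i (by simp [hSabc, h1, h3, h4])
    rcases narrow a b c hab hac hbc hz0 ha hc with h | ⟨h, h'⟩
    · exact h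
    rcases narrow a c b hac hab hbc.symm (fun i h1 h3 h4 => hz0 i h1 h4 h3) ha hb with g | ⟨-, g'⟩
    · exact g
    exfalso
    simp [ha, hb] at h h'
    simp [ha, hc] at g'
    exact one_ne_zero (show (1 : F) = 0 by linear_combination g'.2 - 2 * h)

theorem exists_triple_ne (h3 : (3 : F) ≠ 0) (h2 : (2 : F) ≠ 0) {w : ι → F} {a b c d : ι}
    (ha : w a ≠ 0) (hab : a ≠ b) (hac : a ≠ c) (hbc : b ≠ c) (had : a ≠ d) (hbd : b ≠ d)
    (hcd : c ≠ d) :
    ∃ x y z : ι, (x = a ∨ x = b ∨ x = c ∨ x = d) ∧ (y = a ∨ y = b ∨ y = c ∨ y = d) ∧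
      (z = a ∨ z = b ∨ z = c ∨ z = d) ∧ x ≠ y ∧ x ≠ z ∧ y ≠ z ∧
      w x * w x + w y * w y + w z * w z ≠ 0 := by
  by_contra! h
  have e1 := h a b c (by simp) (by simp) (by simp) hab hac hbc
  have e2 := h a b d (by simp) (by simp) (by simp) hab had hbd
  have e3 := h a c d (by simp) (by simp) (by simp) hac had hcd
  have e4 := h b c d (by simp) (by simp) (by simp) hbc hbd hcd
  exact mul_ne_zero h3 (mul_ne_zero ha ha) (by linear_combination e1 + e2 + e3 - 2 * e4)

/-- From one large triple, all unit vectors are roots. -/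
theorem all_of_big (hK : IsFrame K) (hp5 : 5 ≤ p) (hF : Fintype.card F = p)
    (hn : 5 ≤ Fintype.card ι) (hbig : Big K) : ∀ u : ι → F, u ⬝ᵥ u = 1 → Root K u := by
  classical
  have hcast : ∀ m : ℕ, 0 < m → m < p → (m : F) ≠ 0 := fun m h0 hm h => by
    rw [CharP.cast_eq_zero_iff F p] at h
    exact absurd (Nat.le_of_dvd h0 h) (by omega)
  have h2 : (2 : F) ≠ 0 := by exact_mod_cast hcast 2 two_pos (by omega)
  have h3 : (3 : F) ≠ 0 := by exact_mod_cast hcast 3 (by omega) (by omega)
  obtain ⟨T₀, hT₀, hbig⟩ := hbig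
  obtain ⟨i₀⟩ : Nonempty ι := Fintype.card_pos_iff.1 (by omega)
  have : Nonempty ι := ⟨i₀⟩
  have small : ∀ u : ι → F, u ⬝ᵥ u = 1 → ∀ T : Finset ι, T.card ≤ 3 → (∀ i ∉ T, u i = 0) →
      Root K u := by
    intro u hu T hT hsupp
    obtain ⟨T', hTT', -, hT'⟩ := Finset.exists_subsuperset_card_eq (Finset.subset_univ T) hT
      (by rw [Finset.card_univ]; omega)
    obtain ⟨π, hπ⟩ := exists_perm_finset (show T₀.card = T'.card by omega)
    have hroot : Root K (fun i => u (π i)) := by
      refine hbig _ ?_ fun i hi => hsupp _ fun h => hi ((hπ i).1 (hTT' h))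
      rw [dotProduct, ← hu, dotProduct]
      exact Equiv.sum_comp π fun i => u i * u i
    refine root_perm_supp hK h2 hroot (T := T₀) (fun i hi => hsupp _ fun h => hi ((hπ i).1 (hTT' h)))
      (by omega) π⁻¹ fun i => ?_
    simp
  intro u
  induction hm : (Finset.univ.filter fun i => u i ≠ 0).card using Nat.strong_induction_on
    generalizing u with
  | _ m ih =>
    intro hu
    by_cases hm3 : m ≤ 3
    · exact small u hu _ (hm.trans_le hm3) fun i hi => by simpa using hi
    obtain ⟨D, hDsub, hDcard⟩ := Finset.exists_subset_card_eq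
      (s := Finset.univ.filter fun i => u i ≠ 0) (n := 4) (by omega)
    have hD : ∀ i ∈ D, u i ≠ 0 := fun i hi => (Finset.mem_filter.1 (hDsub hi)).2
    obtain ⟨a, b, c, d, hab, hac, had, hbc, hbd, hcd, hDe⟩ := Finset.card_eq_four.1 hDcard
    obtain ⟨x, y, z, hx, hy, hz, hxy, hxz, hyz, hρ⟩ := exists_triple_ne h3 h2
      (hD a (by simp [hDe])) hab hac hbc had hbd hcd
    have hzD : u z ≠ 0 := hD z (by rcases hz with rfl | rfl | rfl | rfl <;> simp [hDe])
    have hfa : (ee z : ι → F) x = 0 := ee_ne hxz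
    have hfb : (ee z : ι → F) y = 0 := ee_ne hyz
    -- the action of isometries of the triple
    let upd : OQ (wQ (w3 (1 : F))) → (ι → F) → (ι → F) := fun h w =>
      w + emb x y (ee z) (h • ![w x, w y, w z] - ![w x, w y, w z])
    have hπ : ∀ h w, ![upd h w x, upd h w y, upd h w z] = h • ![w x, w y, w z] := by
      intro h w
      funext i
      fin_cases i <;> simp [upd, emb, hxy, hxy.symm, hxz, hxz.symm, hyz, hyz.symm]
    have hupd : ∀ h h' w, upd (h * h') w = upd h (upd h' w) := by
      intro h h' w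
      show _ = upd h' w + emb x y (ee z) (h • ![upd h' w x, upd h' w y, upd h' w z] -
        ![upd h' w x, upd h' w y, upd h' w z])
      rw [hπ]
      simp only [upd, mul_smul]
      simp [emb]
      module
    have hone : ∀ w, upd 1 w = w := fun w => by simp [upd, emb]
    have hinv : ∀ h ∈ classReflGroup (wQ (w3 (1 : F))) 1, ∀ w, Root K w ↔ Root K (upd h w) := by
      intro h hh
      induction hh using Subgroup.closure_induction with
      | mem g hg =>
        obtain ⟨v, hv, hsq, rfl⟩ := hg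
        obtain ⟨v', hv', hv1, e⟩ := exists_normalised hv one_ne_zero hsq
        rw [e]
        have hroot : Root K (emb x y (ee z) v') := by
          refine small _ ?_ {x, y, z} Finset.card_le_three fun i hi => ?_
          · rw [dot_emb hxy hfa hfb, dot_ee, ee_self]
            rw [wQ3_apply] at hv1
            exact hv1
          · simp at hi
            rw [emb_apply_of_ne hi.1 hi.2.1, ee_ne hi.2.2, mul_zero]
        have heq : ∀ w, upd (Quad.refl hv') w = reflU (emb x y (ee z) v') • w := by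
          intro w
          rw [reflU_smul hroot.1]
          have hd : w ⬝ᵥ emb x y (ee z) v' = w x * v' 0 + w y * v' 1 + w z * v' 2 := by
            simp [emb, dotProduct_add, mul_comm]
          simp only [upd, smul_def, refl_apply, hv1, polar_wQ3, inv_one, one_mul, sub_sub_cancel_left]
          rw [hd]
          simp [emb]
          module
        intro w
        rw [heq]
        exact ⟨fun hw => root_refl hK h2 hroot hw, fun hw => by
          simpa [← mul_smul, reflU_sq hroot.1] using root_refl hK h2 hroot hw⟩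
      | one => intro w; rw [hone]
      | mul g g' _ _ hg hg' => intro w; rw [hupd, ← hg, ← hg']
      | inv g _ hg => intro w; rw [hg (upd g⁻¹ w), ← hupd, mul_inv_cancel, hone]
    obtain ⟨y0, y1, hy01⟩ := exists_sum_two_squares h2 one_ne_zero one_ne_zero
      (u x * u x + u y * u y + u z * u z)
    have hQnd := wQ_nondegenerate (ι := Fin 3) h2 (w3_ne (one_ne_zero (α := F)))
    have hq : 4 ≤ Nat.card F := by rw [Nat.card_eq_fintype_card, hF]; omega
    have hidx := index_classReflGroup h2 (by rw [Module.finrank_pi, Fintype.card_fin]; omega) hQnd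
      (reflGroup_wQ3 h2 one_ne_zero) (Or.inr (Or.inl hq)) (one_ne_zero (α := F))
    obtain ⟨h, hh, hmap⟩ := exists_mem_map_of_index hQnd (reflGroup_wQ3 h2 one_ne_zero)
      (Or.inr hidx) (x := ![u x, u y, u z]) (y := ![y0, y1, 0])
      (by rw [wQ3_apply]; simpa using hρ)
      (by rw [wQ3_apply, wQ3_apply]; simp; linear_combination -hy01)
      (fun c _ => perp_universal h2 one_ne_zero (by simp)
        (by simp; intro hc; apply hρ; linear_combination hc - hy01) c)
    rw [hinv h hh u]
    have hval : ![upd h u x, upd h u y, upd h u z] = ![y0, y1, 0] := by rw [hπ, hmap]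
    have hout : ∀ i, i ≠ x → i ≠ y → i ≠ z → upd h u i = u i := fun i h1 h2' h3' => by
      simp [upd, emb, h1, h2', h3']
    have hzero : upd h u z = 0 := by simpa using congrFun hval 2
    refine ih _ ?_ _ rfl ?_
    · rw [← hm]
      refine Finset.card_lt_card ?_
      rw [Finset.ssubset_iff_subset_ne]
      refine ⟨fun i hi => ?_, fun e => ?_⟩
      · simp only [Finset.mem_filter, Finset.mem_univ, true_and] at hi ⊢
        by_cases h1 : i = x
        · rw [h1]; exact hD x (by rcases hx with rfl | rfl | rfl | rfl <;> simp [hDe])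
        by_cases h2' : i = y
        · rw [h2']; exact hD y (by rcases hy with rfl | rfl | rfl | rfl <;> simp [hDe])
        by_cases h3' : i = z
        · rw [h3']; exact hzD
        rwa [hout i h1 h2' h3'] at hi
      · have := e ▸ (show z ∈ Finset.univ.filter fun i => u i ≠ 0 by simp [hzD])
        simp [hzero] at this
    · have hdiff : h • ![u x, u y, u z] - ![u x, u y, u z] = ![y0 - u x, y1 - u y, 0 - u z] := by
        rw [hmap]; simp
      show (u + emb x y (ee z) _) ⬝ᵥ (u + emb x y (ee z) _) = 1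
      rw [hdiff, add_dotProduct, dotProduct_add, dotProduct_add,
        dotProduct_comm (emb x y (ee z) _) u, dot_emb hxy hfa hfb, dot_ee, ee_self, hu]
      simp [emb, dotProduct_add]
      linear_combination hy01

/-- Roots of support four have all squares a quarter, when roots of smaller support are short. -/
def FourCases (K : Subgroup (OQ (fQ F ι))) : Prop :=
  (∀ u, Root K u → ∀ T : Finset ι, T.card ≤ 3 → (∀ i ∉ T, u i = 0) → Shape u) →
    ∀ u, Root K u → ∀ T : Finset ι, T.card = 4 → (∀ i ∉ T, u i = 0) → (∀ i ∈ T, u i ≠ 0) →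
      ∀ i ∈ T, 4 * u i ^ 2 = 1

/-- A unit vector with four coordinates of square a quarter. -/
def Half (K : Subgroup (OQ (fQ F ι))) : Prop :=
  ∃ u, Root K u ∧ ∃ T : Finset ι, T.card = 4 ∧ (∀ i ∉ T, u i = 0) ∧ ∀ i ∈ T, 4 * u i ^ 2 = 1

omit [Fintype F] [Fact p.Prime] [CharP F p] in
theorem Half.root (hK : IsFrame K) (h2 : (2 : F) ≠ 0) (h : Half K)
    {w : ι → F} {T : Finset ι} (hT : T.card = 4) (h0 : ∀ i ∉ T, w i = 0)
    (h1 : ∀ i ∈ T, 4 * w i ^ 2 = 1) : Root K w := by
  obtain ⟨u, hu, S, hS, hu0, hu1⟩ := h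
  obtain ⟨π, hπ⟩ := exists_perm_finset (show T.card = S.card by omega)
  have h4 : (4 : F) ≠ 0 := by
    rw [show (4 : F) = 2 * 2 by norm_num]; exact mul_ne_zero h2 h2
  obtain ⟨c, hc, d, hd, hcd⟩ := Finset.one_lt_card.1 (show 1 < S.card by omega)
  refine root_of_sq hK h2 hu hcd (mul_left_cancel₀ h4 ((hu1 c hc).trans (hu1 d hd).symm)) π fun i => ?_
  by_cases hi : i ∈ T
  · exact mul_left_cancel₀ h4 ((h1 i hi).trans (hu1 _ ((hπ i).2 hi)).symm)
  · rw [h0 i hi, hu0 _ fun h => hi ((hπ i).1 h)]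

theorem four_cases (hK : IsFrame K) (hp5 : 5 ≤ p) (hF : Fintype.card F = p)
    (hn : 7 ≤ Fintype.card ι)
    (h3 : ∀ u, Root K u → ∀ T : Finset ι, T.card ≤ 3 → (∀ i ∉ T, u i = 0) → Shape u)
    {u : ι → F} (hu : Root K u) {T : Finset ι} (hT : T.card = 4) (hz : ∀ i ∉ T, u i = 0)
    (hnz : ∀ i ∈ T, u i ≠ 0) : ∀ i ∈ T, 4 * u i ^ 2 = 1 := by
  classical
  have hcast : ∀ m : ℕ, 0 < m → m < p → (m : F) ≠ 0 := fun m h0 hm h => by
    rw [CharP.cast_eq_zero_iff F p] at h
    exact absurd (Nat.le_of_dvd h0 h) (by omega)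
  have h2 : (2 : F) ≠ 0 := by exact_mod_cast hcast 2 two_pos (by omega)
  intro a ha
  obtain ⟨b, c, d, hbc, hbd, hcd, he⟩ := Finset.card_eq_three.1
    (show (T.erase a).card = 3 by rw [Finset.card_erase_of_mem ha]; omega)
  have hb : b ∈ T ∧ b ≠ a := by
    have : b ∈ T.erase a := by simp [he]
    exact ⟨(Finset.mem_erase.1 this).2, (Finset.mem_erase.1 this).1⟩
  have hc : c ∈ T ∧ c ≠ a := by
    have : c ∈ T.erase a := by simp [he]
    exact ⟨(Finset.mem_erase.1 this).2, (Finset.mem_erase.1 this).1⟩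
  have hd : d ∈ T ∧ d ≠ a := by
    have : d ∈ T.erase a := by simp [he]
    exact ⟨(Finset.mem_erase.1 this).2, (Finset.mem_erase.1 this).1⟩
  have hTe : ∀ i ∈ T, i = a ∨ i = b ∨ i = c ∨ i = d := fun i hi => by
    by_cases hia : i = a
    · exact Or.inl hia
    · have : i ∈ T.erase a := Finset.mem_erase.2 ⟨hia, hi⟩
      simp [he] at this
      exact Or.inr this
  have hz' : ∀ i, i ≠ a → i ≠ b → i ≠ c → i ≠ d → u i = 0 := fun i i1 i2 i3 i4 =>
    hz i fun hi => by rcases hTe i hi with e | e | e | e <;> contradiction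
  have hpair : ∀ x y z : ι, x ∈ T → y ∈ T → z ∈ T → x ≠ a → y ≠ a → z ≠ a → x ≠ y → x ≠ z →
      y ≠ z → u y * u y + u z * u z ≠ 0 → (∀ i, i ≠ a → i ≠ x → i ≠ y → i ≠ z → u i = 0) →
      4 * u a ^ 2 = 1 := by
    intro x y z hx hy hzT hxa hya hza hxy hxz hyz hσ hz0
    set f : ι → F := u y • ee y + u z • ee z with hf
    have hfa : f a = 0 := by simp [hf, hya.symm, hza.symm]
    have hfx : f x = 0 := by simp [hf, hxy, hxz]
    have hfy : f y = u y := by simp [hf, hyz]
    have hfz : f z = u z := by simp [hf, hyz.symm]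
    have hff : f ⬝ᵥ f = u y * u y + u z * u z := by
      simp [hf, dotProduct_add, add_dotProduct, hyz, hyz.symm]
    obtain ⟨c', hc', d', hd', hcd'⟩ := Finset.one_lt_card.1
      (show 1 < (Finset.univ \ ({a, x, y, z} : Finset ι)).card by
        rw [Finset.card_univ_diff]
        have := Finset.card_le_four (a := a) (b := x) (c := y) (d := z)
        omega)
    simp at hc' hd'
    have e : u = emb a x f ![u a, u x, 1] := by
      funext i
      by_cases i1 : i = a
      · subst i1; simp [emb, hxa.symm, hfa]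
      by_cases i2 : i = x
      · subst i2; simp [emb, hxa, hfx]
      rw [emb_apply_of_ne i1 i2]
      by_cases i3 : i = y
      · subst i3; simp [hfy]
      by_cases i4 : i = z
      · subst i4; simp [hfz]
      simp [hf, i3, i4, hz0 i i1 i2 i3 i4]
    rcases three_space hK hp5 hF hxa.symm hfa hfx (hff ▸ hσ) hcd' hc'.1 hc'.2.1 hd'.1 hd'.2.1
      (by simp [hf, hc'.2.2.1, hc'.2.2.2, hd'.2.2.1, hd'.2.2.2])
      (x := ![u a, u x, 1]) (e ▸ hu) (by simp) (by simp [hnz a ha]) with h | ⟨-, h⟩
    swap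
    · simp [hnz a ha, hnz x hx] at h
      exact h.1
    -- otherwise a root of support three
    exfalso
    set σ := f ⬝ᵥ f with hσdef
    have hσ0 : σ ≠ 0 := hff ▸ hσ
    obtain ⟨t, ht, ht1, ht2⟩ : ∃ t : F, t ≠ 0 ∧ σ * t ^ 2 ≠ 1 ∧ σ * t ^ 2 ≠ -1 := by
      by_cases hp7 : 7 ≤ p
      · by_contra! hc
        have k1 := hc 1 one_ne_zero
        have k2 := hc 2 h2
        have k3 := hc 3 (by exact_mod_cast hcast 3 (by omega) (by omega))
        have n3 : (3 : F) ≠ 0 := by exact_mod_cast hcast 3 (by omega) (by omega)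
        have n5 : (5 : F) ≠ 0 := by exact_mod_cast hcast 5 (by omega) (by omega)
        rcases eq_or_ne (σ * 1 ^ 2) 1 with e1 | e1
        · rcases eq_or_ne (σ * 2 ^ 2) 1 with e2 | e2
          · exact n3 (by linear_combination e2 - 4 * e1)
          · exact n5 (by linear_combination k2 e2 - 4 * e1)
        · rcases eq_or_ne (σ * 2 ^ 2) 1 with e2 | e2
          · exact n5 (by linear_combination 4 * k1 e1 - e2)
          · exact n3 (by linear_combination 4 * k1 e1 - k2 e2)
      · -- over five elements all four squares are `4`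
        have hp : p = 5 := by
          have h1 := (Fact.out : p.Prime)
          interval_cases p <;> first | rfl | norm_num at h1
        exfalso
        have h5 : (5 : F) = 0 := by
          have := CharP.cast_eq_zero F p
          rw [hp] at this; exact_mod_cast this
        have hsq : ∀ i ∈ T, u i * u i = 1 ∨ u i * u i = -1 := fun i hi => by
          have h1 := FiniteField.pow_card_sub_one_eq_one (u i) (hnz i hi)
          rw [hF, hp] at h1
          refine mul_self_eq_one_iff.1 ?_
          rw [← h1]; ring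
        have hsum : u a * u a + u x * u x + (u y * u y + u z * u z) = 1 := by
          rw [← hu.1]
          conv_rhs => rw [e, dot_emb hxa.symm hfa hfx, ← hσdef, hff]
          simp
        have hone : ∀ {q : F}, q = 1 → q ≠ -1 := fun {q} hq h => h2 (by linear_combination h - hq)
        rcases hsq y hy with e3 | e3 <;> rcases hsq z hzT with e4 | e4 <;>
          rw [e3, e4] at hσ hsum
        · rcases hsq a ha with e1 | e1 <;> rcases hsq x hx with e2 | e2 <;> rw [e1, e2] at hsum
          · exact h2 (by linear_combination h5 - hsum)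
          · exact one_ne_zero (show (1 : F) = 0 by linear_combination hsum)
          · exact one_ne_zero (show (1 : F) = 0 by linear_combination hsum)
          · exact one_ne_zero (show (1 : F) = 0 by linear_combination -hsum)
        · exact hσ (by ring)
        · exact hσ (by ring)
        · -- both equal to `-1`
          have hlast : σ * 1 ^ 2 = -2 := by rw [hff, e3, e4]; ring
          have key := h ![(1 - σ) / (1 + σ), 0, 2 / (1 + σ)]
          have hs1 : 1 + σ ≠ 0 := fun hh => one_ne_zero (show (1 : F) = 0 by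
            linear_combination hlast - hh)
          have hx0 : (1 - σ) / (1 + σ) ≠ 0 := div_ne_zero (fun hh => h2 (by
            linear_combination h5 - hlast - hh)) hs1
          have hroot := key (by rw [wQ3_apply]; simp; field_simp; ring)
          refine not_shape_three hya.symm hza.symm hyz ?_ ?_ ?_ (h3 _ hroot {a, y, z}
            Finset.card_le_three fun i hi => ?_)
          · rw [emb_apply_a hxa.symm hfa]; simpa using hx0
          · rw [emb_apply_of_ne hya hxy.symm, hfy]
            simp [hnz y hy, hs1, h2]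
          · rw [emb_apply_of_ne hza hxz.symm, hfz]
            simp [hnz z hzT, hs1, h2]
          · simp at hi
            by_cases i2 : i = x
            · subst i2; rw [emb_apply_b hxa.symm hfx]; simp
            · rw [emb_apply_of_ne hi.1 i2]; simp [hf, hi.2.1, hi.2.2]
    have hs1 : 1 + σ * t ^ 2 ≠ 0 := fun hh => ht2 (by linear_combination hh)
    have hx0 : (1 - σ * t ^ 2) / (1 + σ * t ^ 2) ≠ 0 :=
      div_ne_zero (fun hh => ht1 (by linear_combination -hh)) hs1
    have hroot := h ![(1 - σ * t ^ 2) / (1 + σ * t ^ 2), 0, 2 * t / (1 + σ * t ^ 2)]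
      (by rw [wQ3_apply]; simp; field_simp; ring)
    refine not_shape_three hya.symm hza.symm hyz ?_ ?_ ?_ (h3 _ hroot {a, y, z}
      Finset.card_le_three fun i hi => ?_)
    · rw [emb_apply_a hxa.symm hfa]; simpa using hx0
    · rw [emb_apply_of_ne hya hxy.symm, hfy]
      simp [hnz y hy, hs1, h2, ht]
    · rw [emb_apply_of_ne hza hxz.symm, hfz]
      simp [hnz z hzT, hs1, h2, ht]
    · simp at hi
      by_cases i2 : i = x
      · subst i2; rw [emb_apply_b hxa.symm hfx]; simp
      · rw [emb_apply_of_ne hi.1 i2]; simp [hf, hi.2.1, hi.2.2]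
  by_cases k1 : u c * u c + u d * u d ≠ 0
  · exact hpair b c d hb.1 hc.1 hd.1 hb.2 hc.2 hd.2 hbc hbd hcd k1 hz'
  by_cases k2 : u b * u b + u d * u d ≠ 0
  · exact hpair c b d hc.1 hb.1 hd.1 hc.2 hb.2 hd.2 hbc.symm hcd hbd k2
      fun i i1 i2 i3 i4 => hz' i i1 i3 i2 i4
  by_cases k3 : u b * u b + u c * u c ≠ 0
  · exact hpair d b c hd.1 hb.1 hc.1 hd.2 hb.2 hc.2 hbd.symm hcd.symm hbc k3
      fun i i1 i2 i3 i4 => hz' i i1 i3 i4 i2
  push Not at k1 k2 k3
  exact absurd (mul_left_cancel₀ h2 (show (2 : F) * (u b * u b) = 2 * 0 by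
    linear_combination k3 + k2 - k1)) (mul_ne_zero (hnz b hb.1) (hnz b hb.1))

theorem half_of_not_good_five (hK : IsFrame K) (hp5 : 5 ≤ p) (hF : Fintype.card F = p)
    (hn : 5 ≤ Fintype.card ι) (hfour : FourCases K) (hbig : ¬ Big K) (hg : ¬ Good K) : Half K := by
  classical
  have h3 : ∀ u, Root K u → ∀ T : Finset ι, T.card ≤ 3 → (∀ i ∉ T, u i = 0) → Shape u :=
    fun u hu T hT hz => by_contra fun hs => hbig (big_triple hK hp5 hF hn hu hT hz hs)
  simp only [Good, not_forall] at hg
  obtain ⟨u, hu, T, hT, hz, hs⟩ := hg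
  set S := T.filter fun i => u i ≠ 0 with hSdef
  have hzS : ∀ i ∉ S, u i = 0 := fun i hi => by
    by_contra h
    exact hi (Finset.mem_filter.2 ⟨by_contra fun hT' => h (hz i hT'), h⟩)
  have hcard : S.card = 4 := by
    have h1 : S.card ≤ 4 := (Finset.card_filter_le _ _).trans hT
    by_contra hne
    exact hs (h3 u hu S (by omega) hzS)
  exact ⟨u, hu, S, hcard, hzS, hfour h3 u hu S hcard hzS
    fun i hi => (Finset.mem_filter.1 hi).2⟩

theorem five_fact {P : (Fin 5 → ZMod 5) → Prop}
    (hh : ∀ x : Fin 5 → ZMod 5, (∃ i, x i = 0 ∧ ∀ j, j ≠ i → 4 * x j ^ 2 = 1) → P x)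
    (hr : ∀ v w : Fin 5 → ZMod 5, P v → P w → P (w - (2 * (w ⬝ᵥ v)) • v)) :
    P ![0, 4, 1, 0, 2] := by
  have s0 : P ![3, 4, 4, 2, 4] := by
    convert hr ![0, 2, 2, 3, 3] ![3, 3, 3, 3, 0] (hh _ ⟨0, by decide⟩) (hh _ ⟨4, by decide⟩) using 1
    decide
  have s1 : P ![0, 4, 1, 0, 2] := by
    convert hr ![3, 0, 3, 2, 2] ![3, 4, 4, 2, 4] (hh _ ⟨1, by decide⟩) s0 using 1
    decide
  exact s1

theorem seven_fact {P : (Fin 5 → ZMod 7) → Prop}
    (hh : ∀ x : Fin 5 → ZMod 7, (∃ i, x i = 0 ∧ ∀ j, j ≠ i → 4 * x j ^ 2 = 1) → P x)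
    (hr : ∀ v w : Fin 5 → ZMod 7, P v → P w → P (w - (2 * (w ⬝ᵥ v)) • v)) :
    P ![2, 0, 3, 0, 3] := by
  have s0 : P ![2, 6, 4, 2, 5] := by
    convert hr ![4, 3, 0, 4, 4] ![4, 4, 4, 4, 0] (hh _ ⟨2, by decide⟩) (hh _ ⟨4, by decide⟩) using 1
    decide
  have s1 : P ![3, 6, 3, 1, 4] := by
    convert hr ![3, 0, 4, 4, 4] ![2, 6, 4, 2, 5] (hh _ ⟨1, by decide⟩) s0 using 1
    decide
  have s2 : P ![2, 0, 3, 0, 3] := by
    convert hr ![4, 3, 0, 4, 4] ![3, 6, 3, 1, 4] (hh _ ⟨2, by decide⟩) s1 using 1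
    decide
  exact s2

theorem five_shape : (![0, 4, 1, 0, 2] : Fin 5 → ZMod 5) 1 ≠ 0 ∧ (![0, 4, 1, 0, 2] : Fin 5 → ZMod 5) 2 ≠ 0 ∧
    (![0, 4, 1, 0, 2] : Fin 5 → ZMod 5) 4 ≠ 0 ∧ ∀ l : Fin 5, l ≠ 1 → l ≠ 2 → l ≠ 4 →
      (![0, 4, 1, 0, 2] : Fin 5 → ZMod 5) l = 0 := by decide

theorem seven_shape : (![2, 0, 3, 0, 3] : Fin 5 → ZMod 7) 0 ≠ 0 ∧ (![2, 0, 3, 0, 3] : Fin 5 → ZMod 7) 2 ≠ 0 ∧
    (![2, 0, 3, 0, 3] : Fin 5 → ZMod 7) 4 ≠ 0 ∧ ∀ l : Fin 5, l ≠ 0 → l ≠ 2 → l ≠ 4 →
      (![2, 0, 3, 0, 3] : Fin 5 → ZMod 7) l = 0 := by decide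

theorem not_half (hK : IsFrame K) (hp5 : 5 ≤ p) (hF : Fintype.card F = p)
    (hn : 5 ≤ Fintype.card ι) (hfour : FourCases K) (hbig : ¬ Big K) : ¬ Half K := by
  classical
  intro hH
  have hcast : ∀ m : ℕ, 0 < m → m < p → (m : F) ≠ 0 := fun m h0 hm h => by
    rw [CharP.cast_eq_zero_iff F p] at h
    exact absurd (Nat.le_of_dvd h0 h) (by omega)
  have h2 : (2 : F) ≠ 0 := by exact_mod_cast hcast 2 two_pos (by omega)
  have h4 : (4 : F) ≠ 0 := by exact_mod_cast hcast 4 (by omega) (by omega)
  have h3 : ∀ u, Root K u → ∀ T : Finset ι, T.card ≤ 3 → (∀ i ∉ T, u i = 0) → Shape u :=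
    fun u hu T hT hz => by_contra fun hs => hbig (big_triple hK hp5 hF hn hu hT hz hs)
  let g : Fin 5 ↪ ι := (Fin.castLEEmb (by omega : 5 ≤ Fintype.card ι)).trans
    (Fintype.equivFin ι).symm.toEmbedding
  have : Nonempty ι := ⟨g 0⟩
  by_cases h11 : 11 ≤ p
  · obtain ⟨r, hr⟩ : ∃ r : F, 2 * r = 1 := ⟨2⁻¹, mul_inv_cancel₀ h2⟩
    have hr0 : r ≠ 0 := fun h => one_ne_zero (show (1 : F) = 0 by rw [← hr, h, mul_zero])
    set a := g 0; set o := g 1; set b := g 2; set c := g 3; set d := g 4
    have hne : ∀ i j : Fin 5, i ≠ j → g i ≠ g j := fun i j h e => h (g.injective e)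
    have hao : a ≠ o := hne 0 1 (by decide)
    set f : ι → F := r • ee b + r • ee c + r • ee d with hf
    have hfa : f a = 0 := by
      simp [hf, hne 0 2 (by decide), hne 0 3 (by decide), hne 0 4 (by decide), a, b, c, d]
    have hfo : f o = 0 := by
      simp [hf, hne 1 2 (by decide), hne 1 3 (by decide), hne 1 4 (by decide), o, b, c, d]
    have hbc : b ≠ c := hne 2 3 (by decide)
    have hbd : b ≠ d := hne 2 4 (by decide)
    have hcd : c ≠ d := hne 3 4 (by decide)
    have hfb : f b = r := by simp [hf, hbc, hbd]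
    have hfc : f c = r := by simp [hf, hbc.symm, hcd]
    have hfd : f d = r := by simp [hf, hbd.symm, hcd.symm]
    have hff : f ⬝ᵥ f = 3 * r ^ 2 := by
      simp [hf, dotProduct_add, add_dotProduct, hbc, hbc.symm, hbd, hbd.symm, hcd, hcd.symm]
      ring
    have hσ : f ⬝ᵥ f ≠ 0 := by
      rw [hff]
      exact mul_ne_zero (by exact_mod_cast hcast 3 (by omega) (by omega)) (pow_ne_zero 2 hr0)
    have h4r : 4 * r ^ 2 = (1 : F) := by linear_combination (2 * r + 1) * hr
    have hoff : ∀ i, i ≠ b → i ≠ c → i ≠ d → f i = 0 := fun i i1 i2 i3 => by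
      simp [hf, i1, i2, i3]
    have hroot : Root K (emb a o f ![r, 0, 1]) := by
      refine hH.root hK h2 (T := {a, b, c, d}) ?_ (fun i hi => ?_) fun i hi => ?_
      · rw [Finset.card_eq_four]
        exact ⟨a, b, c, d, hne 0 2 (by decide), hne 0 3 (by decide), hne 0 4 (by decide), hbc, hbd,
          hcd, rfl⟩
      · simp at hi
        by_cases io : i = o
        · subst io; rw [emb_apply_b hao hfo]; simp
        · rw [emb_apply_of_ne hi.1 io]; simp [hoff i hi.2.1 hi.2.2.1 hi.2.2.2]
      · simp at hi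
        rcases hi with rfl | rfl | rfl | rfl
        · rw [emb_apply_a hao hfa]; simpa using h4r
        · rw [emb_apply_of_ne (hne 2 0 (by decide)) (hne 2 1 (by decide)), hfb]; simpa using h4r
        · rw [emb_apply_of_ne (hne 3 0 (by decide)) (hne 3 1 (by decide)), hfc]; simpa using h4r
        · rw [emb_apply_of_ne (hne 4 0 (by decide)) (hne 4 1 (by decide)), hfd]; simpa using h4r
    rcases three_space hK hp5 hF hao hfa hfo hσ hbc (hne 2 0 (by decide)) (hne 2 1 (by decide))
      (hne 3 0 (by decide)) (hne 3 1 (by decide)) (by rw [hfb, hfc])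
      (x := ![r, 0, 1]) hroot (by simp) (by simp [hr0]) with h | ⟨h, -⟩
    swap
    · rw [hff] at h
      simp at h
      exact h2 (show (2 : F) = 0 by linear_combination 4 * h - 6 * h4r)
    set σ := f ⬝ᵥ f
    obtain ⟨t, ht, hbad⟩ : ∃ t : F, t ≠ 0 ∧ σ * t ^ 2 ∉ ({1, -1, 3, 3⁻¹} : Finset F) := by
      have hinj : Set.InjOn (fun k : ℕ => σ * (k : F) ^ 2) (Finset.Icc 1 5 : Finset ℕ) := by
        intro k hk l hl hkl
        simp at hk hl
        rcases sq_eq_sq_iff_eq_or_eq_neg.1 (mul_left_cancel₀ hσ hkl) with e | e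
        · by_contra hne'
          rcases Nat.lt_or_gt_of_ne hne' with hlt | hlt
          · exact hcast (l - k) (by omega) (by omega) (by rw [Nat.cast_sub hlt.le, e, sub_self])
          · exact hcast (k - l) (by omega) (by omega) (by rw [Nat.cast_sub hlt.le, e, sub_self])
        · exact absurd (show ((k + l : ℕ) : F) = 0 by rw [Nat.cast_add, e]; ring)
            (hcast _ (by omega) (by omega))
      obtain ⟨q, hq, hq'⟩ := Finset.exists_mem_notMem_of_card_lt_card
        (s := ({1, -1, 3, 3⁻¹} : Finset F))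
        (t := (Finset.Icc 1 5).image fun k : ℕ => σ * (k : F) ^ 2) (by
          rw [Finset.card_image_of_injOn hinj, Nat.card_Icc]
          exact lt_of_le_of_lt Finset.card_le_four (by norm_num))
      obtain ⟨k, hk, rfl⟩ := Finset.mem_image.1 hq
      simp at hk
      exact ⟨k, hcast k (by omega) (by omega), hq'⟩
    simp only [Finset.mem_insert, Finset.mem_singleton, not_or] at hbad
    obtain ⟨b1, b2, b3, b4⟩ := hbad
    set s := σ * t ^ 2 with hs
    have hs1 : 1 + s ≠ 0 := fun hh => b2 (by linear_combination hh)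
    have hx0 : (1 - s) / (1 + s) ≠ 0 := div_ne_zero (fun hh => b1 (by linear_combination -hh)) hs1
    have hnew := h ![(1 - s) / (1 + s), 0, 2 * t / (1 + s)]
      (by rw [wQ3_apply]; simp; field_simp; rw [hs]; ring)
    have key := hfour h3 _ hnew {a, b, c, d} (by
        rw [Finset.card_eq_four]
        exact ⟨a, b, c, d, hne 0 2 (by decide), hne 0 3 (by decide), hne 0 4 (by decide), hbc, hbd,
          hcd, rfl⟩)
      (fun i hi => by
        simp at hi
        by_cases io : i = o
        · subst io; rw [emb_apply_b hao hfo]; simp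
        · rw [emb_apply_of_ne hi.1 io]; simp [hoff i hi.2.1 hi.2.2.1 hi.2.2.2])
      (fun i hi => by
        simp at hi
        rcases hi with rfl | rfl | rfl | rfl
        · rw [emb_apply_a hao hfa]; simpa using hx0
        · rw [emb_apply_of_ne (hne 2 0 (by decide)) (hne 2 1 (by decide)), hfb]
          simp [hr0, hs1, h2, ht]
        · rw [emb_apply_of_ne (hne 3 0 (by decide)) (hne 3 1 (by decide)), hfc]
          simp [hr0, hs1, h2, ht]
        · rw [emb_apply_of_ne (hne 4 0 (by decide)) (hne 4 1 (by decide)), hfd]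
          simp [hr0, hs1, h2, ht]) a (by simp)
    rw [emb_apply_a hao hfa] at key
    simp at key
    field_simp at key
    have hfac : (1 - 3 * s) * (3 - s) = 0 := by linear_combination key
    rcases mul_eq_zero.1 hfac with e | e
    · exact b4 (eq_inv_of_mul_eq_one_right (by linear_combination -e))
    · exact b3 (by linear_combination -e)
  · have hcase : p = 5 ∨ p = 7 := by
      have hpr := (Fact.out : p.Prime)
      interval_cases p <;> first | omega | norm_num at hpr
    let φ : ZMod p ≃+* F := ZMod.ringEquiv F hF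
    let E : (Fin 5 → ZMod p) → (ι → F) := fun x i => ∑ j, φ (x j) * (ee (g j) : ι → F) i
    have hEg : ∀ x j, E x (g j) = φ (x j) := fun x j => by
      simp only [E]
      rw [Finset.sum_eq_single j (fun k _ hk => by
        rw [ee_ne fun e => hk (g.injective e).symm, mul_zero]) (by simp), ee_self, mul_one]
    have hEout : ∀ x i, (∀ j, i ≠ g j) → E x i = 0 := fun x i hi =>
      Finset.sum_eq_zero fun j _ => by rw [ee_ne (hi j), mul_zero]
    have hEdot : ∀ x y, E x ⬝ᵥ E y = φ (x ⬝ᵥ y) := fun x y => by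
      rw [dotProduct, dotProduct, map_sum, ← Finset.sum_subset (Finset.subset_univ (Finset.univ.map g))
        (fun i _ hi => by
          simp at hi
          rw [hEout x i fun j => Ne.symm (hi j), zero_mul]), Finset.sum_map]
      exact Finset.sum_congr rfl fun j _ => by rw [hEg, hEg, map_mul]
    have hh : ∀ x : Fin 5 → ZMod p, (∃ i, x i = 0 ∧ ∀ j, j ≠ i → 4 * x j ^ 2 = 1) →
        Root K (E x) := by
      rintro x ⟨i, hi, hj⟩
      refine hH.root hK h2 (T := (Finset.univ.erase i).map g) (by simp) (fun l hl => ?_)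
        fun l hl => ?_
      · by_cases hli : ∃ j, l = g j
        · obtain ⟨j, rfl⟩ := hli
          simp at hl
          rw [hEg, hl, hi, map_zero]
        · push Not at hli; exact hEout x l hli
      · simp at hl
        obtain ⟨hne', j, rfl⟩ := hl
        rw [hEg, ← map_ofNat φ 4, ← map_pow, ← map_mul, hj j (fun e => hne' (e ▸ rfl)), map_one]
    have hrr : ∀ v w, Root K (E v) → Root K (E w) → Root K (E (w - (2 * (w ⬝ᵥ v)) • v)) := by
      intro v w hv hw
      convert root_refl hK h2 hv hw using 1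
      rw [reflU_smul hv.1, hEdot]
      funext i
      simp only [E, Pi.sub_apply, Pi.smul_apply, smul_eq_mul, map_sub, map_mul, map_ofNat, sub_mul,
        Finset.sum_sub_distrib, Finset.mul_sum, mul_assoc]
    have fin : ∀ x : Fin 5 → ZMod p, Root K (E x) → ∀ i j k : Fin 5, i ≠ j → i ≠ k → j ≠ k →
        x i ≠ 0 → x j ≠ 0 → x k ≠ 0 → (∀ l, l ≠ i → l ≠ j → l ≠ k → x l = 0) → False := by
      intro x hx i j k hij hik hjk hxi hxj hxk hx0
      refine not_shape_three (fun e => hij (g.injective e)) (fun e => hik (g.injective e))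
        (fun e => hjk (g.injective e)) ?_ ?_ ?_
        (h3 _ hx {g i, g j, g k} Finset.card_le_three fun l hl => ?_)
      all_goals try (rw [hEg]; simpa using by assumption)
      simp at hl
      by_cases hls : ∃ m, l = g m
      · obtain ⟨m, rfl⟩ := hls
        rw [hEg, hx0 m (fun e => hl.1 (e ▸ rfl)) (fun e => hl.2.1 (e ▸ rfl))
          (fun e => hl.2.2 (e ▸ rfl)), map_zero]
      · push Not at hls; exact hEout x l hls
    rcases hcase with hp | hp
    · subst hp
      exact fin ![0, 4, 1, 0, 2] (five_fact (P := fun x => Root K (E x)) hh hrr) 1 2 4 (by decide) (by decide)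
        (by decide) five_shape.1 five_shape.2.1 five_shape.2.2.1 five_shape.2.2.2
    · subst hp
      exact fin ![2, 0, 3, 0, 3] (seven_fact (P := fun x => Root K (E x)) hh hrr) 0 2 4 (by decide) (by decide)
        (by decide) seven_shape.1 seven_shape.2.1 seven_shape.2.2.1 seven_shape.2.2.2

omit [Fact p.Prime] [CharP F p] in
/-- Characteristic three. -/
theorem good_or_all_three (hK : IsFrame K) (hF : Fintype.card F = 3) (h3 : (3 : F) = 0)
    (hn : 5 ≤ Fintype.card ι) (hg : ¬ Good K) : ∀ u : ι → F, u ⬝ᵥ u = 1 → Root K u := by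
  classical
  have h2 : (2 : F) ≠ 0 := fun h => one_ne_zero (show (1 : F) = 0 by linear_combination h3 - h)
  have hsq : ∀ x : F, x ≠ 0 → x * x = 1 := fun x hx => by
    have h1 := FiniteField.pow_card_sub_one_eq_one x hx
    rw [hF] at h1
    rw [← h1]; ring
  have h4 : (4 : F) = 1 := by linear_combination h3
  haveI : CharP F 3 := by
    refine (CharP.charP_iff_prime_eq_zero Nat.prime_three).2 ?_
    exact_mod_cast h3
  have hmod : ∀ (u : ι → F) (S : Finset ι), u ⬝ᵥ u = 1 → (∀ i, i ∈ S ↔ u i ≠ 0) → S.card % 3 = 1 := by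
    intro u S hu hS
    have h : ((S.card : ℕ) : F) = ((1 : ℕ) : F) := by
      rw [Nat.cast_one, ← hu, dotProduct, ← Finset.sum_subset (Finset.subset_univ S)
        (fun i _ hi => by rw [not_not.1 fun h => hi ((hS i).2 h), mul_zero]),
        Finset.sum_congr rfl (fun i hi => hsq _ ((hS i).1 hi))]
      simp
    rw [CharP.natCast_eq_natCast F 3] at h
    exact h
  have hH : Half K := by
    simp only [Good, not_forall] at hg
    obtain ⟨u, hu, T, hT, hz, hs⟩ := hg
    set S := T.filter fun i => u i ≠ 0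
    have hS : ∀ i, i ∈ S ↔ u i ≠ 0 := fun i => by
      simp only [S, Finset.mem_filter]
      exact ⟨fun h => h.2, fun h => ⟨by_contra fun hi => h (hz i hi), h⟩⟩
    have h1 : S.card ≤ 4 := (Finset.card_filter_le _ _).trans hT
    have h3' := hmod u S hu.1 hS
    rcases (show S.card = 1 ∨ S.card = 4 by omega) with e | e
    · exfalso
      obtain ⟨a, ha⟩ := Finset.card_eq_one.1 e
      exact hs (Or.inl ⟨a, fun l hl => by_contra fun h => hl (by
        simpa [ha] using (hS l).2 h)⟩)
    · exact ⟨u, hu, S, e, fun i hi => not_not.1 fun h => hi ((hS i).2 h), fun i hi => by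
        rw [h4, pow_two, hsq _ ((hS i).1 hi), one_mul]⟩
  obtain ⟨i₀⟩ : Nonempty ι := Fintype.card_pos_iff.1 (by omega)
  have : Nonempty ι := ⟨i₀⟩
  intro u
  induction hm : (Finset.univ.filter fun i => u i ≠ 0).card using Nat.strong_induction_on
    generalizing u with
  | _ m ih =>
    intro hu
    have hS : ∀ i, i ∈ Finset.univ.filter (fun i => u i ≠ 0) ↔ u i ≠ 0 := fun i => by simp
    have hm3 := hmod u _ hu hS
    rw [hm] at hm3
    rcases (show m = 1 ∨ m = 4 ∨ 7 ≤ m by omega) with e | e | e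
    · obtain ⟨a, ha⟩ := Finset.card_eq_one.1 (hm.trans e)
      have hax : Axis u := ⟨a, fun l hl => by_contra fun h => hl (by simpa [ha] using (hS l).2 h)⟩
      obtain ⟨b, rfl | rfl⟩ := hax.eq_ee hu
      · exact root_ee hK b
      · exact root_neg hK h2 (root_ee hK b)
    · exact hH.root hK h2 (hm.trans e) (fun i hi => not_not.1 fun h => hi ((hS i).2 h))
        fun i hi => by rw [h4, pow_two, hsq _ ((hS i).1 hi), one_mul]
    · obtain ⟨D, hDsub, hDcard⟩ := Finset.exists_subset_card_eq
        (s := Finset.univ.filter fun i => u i ≠ 0) (n := 4) (by omega)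
      have hD : ∀ i ∈ D, u i ≠ 0 := fun i hi => (hS i).1 (hDsub hi)
      obtain ⟨a, b, c, d, hab, hac, had, hbc, hbd, hcd, hDe⟩ := Finset.card_eq_four.1 hDcard
      set v : ι → F := fun i => if i = d then -u d else if i ∈ D then u i else 0 with hv
      have hdD : d ∈ D := by simp [hDe]
      have hvroot : Root K v := hH.root hK h2 hDcard
        (fun i hi => by
          simp only [hv]
          rw [if_neg (fun e' : i = d => hi (e' ▸ hdD)), if_neg hi])
        fun i hi => by
          simp only [hv]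
          by_cases hid : i = d
          · rw [if_pos hid, h4, one_mul, neg_sq, pow_two, hsq _ (hD d hdD)]
          · rw [if_neg hid, if_pos hi, h4, one_mul, pow_two, hsq _ (hD i hi)]
      have huv : u ⬝ᵥ v = 2 := by
        rw [dotProduct, ← Finset.sum_subset (Finset.subset_univ D) (fun i _ hi => by
          simp only [hv]
          rw [if_neg (fun e' : i = d => hi (e' ▸ hdD)), if_neg hi, mul_zero]), hDe]
        rw [Finset.sum_insert (by simp [hab, hac, had]), Finset.sum_insert (by simp [hbc, hbd]),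
          Finset.sum_pair hcd]
        simp only [hv, if_neg had, if_neg hbd, if_neg hcd, if_pos]
        rw [if_pos (by simp [hDe]), if_pos (by simp [hDe]), if_pos (by simp [hDe]), mul_neg,
          hsq _ (hD a (by simp [hDe])), hsq _ (hD b (by simp [hDe])),
          hsq _ (hD c (by simp [hDe])), hsq _ (hD d hdD)]
        norm_num
      have hr : reflU v • u = u - v := by
        rw [reflU_smul hvroot.1, huv, show (2 : F) * 2 = 1 by linear_combination h3, one_smul]
      have hlt : Root K (u - v) := by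
        refine ih _ ?_ _ rfl (by rw [← hr, dot_gsmul h2]; exact hu)
        rw [← hm]
        refine Finset.card_lt_card ?_
        rw [Finset.ssubset_iff_subset_ne]
        refine ⟨fun i hi => ?_, fun e' => ?_⟩
        · simp only [Finset.mem_filter, Finset.mem_univ, true_and] at hi ⊢
          intro h0
          apply hi
          have hiD : i ∉ D := fun h => hD i h h0
          simp only [hv, Pi.sub_apply]
          rw [if_neg (fun e' : i = d => hiD (e' ▸ hdD)), if_neg hiD, h0, sub_zero]
        · have := e' ▸ (show a ∈ Finset.univ.filter fun i => u i ≠ 0 from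
            (hS a).2 (hD a (by simp [hDe])))
          simp [hv, had, hDe] at this
      have := root_refl hK h2 hvroot (hr.symm ▸ hlt)
      rwa [← mul_smul, reflU_sq hvroot.1, one_smul] at this

omit [Fintype F] [Fact p.Prime] [CharP F p] in
/-- Isometries moving at most four axes are monomial when short roots are as short as possible. -/
theorem mon_of_good (hK : IsFrame K) (h2 : (2 : F) ≠ 0) (hn : 5 ≤ Fintype.card ι) (hgood : Good K) :
    ∀ g ∈ K, ∀ S : Finset ι, S.card ≤ 4 → (∀ j ∉ S, g • (ee j : ι → F) = ee j) → IsMon g := by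
  classical
  intro g hg S hS hfix
  obtain ⟨o, -, ho⟩ := Finset.exists_mem_notMem_of_card_lt_card (s := S)
    (t := (Finset.univ : Finset ι)) (by rw [Finset.card_univ]; omega)
  have : Nonempty ι := ⟨o⟩
  refine isMon_of_axis h2 fun a => ?_
  by_cases ha : a ∈ S
  swap
  · exact ⟨a, fun l hl => by rw [hfix a ha, ee_ne hl]⟩
  have hroot := root_fix hK h2 hg (hfix o ho) (root_ee hK a)
  set u : ι → F := g • ee a with hu
  have hsupp : ∀ l ∉ S, u l = 0 := by
    intro l hl
    have := dot_gsmul h2 g (ee a) (ee l)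
    rw [hfix l hl, dot_ee, dot_ee] at this
    rw [← hu] at this
    rw [this, ee_ne (i := a) (j := l) fun e => hl (e.symm ▸ ha)]
  rcases hgood u hroot S hS hsupp with h | ⟨b, d, hbd, hz, hb, hd⟩
  · exact h
  exfalso
  have hub : u b ≠ 0 := fun h => by rw [h] at hb; simp at hb
  have hud : u d ≠ 0 := fun h => by rw [h] at hd; simp at hd
  have hbS : b ∈ S := by_contra fun h => hub (hsupp b h)
  have hdS : d ∈ S := by_contra fun h => hud (hsupp d h)
  obtain ⟨π, hπ⟩ := exists_perm_finset (show ({a, o} : Finset ι).card = ({b, d} : Finset ι).card by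
    rw [Finset.card_pair fun e : a = o => ho (e ▸ ha), Finset.card_pair hbd])
  set c := u b
  have hx : Root K (c • (ee a : ι → F) + c • ee o) := by
    refine root_perm_supp hK h2 hroot (T := {b, d}) (fun i hi => hz i (by
      simp at hi; exact hi.1) (by simp at hi; exact hi.2)) (by
        rw [Finset.card_pair hbd]; omega) π fun i => ?_
    have hao : a ≠ o := fun e => ho (e ▸ ha)
    by_cases hi : i ∈ ({a, o} : Finset ι)
    · have hval : ((c • ee a + c • ee o : ι → F)) i = c := by
        simp at hi; rcases hi with rfl | rfl <;> simp [hao, hao.symm]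
      rw [hval]
      have hπi := (hπ i).2 hi
      simp at hπi
      rcases hπi with e | e <;> rw [e]
      exact mul_left_cancel₀ h2 (hb.trans hd.symm)
    · have := mt (hπ i).1 hi
      simp at hi this
      rw [hz _ this.1 this.2]
      simp [hi.1, hi.2]
  have hgx := root_fix hK h2 hg (hfix o ho) hx
  rw [smul_add, gsmul_smul, gsmul_smul, hfix o ho] at hgx
  refine not_shape_three hbd (a := b) (b := d) (c := o) (fun e => ho (e ▸ hbS))
    (fun e => ho (e ▸ hdS)) ?_ ?_ ?_ (hgood _ hgx {b, d, o} (Finset.card_le_three.trans (by omega))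
      fun i hi => ?_)
  · simp [show b ≠ o from fun e => ho (e ▸ hbS), hub, c]
    exact hub
  · simp [show d ≠ o from fun e => ho (e ▸ hdS), hub, hud, c]
    exact hud
  · simp [← hu, hsupp o ho, hub, c]
  · simp at hi
    simp [hi.2.2, ← hu, hz i hi.1 hi.2.1]

/-- The short roots are as short as possible. -/
theorem good_of_not_all (hK : IsFrame K) (hF : Fintype.card F = p) (h2 : (2 : F) ≠ 0) (hn : 5 ≤ Fintype.card ι)
    (hfour : 5 ≤ p → FourCases K) (hnall : ¬ ∀ u : ι → F, u ⬝ᵥ u = 1 → Root K u) : Good K := by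
  by_contra hg
  have hp2 : p ≠ 2 := fun h => h2 (by
    have := CharP.cast_eq_zero F p
    rw [h] at this; exact_mod_cast this)
  rcases Nat.lt_or_ge p 5 with hp | hp
  · have hp3 : p = 3 := by
      have hpr := (Fact.out : p.Prime)
      interval_cases p <;> first | omega | norm_num at hpr
    subst hp3
    exact hnall (good_or_all_three hK hF (by exact_mod_cast CharP.cast_eq_zero F 3) hn hg)
  · by_cases hb : Big K
    · exact hnall (all_of_big hK hp hF hn hb)
    · exact not_half hK hp hF hn (hfour hp) hb (half_of_not_good_five hK hp hF hn (hfour hp) hb hg)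

/-- Isometries in `K` moving at most four axes are monomial. -/
theorem mon_four (hK : IsFrame K) (hF : Fintype.card F = p) (h2 : (2 : F) ≠ 0)
    (hn : 7 ≤ Fintype.card ι)
    (hne : ¬ eichGroup (fQ_nondegenerate (F := F) (ι := ι) h2) ≤ K) :
    ∀ g ∈ K, ∀ S : Finset ι, S.card ≤ 4 → (∀ j ∉ S, g • (ee j : ι → F) = ee j) → IsMon g :=
  mon_of_good hK h2 (by omega) (good_of_not_all hK hF h2 (by omega)
    (fun hp h3 _ hu _ hT hz hnz => four_cases hK hp hF hn h3 hu hT hz hnz)
    fun h => hne (le_of_all_root hK h2 (by omega) h))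

end CfsgLib.Geo.Frame
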